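import Cfsg.Agent.Lib.ChevStr.Weyl
import Cfsg.Agent.Lib.Coxeter.Finite

/-!
The Weyl group on the roots is the presented Coxeter group, through the faithful reflection
representation on functionals.
-/

set_option autoImplicit false

namespace CfsgLib.ChevStr

open Cfsg.Lie CfsgLib.CoxeterFinite

variable {D : ChevalleyDatum} {R : RootData D}

/-- A Coxeter matrix together with an isomorphism of its group with the Weyl group on the roots. -/
structure CoxData (hR : ReflData R) where
  M : CoxeterMatrix (Fin D.rank)
  toPerm : M.Group →* Equiv.Perm (Fin D.nroots)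
  injective : Function.Injective toPerm
  toPerm_simple : ∀ i, toPerm (M.simple i) = hR.sPerm i

namespace ReflData

variable (hR : ReflData R) (C : List (List ℤ))
  (hC : ∀ a j : Fin D.rank, ent C a.val j.val = D.cartan a.val (D.simple j.val))

include hC

theorem pairing_refl (a : Fin D.rank) (f : Fin D.rank → ℤ) (s : Fin D.nroots) :
    pairing (refl C a.val f) (R.α (hR.sPerm a s)) = pairing f (R.α s) := by
  rw [hR.sPerm_val, hR.α_refl a s.val s.isLt, map_sub, map_zsmul, pairing_single, smul_eq_mul]
  have h1 : refl C a.val f = fun j => f j - f a * D.cartan a.val (D.simple j.val) := by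
    funext j
    show f j - (if h : a.val < D.rank then f ⟨a.val, h⟩ else 0) * ent C a.val j.val = _
    rw [dif_pos a.isLt, hC a j]
  rw [h1, R.cartan_sum a s.isLt]
  have h2 : pairing (fun j => f j - f a * D.cartan a.val (D.simple j.val)) (R.α s) =
      pairing f (R.α s) - f a * pairing (fun j => D.cartan a.val (D.simple j.val)) (R.α s) := by
    simp only [pairing_apply, sub_mul, Finset.sum_sub_distrib, Finset.mul_sum, mul_assoc]
  have h3 : D.cartan a.val (D.simple a.val) = 2 := hR.cartan_self a
  rw [h2]
  simp only [h3]
  ring

theorem pairing_word (L : List (Fin D.rank)) (f : Fin D.rank → ℤ) (s : Fin D.nroots) :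
    pairing ((L.map fun a : Fin D.rank => refl (n := D.rank) C a.val).prod f)
      (R.α ((L.map hR.sPerm).prod s)) = pairing f (R.α s) := by
  induction L with
  | nil => simp
  | cons a L ih =>
    simp only [List.map_cons, List.prod_cons, Module.End.mul_apply, Equiv.Perm.mul_apply]
    rw [hR.pairing_refl C hC a, ih]

/-- The Coxeter presentation of the Weyl group on the roots, from the certificates. -/
noncomputable def coxData (M : CoxeterMatrix (Fin D.rank))
    (hrel : checkRel D.rank (mfun M) C = true) (hinj : Function.Injective (reflRep M C hrel)) :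
    CoxData hR := by
  have hlift : M.IsLiftable hR.sPerm := by
    intro i j
    ext s
    refine congrArg Fin.val (Fin.ext (R.α_inj (Fin.isLt _) s.isLt ?_) :
      (((hR.sPerm i * hR.sPerm j) ^ M i j) : Equiv.Perm _) s = s)
    funext k
    have h1 := hR.pairing_word C hC (List.replicate (M i j) [i, j]).flatten (Pi.single k 1) s
    rw [map_replicate_flatten_prod, map_replicate_flatten_prod] at h1
    have h2 : (([i, j].map fun a : Fin D.rank => refl (n := D.rank) C a.val).prod ^ M i j) = 1 := by
      simpa using refl_liftable M C hrel i j
    rw [h2, Module.End.one_apply] at h1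
    simpa [pairing_apply, Pi.single_apply] using h1
  refine ⟨M, M.toCoxeterSystem.lift ⟨_, hlift⟩, ?_, fun i =>
    M.toCoxeterSystem.lift_apply_simple hlift i⟩
  rw [injective_iff_map_eq_one]
  intro w hw
  obtain ⟨L, hL⟩ := M.toCoxeterSystem.wordProd_surjective w
  apply hinj
  rw [map_one]
  refine LinearMap.ext fun f => funext fun k => ?_
  have hp : (L.map hR.sPerm).prod = 1 := by
    rw [← hw, ← hL, CoxeterSystem.wordProd, map_list_prod, List.map_map]
    exact congrArg List.prod
      (List.map_congr_left fun a _ => (M.toCoxeterSystem.lift_apply_simple hlift a).symm)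
  have hr : reflRep M C hrel w = (L.map fun a : Fin D.rank => refl (n := D.rank) C a.val).prod := by
    rw [← hL, CoxeterSystem.wordProd, map_list_prod, List.map_map]
    exact congrArg List.prod
      (List.map_congr_left fun a _ => M.toCoxeterSystem.lift_apply_simple (refl_liftable M C hrel) a)
  have h1 := hR.pairing_word C hC L f ⟨D.simple k.val, R.simple_lt k⟩
  rw [hp, ← hr, Equiv.Perm.one_apply, R.α_simple, pairing_single, pairing_single] at h1
  simpa using h1

end ReflData

namespace CoxData

variable {hR : ReflData R} (W : CoxData hR)

theorem range_toPerm : W.toPerm.range = hR.weyl := by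
  rw [MonoidHom.range_eq_map, ← W.M.toCoxeterSystem.subgroup_closure_range_simple,
    MonoidHom.map_closure, ← Set.range_comp, ReflData.weyl]
  congr 2
  exact funext W.toPerm_simple

/-- The Coxeter group is the Weyl group on the roots. -/
noncomputable def equivWeyl : W.M.Group ≃* hR.weyl :=
  (MonoidHom.ofInjective W.injective).trans (MulEquiv.subgroupCongr W.range_toPerm)

end CoxData

end CfsgLib.ChevStr
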