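import Cfsg.Agent.Lib.ChevStr.RootTables
import Cfsg.Agent.Lib.ChevStr.WeylCoxeter
import Cfsg.Agent.Lib.Coxeter.FiniteOrders

/-! The Weyl groups of the seven tabulated types, checked by the kernel. -/

set_option autoImplicit false

namespace CfsgLib.ChevStr

open Cfsg.Lie

/-- The reflection check of one fundamental root (one kernel check each, to bound the memory). -/
def reflRow {D : ChevalleyDatum} (R : RootData D) (i : Fin D.rank) : Bool :=
    decide (D.cartan i.val (D.simple i.val) = 2) &&
    (List.range D.nroots).all fun s =>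
      decide (D.reflectRoot i.val s < D.nroots) &&
      ((List.finRange D.rank).all fun j => decide (R.α (D.reflectRoot i.val s) j =
        R.α s j - if j = i then D.cartan i.val s else 0)) &&
      decide (((List.finRange D.rank).all fun j => decide (j = i) || decide (R.α s j = 0)) = true →
        s = D.simple i.val ∨ s = D.neg (D.simple i.val)) &&
      (decide ((D.coroot.getD s #[]).getD i.val 0 = 0) == decide (R.α s i = 0)) &&
      decide (D.IsPosRoot s → s ≠ D.simple i.val → R.α s i ≠ 0 →
        ((List.finRange D.rank).any fun j => decide (0 < R.α s j) && decide (0 < D.cartan j.val s)) = true)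

theorem reflDataG2 : ReflData rootDataG2 := ReflData.ofCheck (by decide +kernel)

theorem cartanEqG2 : ∀ a j : Fin chevG2.rank,
    CfsgLib.CoxeterFinite.ent CfsgLib.CoxeterFinite.g2Cartan a.val j.val =
      chevG2.cartan a.val (chevG2.simple j.val) := by decide +kernel

/-- The Coxeter presentation of the Weyl group of type G2. -/
noncomputable def coxDataG2 : CoxData reflDataG2 :=
  reflDataG2.coxData _ cartanEqG2 CoxeterMatrix.G₂ CfsgLib.CoxeterFinite.g2_rel
    CfsgLib.CoxeterFinite.g2_faithful

theorem reflDataB2 : ReflData rootDataB2 := ReflData.ofCheck (by decide +kernel)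

theorem cartanEqB2 : ∀ a j : Fin chevB2.rank,
    CfsgLib.CoxeterFinite.ent CfsgLib.CoxeterFinite.b2Cartan a.val j.val =
      chevB2.cartan a.val (chevB2.simple j.val) := by decide +kernel

/-- The Coxeter presentation of the Weyl group of type B2. -/
noncomputable def coxDataB2 : CoxData reflDataB2 :=
  reflDataB2.coxData _ cartanEqB2 (CoxeterMatrix.B 2) CfsgLib.CoxeterFinite.b2_rel
    CfsgLib.CoxeterFinite.b2_faithful

theorem reflDataD4 : ReflData rootDataD4 := ReflData.ofCheck (by decide +kernel)

theorem cartanEqD4 : ∀ a j : Fin chevD4.rank,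
    CfsgLib.CoxeterFinite.ent CfsgLib.CoxeterFinite.d4Cartan a.val j.val =
      chevD4.cartan a.val (chevD4.simple j.val) := by decide +kernel

/-- The Coxeter presentation of the Weyl group of type D4. -/
noncomputable def coxDataD4 : CoxData reflDataD4 :=
  reflDataD4.coxData _ cartanEqD4 Cfsg.Lie.coxeterD4 CfsgLib.CoxeterFinite.d4_rel
    CfsgLib.CoxeterFinite.d4_faithful

theorem reflDataF4 : ReflData rootDataF4 := ReflData.ofCheck (by decide +kernel)

theorem cartanEqF4 : ∀ a j : Fin chevF4.rank,
    CfsgLib.CoxeterFinite.ent CfsgLib.CoxeterFinite.f4Cartan a.val j.val =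
      chevF4.cartan a.val (chevF4.simple j.val) := by decide +kernel

/-- The Coxeter presentation of the Weyl group of type F4. -/
noncomputable def coxDataF4 : CoxData reflDataF4 :=
  reflDataF4.coxData _ cartanEqF4 CoxeterMatrix.F₄ CfsgLib.CoxeterFinite.f4_rel
    CfsgLib.CoxeterFinite.f4_faithful

theorem reflDataE6 : ReflData rootDataE6 := ReflData.ofCheck (by decide +kernel)

theorem cartanEqE6 : ∀ a j : Fin chevE6.rank,
    CfsgLib.CoxeterFinite.ent CfsgLib.CoxeterFinite.e6Cartan a.val j.val =
      chevE6.cartan a.val (chevE6.simple j.val) := by decide +kernel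

/-- The Coxeter presentation of the Weyl group of type E6. -/
noncomputable def coxDataE6 : CoxData reflDataE6 :=
  reflDataE6.coxData _ cartanEqE6 CoxeterMatrix.E₆ CfsgLib.CoxeterFinite.e6_rel
    CfsgLib.CoxeterFinite.e6_faithful

theorem reflDataE7 : ReflData rootDataE7 := ReflData.ofCheck (by decide +kernel)

theorem cartanEqE7 : ∀ a j : Fin chevE7.rank,
    CfsgLib.CoxeterFinite.ent CfsgLib.CoxeterFinite.e7Cartan a.val j.val =
      chevE7.cartan a.val (chevE7.simple j.val) := by decide +kernel

/-- The Coxeter presentation of the Weyl group of type E7. -/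
noncomputable def coxDataE7 : CoxData reflDataE7 :=
  reflDataE7.coxData _ cartanEqE7 CoxeterMatrix.E₇ CfsgLib.CoxeterFinite.e7_rel
    CfsgLib.CoxeterFinite.e7_faithful

theorem reflRowE8_0 : reflRow rootDataE8 ⟨0, by decide⟩ = true := by decide +kernel

theorem reflRowE8_1 : reflRow rootDataE8 ⟨1, by decide⟩ = true := by decide +kernel

theorem reflRowE8_2 : reflRow rootDataE8 ⟨2, by decide⟩ = true := by decide +kernel

theorem reflRowE8_3 : reflRow rootDataE8 ⟨3, by decide⟩ = true := by decide +kernel

theorem reflRowE8_4 : reflRow rootDataE8 ⟨4, by decide⟩ = true := by decide +kernel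

theorem reflRowE8_5 : reflRow rootDataE8 ⟨5, by decide⟩ = true := by decide +kernel

theorem reflRowE8_6 : reflRow rootDataE8 ⟨6, by decide⟩ = true := by decide +kernel

theorem reflRowE8_7 : reflRow rootDataE8 ⟨7, by decide⟩ = true := by decide +kernel

theorem reflDataE8 : ReflData rootDataE8 :=
  ReflData.ofCheck <| List.all_eq_true.2 fun i _ => match i with
    | ⟨0, _⟩ => reflRowE8_0
    | ⟨1, _⟩ => reflRowE8_1
    | ⟨2, _⟩ => reflRowE8_2
    | ⟨3, _⟩ => reflRowE8_3
    | ⟨4, _⟩ => reflRowE8_4
    | ⟨5, _⟩ => reflRowE8_5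
    | ⟨6, _⟩ => reflRowE8_6
    | ⟨7, _⟩ => reflRowE8_7
    | ⟨k + 8, hi⟩ => absurd (show k + 8 < 8 from hi) (by omega)

theorem cartanEqE8 : ∀ a j : Fin chevE8.rank,
    CfsgLib.CoxeterFinite.ent CfsgLib.CoxeterFinite.e8Cartan a.val j.val =
      chevE8.cartan a.val (chevE8.simple j.val) := by decide +kernel

/-- The Coxeter presentation of the Weyl group of type E8. -/
noncomputable def coxDataE8 : CoxData reflDataE8 :=
  reflDataE8.coxData _ cartanEqE8 CoxeterMatrix.E₈ CfsgLib.CoxeterFinite.e8_rel
    CfsgLib.CoxeterFinite.e8_faithful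

/-- Every tabulated type has root data with reflections and a presented Weyl group. -/
theorem weylData_of_mem {D : ChevalleyDatum}
    (hD : D ∈ [chevG2, chevB2, chevD4, chevF4, chevE6, chevE7, chevE8]) :
    ∃ (R : RootData D) (hR : ReflData R), Nonempty (CoxData hR) := by
  simp only [List.mem_cons, List.not_mem_nil, or_false] at hD
  rcases hD with h | h | h | h | h | h | h <;> subst h
  exacts [⟨_, _, ⟨coxDataG2⟩⟩, ⟨_, _, ⟨coxDataB2⟩⟩, ⟨_, _, ⟨coxDataD4⟩⟩, ⟨_, _, ⟨coxDataF4⟩⟩,
    ⟨_, _, ⟨coxDataE6⟩⟩, ⟨_, _, ⟨coxDataE7⟩⟩, ⟨_, _, ⟨coxDataE8⟩⟩]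

end CfsgLib.ChevStr
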