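import Cfsg.Agent.Lib.ChevStr.Instance
import Cfsg.Agent.Lib.ChevStr.WeylTables
import Cfsg.Agent.Lib.Chev.CertG2
import Cfsg.Agent.Lib.Chev.CertB2
import Cfsg.Agent.Lib.Chev.CertD4
import Cfsg.Agent.Lib.Chev.CertF4
import Cfsg.Agent.Lib.Chev.CertE6
import Cfsg.Agent.Lib.Chev.CertE7
import Cfsg.Agent.Lib.Chev.CertE8

/-! The bundle `ChevCore` for the seven tabulated types. -/

set_option autoImplicit false

namespace CfsgLib.ChevStr

open Cfsg.Lie CfsgLib.Chev

/-- The order of a product of two fundamental reflections, read off the Cartan integers. -/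
def coxNum (T : Data) (i j : ℕ) : ℕ :=
  if i = j then 1 else
    match ((T.row (T.simp' i)).car.getD j 0 * (T.row (T.simp' j)).car.getD i 0).toNat with
    | 0 => 2
    | 1 => 3
    | 2 => 4
    | _ => 6

/-- The relations with first reflection `i` (one kernel check each, to bound the memory). -/
def relRow (T : Data) (mf : ℕ → ℕ → ℕ) (i : ℕ) : Bool :=
  (List.range T.l).all fun j => relOK T i j (mf i j)

theorem coxMfG2 : ∀ i j : Fin chevG2.rank,
    Nat.beq (coxDataG2.M i j) (coxNum Chev.G2.cert.T i.val j.val) = true := by decide +kernel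

theorem relCheckG2 : relCheck Chev.G2.cert.T (coxNum Chev.G2.cert.T) = true := by decide +kernel

/-- The structure bundle of type G2. -/
noncomputable def coreG2 (F : Type*) [Field F] : ChevCore chevG2 F :=
  coreOfCert Chev.G2.cert coxDataG2 _ (fun i j => Nat.eq_of_beq_eq_true (coxMfG2 i j)) relCheckG2 F

theorem coxMfB2 : ∀ i j : Fin chevB2.rank,
    Nat.beq (coxDataB2.M i j) (coxNum Chev.B2.cert.T i.val j.val) = true := by decide +kernel

theorem relCheckB2 : relCheck Chev.B2.cert.T (coxNum Chev.B2.cert.T) = true := by decide +kernel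

/-- The structure bundle of type B2. -/
noncomputable def coreB2 (F : Type*) [Field F] : ChevCore chevB2 F :=
  coreOfCert Chev.B2.cert coxDataB2 _ (fun i j => Nat.eq_of_beq_eq_true (coxMfB2 i j)) relCheckB2 F

theorem coxMfD4 : ∀ i j : Fin chevD4.rank,
    Nat.beq (coxDataD4.M i j) (coxNum Chev.D4.cert.T i.val j.val) = true := by decide +kernel

theorem relCheckD4 : relCheck Chev.D4.cert.T (coxNum Chev.D4.cert.T) = true := by decide +kernel

/-- The structure bundle of type D4. -/
noncomputable def coreD4 (F : Type*) [Field F] : ChevCore chevD4 F :=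
  coreOfCert Chev.D4.cert coxDataD4 _ (fun i j => Nat.eq_of_beq_eq_true (coxMfD4 i j)) relCheckD4 F

theorem coxMfF4 : ∀ i j : Fin chevF4.rank,
    Nat.beq (coxDataF4.M i j) (coxNum Chev.F4.cert.T i.val j.val) = true := by decide +kernel

theorem relCheckF4 : relCheck Chev.F4.cert.T (coxNum Chev.F4.cert.T) = true := by decide +kernel

/-- The structure bundle of type F4. -/
noncomputable def coreF4 (F : Type*) [Field F] : ChevCore chevF4 F :=
  coreOfCert Chev.F4.cert coxDataF4 _ (fun i j => Nat.eq_of_beq_eq_true (coxMfF4 i j)) relCheckF4 F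

theorem coxMfE6 : ∀ i j : Fin chevE6.rank,
    Nat.beq (coxDataE6.M i j) (coxNum Chev.E6.cert.T i.val j.val) = true := by decide +kernel

theorem relCheckE6 : relCheck Chev.E6.cert.T (coxNum Chev.E6.cert.T) = true := by decide +kernel

/-- The structure bundle of type E6. -/
noncomputable def coreE6 (F : Type*) [Field F] : ChevCore chevE6 F :=
  coreOfCert Chev.E6.cert coxDataE6 _ (fun i j => Nat.eq_of_beq_eq_true (coxMfE6 i j)) relCheckE6 F

theorem coxMfE7 : ∀ i j : Fin chevE7.rank,
    Nat.beq (coxDataE7.M i j) (coxNum Chev.E7.cert.T i.val j.val) = true := by decide +kernel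

theorem relCheckE7 : relCheck Chev.E7.cert.T (coxNum Chev.E7.cert.T) = true := by decide +kernel

/-- The structure bundle of type E7. -/
noncomputable def coreE7 (F : Type*) [Field F] : ChevCore chevE7 F :=
  coreOfCert Chev.E7.cert coxDataE7 _ (fun i j => Nat.eq_of_beq_eq_true (coxMfE7 i j)) relCheckE7 F

theorem coxMfE8 : ∀ i j : Fin chevE8.rank,
    Nat.beq (coxDataE8.M i j) (coxNum Chev.E8.cert.T i.val j.val) = true := by decide +kernel

theorem relRowE8_0 : relRow Chev.E8.cert.T (coxNum Chev.E8.cert.T) 0 = true := by decide +kernel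

theorem relRowE8_1 : relRow Chev.E8.cert.T (coxNum Chev.E8.cert.T) 1 = true := by decide +kernel

theorem relRowE8_2 : relRow Chev.E8.cert.T (coxNum Chev.E8.cert.T) 2 = true := by decide +kernel

theorem relRowE8_3 : relRow Chev.E8.cert.T (coxNum Chev.E8.cert.T) 3 = true := by decide +kernel

theorem relRowE8_4 : relRow Chev.E8.cert.T (coxNum Chev.E8.cert.T) 4 = true := by decide +kernel

theorem relRowE8_5 : relRow Chev.E8.cert.T (coxNum Chev.E8.cert.T) 5 = true := by decide +kernel

theorem relRowE8_6 : relRow Chev.E8.cert.T (coxNum Chev.E8.cert.T) 6 = true := by decide +kernel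

theorem relRowE8_7 : relRow Chev.E8.cert.T (coxNum Chev.E8.cert.T) 7 = true := by decide +kernel

theorem relCheckE8 : relCheck Chev.E8.cert.T (coxNum Chev.E8.cert.T) = true :=
  List.all_eq_true.2 fun i hi => match i, List.mem_range.1 hi with
    | 0, _ => relRowE8_0
    | 1, _ => relRowE8_1
    | 2, _ => relRowE8_2
    | 3, _ => relRowE8_3
    | 4, _ => relRowE8_4
    | 5, _ => relRowE8_5
    | 6, _ => relRowE8_6
    | 7, _ => relRowE8_7
    | k + 8, hi => absurd (show k + 8 < 8 from hi) (by omega)

/-- The structure bundle of type E8. -/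
noncomputable def coreE8 (F : Type*) [Field F] : ChevCore chevE8 F :=
  coreOfCert Chev.E8.cert coxDataE8 _ (fun i j => Nat.eq_of_beq_eq_true (coxMfE8 i j)) relCheckE8 F

end CfsgLib.ChevStr
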