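import Cfsg.Agent.Lib.ChevStr.InstanceTables
import Mathlib.GroupTheory.SpecificGroups.Cyclic
import Mathlib.RingTheory.IntegralDomain

/-!
The order of the torus of the seven tabulated types over a finite field, from a diagonal form of
the Cartan matrix by unimodular row and column operations.
-/

set_option autoImplicit false

namespace CfsgLib.ChevStr

open Cfsg.Lie

/-- Entry `(i, j)` of a matrix given by rows. -/
def tableEnt (M : List (List ℤ)) (i j : ℕ) : ℤ := (M.getD i []).getD j 0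

/-- `P` and `Q` are unimodular and `P * diag d * Q` is the transposed Cartan matrix. -/
def smithCheck (D : ChevalleyDatum) (P P' Q Q' : List (List ℤ)) (d : List ℕ) : Bool :=
  let ix := List.finRange D.rank
  ix.all fun i => ix.all fun j =>
    decide (∑ a : Fin D.rank, tableEnt P i.val a.val * (d.getD a.val 0 : ℤ) * tableEnt Q a.val j.val =
      D.cartan j.val (D.simple i.val)) &&
    decide (∑ a : Fin D.rank, tableEnt P' i.val a.val * tableEnt P a.val j.val = if i = j then 1 else 0) &&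
    decide (∑ a : Fin D.rank, tableEnt Q' i.val a.val * tableEnt Q a.val j.val = if i = j then 1 else 0) &&
    decide (∑ a : Fin D.rank, tableEnt Q i.val a.val * tableEnt Q' a.val j.val = if i = j then 1 else 0)

/-- The monomial map of an integer matrix on tuples. -/
def monMap {n : ℕ} {G : Type*} [CommGroup G] (M : Fin n → Fin n → ℤ) (c : Fin n → G) : Fin n → G :=
  fun i => ∏ j, c j ^ M i j

theorem monMap_monMap {n : ℕ} {G : Type*} [CommGroup G] (M N : Fin n → Fin n → ℤ) (c : Fin n → G) :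
    monMap M (monMap N c) = monMap (fun i j => ∑ a, M i a * N a j) c := by
  funext i
  have h : ∀ (s : Finset (Fin n)) (x : G) (f : Fin n → ℤ), ∏ a ∈ s, x ^ f a = x ^ ∑ a ∈ s, f a := by
    intro s x f
    induction s using Finset.induction_on with
    | empty => simp
    | insert a s ha ih => rw [Finset.prod_insert ha, Finset.sum_insert ha, zpow_add, ih]
  simp only [monMap, ← Finset.prod_zpow]
  rw [Finset.prod_comm]
  refine Finset.prod_congr rfl fun j _ => ?_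
  rw [← h]
  exact Finset.prod_congr rfl fun a _ => by rw [← zpow_mul, mul_comm]

theorem monMap_one {n : ℕ} {G : Type*} [CommGroup G] (c : Fin n → G) :
    monMap (fun i j => if i = j then (1 : ℤ) else 0) c = c := by
  funext i
  rw [monMap, Fintype.prod_eq_single i fun j hj => by simp [Ne.symm hj]]
  simp

theorem monMap_map_one {n : ℕ} {G : Type*} [CommGroup G] (M : Fin n → Fin n → ℤ) :
    monMap M (fun _ => (1 : G)) = fun _ => 1 := by
  funext i; simp [monMap]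

namespace ChevCore

variable {D : ChevalleyDatum} {F : Type*} [Field F] (C : ChevCore D F)

theorem torus_eq_one_iff (c : Fin D.rank → Fˣ) :
    C.R.torus c = 1 ↔ monMap (fun i j => D.cartan j.val (D.simple i.val)) c = fun _ => 1 := by
  have hsimple : ∀ i : Fin D.rank, monMap (fun i j => D.cartan j.val (D.simple i.val)) c i =
      C.R.torusChar c (C.R.α (D.simple i.val)) := fun i => by
    rw [C.R.torusChar_root c (C.R.simple_lt i)]; rfl
  constructor
  · intro h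
    funext i
    have h0 : (C.R.torus c : Matrix D.Idx D.Idx F) = 1 := by rw [h]; rfl
    have h1 := congrFun (congrFun h0 (Sum.inr ⟨D.simple i.val, C.R.simple_lt i⟩)) (Sum.inr ⟨D.simple i.val, C.R.simple_lt i⟩)
    rw [C.R.coe_torus, Matrix.diagonal_apply_eq, Matrix.one_apply_eq, C.R.wt_inr] at h1
    rw [hsimple]
    exact Units.ext h1
  · intro h
    let χ : Multiplicative (Fin D.rank → ℤ) →* Fˣ :=
      { toFun := fun v => C.R.torusChar c v.toAdd
        map_one' := C.R.torusChar_zero c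
        map_mul' := fun v w => C.R.torusChar_add c v.toAdd w.toAdd }
    have hall : ∀ v, C.R.torusChar c v = 1 := by
      intro v
      show χ (Multiplicative.ofAdd v) = 1
      have : v = ∑ i, v i • Pi.single i (1 : ℤ) := by
        funext k; simp [Finset.sum_apply, Pi.single_apply]
      rw [this, ofAdd_sum, map_prod]
      refine Finset.prod_eq_one fun i _ => ?_
      show C.R.torusChar c (v i • Pi.single i (1 : ℤ)) = 1
      rw [C.R.torusChar_zsmul, ← C.R.α_simple i, ← hsimple, h, one_zpow]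
    refine Units.ext ?_
    rw [C.R.coe_torus]
    simp [hall, Matrix.diagonal_one]

include C in
theorem card_diagonal [Fintype F] {P P' Q Q' : List (List ℤ)} {d : List ℕ}
    (hs : smithCheck D P P' Q Q' d = true) :
    (∏ a : Fin D.rank, Nat.gcd (Fintype.card F - 1) (d.getD a.val 0)) *
      Nat.card (D.diagonalSubgroup F) = (Fintype.card F - 1) ^ D.rank := by
  classical
  simp only [smithCheck, List.all_eq_true, List.mem_finRange, true_implies, Bool.and_eq_true,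
    decide_eq_true_eq] at hs
  set p := fun i j : Fin D.rank => tableEnt P i.val j.val
  set p' := fun i j : Fin D.rank => tableEnt P' i.val j.val
  set q := fun i j : Fin D.rank => tableEnt Q i.val j.val
  set q' := fun i j : Fin D.rank => tableEnt Q' i.val j.val
  set dd := fun i j : Fin D.rank => if i = j then (d.getD i.val 0 : ℤ) else 0
  have hB : ∀ c : Fin D.rank → Fˣ, monMap (fun i j => D.cartan j.val (D.simple i.val)) c =
      monMap p (monMap dd (monMap q c)) := by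
    intro c
    rw [monMap_monMap, monMap_monMap]
    congr 1
    funext i j
    rw [← (hs i j).1.1.1]
    refine Finset.sum_congr rfl fun a _ => ?_
    rw [Fintype.sum_eq_single a fun b hb => by simp [dd, hb]]
    simp [dd, p, q, mul_assoc]
  have hP : ∀ c : Fin D.rank → Fˣ, monMap p' (monMap p c) = c := fun c => by
    rw [monMap_monMap]
    conv_rhs => rw [← monMap_one c]
    congr 1; funext i j; exact (hs i j).1.1.2
  have hQ : ∀ c : Fin D.rank → Fˣ, monMap q' (monMap q c) = c := fun c => by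
    rw [monMap_monMap]
    conv_rhs => rw [← monMap_one c]
    congr 1; funext i j; exact (hs i j).1.2
  have hQ' : ∀ c : Fin D.rank → Fˣ, monMap q (monMap q' c) = c := fun c => by
    rw [monMap_monMap]
    conv_rhs => rw [← monMap_one c]
    congr 1; funext i j; exact (hs i j).2
  have hdd : ∀ (y : Fin D.rank → Fˣ) (a : Fin D.rank), monMap dd y a = y a ^ d.getD a.val 0 := by
    intro y a
    rw [monMap, Fintype.prod_eq_single a fun b hb => by simp [dd, Ne.symm hb]]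
    simp [dd]
  have hker : ∀ c, c ∈ (C.R.torus (F := F)).ker ↔
      ∀ a, monMap q c a ∈ (powMonoidHom (d.getD a.val 0) : Fˣ →* Fˣ).ker := by
    intro c
    rw [MonoidHom.mem_ker, C.torus_eq_one_iff, hB]
    constructor
    · intro h a
      have h1 := congrArg (monMap p') h
      rw [hP, monMap_map_one] at h1
      rw [MonoidHom.mem_ker, powMonoidHom_apply, ← hdd, h1]
    · intro h
      have h1 : monMap dd (monMap q c) = fun _ => 1 := funext fun a => by
        rw [hdd]; exact h a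
      rw [h1, monMap_map_one]
  let e : (C.R.torus (F := F)).ker ≃
      ((a : Fin D.rank) → (powMonoidHom (d.getD a.val 0) : Fˣ →* Fˣ).ker) :=
    { toFun := fun c a => ⟨monMap q c a, (hker c).1 c.2 a⟩
      invFun := fun y => ⟨monMap q' fun a => (y a : Fˣ), (hker _).2 fun a => by
        rw [hQ']; exact (y a).2⟩
      left_inv := fun c => Subtype.ext (hQ c)
      right_inv := fun y => funext fun a => Subtype.ext (congrFun (hQ' _) a) }
  have hcard : Nat.card Fˣ = Fintype.card F - 1 := by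
    rw [Nat.card_units, Nat.card_eq_fintype_card]
  have h1 := (C.R.torus (F := F)).ker.card_mul_index
  rw [Subgroup.index_ker, Nat.card_congr e, Nat.card_pi, Nat.card_pi] at h1
  simp only [IsCyclic.card_powMonoidHom_ker, hcard, Finset.prod_const, Finset.card_univ,
    Fintype.card_fin] at h1
  rw [C.diagonalSubgroup_eq]
  exact h1

end ChevCore

theorem smithG2 : smithCheck chevG2
    [[-1, 0], [2, 1]]
    [[-1, 0], [2, 1]]
    [[-2, 1], [1, 0]]
    [[0, 1], [1, 2]]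
    [1, 1] = true := by decide +kernel

theorem smithB2 : smithCheck chevB2
    [[-1, 0], [2, 1]]
    [[-1, 0], [2, 1]]
    [[-2, 1], [1, 0]]
    [[0, 1], [1, 2]]
    [1, 2] = true := by decide +kernel

theorem smithD4 : smithCheck chevD4
    [[-1, 0, 0, 0], [2, -1, 0, 0], [-1, 2, -1, 0], [-1, 0, 1, 1]]
    [[-1, 0, 0, 0], [-2, -1, 0, 0], [-3, -2, -1, 0], [2, 2, 1, 1]]
    [[-2, 1, 0, 0], [-3, 0, 1, 1], [-2, 0, 0, 1], [1, 0, 0, 0]]
    [[0, 0, 0, 1], [1, 0, 0, 2], [0, 1, -1, 1], [0, 0, 1, 2]]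
    [1, 1, 2, 2] = true := by decide +kernel

theorem smithF4 : smithCheck chevF4
    [[-1, 0, 0, 0], [2, -1, 0, 0], [-2, 2, -1, 0], [0, -1, 2, 1]]
    [[-1, 0, 0, 0], [-2, -1, 0, 0], [-2, -2, -1, 0], [2, 3, 2, 1]]
    [[-2, 1, 0, 0], [-3, 0, 1, 0], [-2, 0, 0, 1], [1, 0, 0, 0]]
    [[0, 0, 0, 1], [1, 0, 0, 2], [0, 1, 0, 3], [0, 0, 1, 2]]
    [1, 1, 1, 1] = true := by decide +kernel

theorem smithE6 : smithCheck chevE6
    [[-1, 0, 0, 0, 0, 0], [0, -1, 0, 0, 0, 0], [2, -1, 0, 0, -1, 0], [-1, 2, -1, 0, 0, 0], [0, -1, 2, -1, 0, 0], [0, 0, -1, 2, 4, -1]]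
    [[-1, 0, 0, 0, 0, 0], [0, -1, 0, 0, 0, 0], [1, -2, 0, -1, 0, 0], [2, -3, 0, -2, -1, 0], [-2, 1, -1, 0, 0, 0], [-5, 0, -4, -3, -2, -1]]
    [[-2, 0, 1, 0, 0, 0], [0, -2, 0, 1, 0, 0], [2, -3, 0, 0, 1, 0], [4, -4, 0, 0, 0, 1], [-3, 2, 0, 0, 0, 0], [-2, 1, 0, 0, 0, 0]]
    [[0, 0, 0, 0, 1, -2], [0, 0, 0, 0, 2, -3], [1, 0, 0, 0, 2, -4], [0, 1, 0, 0, 4, -6], [0, 0, 1, 0, 4, -5], [0, 0, 0, 1, 4, -4]]
    [1, 1, 1, 1, 1, 3] = true := by decide +kernel

theorem smithE7 : smithCheck chevE7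
    [[-1, 0, 0, 0, 0, 0, 0], [0, -1, 0, 0, 0, 0, 0], [2, -1, 0, 0, 0, -1, 0], [-1, 2, -1, 0, 0, 0, 0], [0, -1, 2, -1, 0, 0, 0], [0, 0, -1, 2, -1, 0, 0], [0, 0, 0, -1, 2, 4, -1]]
    [[-1, 0, 0, 0, 0, 0, 0], [0, -1, 0, 0, 0, 0, 0], [1, -2, 0, -1, 0, 0, 0], [2, -3, 0, -2, -1, 0, 0], [3, -4, 0, -3, -2, -1, 0], [-2, 1, -1, 0, 0, 0, 0], [-4, -1, -4, -4, -3, -2, -1]]
    [[-2, 0, 1, 0, 0, 0, 0], [0, -2, 0, 1, 0, 0, 0], [2, -3, 0, 0, 1, 0, 0], [4, -4, 0, 0, 0, 1, 0], [6, -5, 0, 0, 0, 0, 1], [-3, 2, 0, 0, 0, 0, 0], [-2, 1, 0, 0, 0, 0, 0]]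
    [[0, 0, 0, 0, 0, 1, -2], [0, 0, 0, 0, 0, 2, -3], [1, 0, 0, 0, 0, 2, -4], [0, 1, 0, 0, 0, 4, -6], [0, 0, 1, 0, 0, 4, -5], [0, 0, 0, 1, 0, 4, -4], [0, 0, 0, 0, 1, 4, -3]]
    [1, 1, 1, 1, 1, 1, 2] = true := by decide +kernel

theorem smithE8 : smithCheck chevE8
    [[-1, 0, 0, 0, 0, 0, 0, 0], [0, -1, 0, 0, 0, 0, 0, 0], [2, -1, 0, 0, 0, 0, -1, 0], [-1, 2, -1, 0, 0, 0, 0, 0], [0, -1, 2, -1, 0, 0, 0, 0], [0, 0, -1, 2, -1, 0, 0, 0], [0, 0, 0, -1, 2, -1, 0, 0], [0, 0, 0, 0, -1, 2, 4, -1]]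
    [[-1, 0, 0, 0, 0, 0, 0, 0], [0, -1, 0, 0, 0, 0, 0, 0], [1, -2, 0, -1, 0, 0, 0, 0], [2, -3, 0, -2, -1, 0, 0, 0], [3, -4, 0, -3, -2, -1, 0, 0], [4, -5, 0, -4, -3, -2, -1, 0], [-2, 1, -1, 0, 0, 0, 0, 0], [-3, -2, -4, -5, -4, -3, -2, -1]]
    [[-2, 0, 1, 0, 0, 0, 0, 0], [0, -2, 0, 1, 0, 0, 0, 0], [2, -3, 0, 0, 1, 0, 0, 0], [4, -4, 0, 0, 0, 1, 0, 0], [6, -5, 0, 0, 0, 0, 1, 0], [8, -6, 0, 0, 0, 0, 0, 1], [-3, 2, 0, 0, 0, 0, 0, 0], [-2, 1, 0, 0, 0, 0, 0, 0]]
    [[0, 0, 0, 0, 0, 0, 1, -2], [0, 0, 0, 0, 0, 0, 2, -3], [1, 0, 0, 0, 0, 0, 2, -4], [0, 1, 0, 0, 0, 0, 4, -6], [0, 0, 1, 0, 0, 0, 4, -5], [0, 0, 0, 1, 0, 0, 4, -4], [0, 0, 0, 0, 1, 0, 4, -3], [0, 0, 0, 0, 0, 1, 4, -2]]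
    [1, 1, 1, 1, 1, 1, 1, 1] = true := by decide +kernel

end CfsgLib.ChevStr
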