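import Cfsg.Agent.Lib.ChevStr.Poincare
import Cfsg.Agent.Lib.ChevStr.WeylTables

/-!
The Poincaré polynomials of the seven Weyl groups: `(∑_w q ^ l(w)) (q - 1) ^ rank = ∏ (q ^ d - 1)`.
-/

set_option autoImplicit false

namespace CfsgLib.ChevStr

open Cfsg.Lie

/-- Evaluate a coefficient list (constant term first). -/
def polyEval (p : List ℤ) (q : ℤ) : ℤ := p.foldr (fun c acc => c + q * acc) 0

/-- Add coefficient lists. -/
def polyAdd : List ℤ → List ℤ → List ℤ
  | [], b => b
  | a, [] => a
  | a :: as, b :: bs => (a + b) :: polyAdd as bs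

/-- Multiply coefficient lists. -/
def polyMul : List ℤ → List ℤ → List ℤ
  | [], _ => []
  | a :: as, b => polyAdd (b.map (a * ·)) (0 :: polyMul as b)

/-- The coefficient list of `q ^ d - 1`, for `d > 0`. -/
def cycPoly (d : ℕ) : List ℤ := (-1) :: (List.replicate (d - 1) 0 ++ [1])

theorem polyEval_nil (q : ℤ) : polyEval [] q = 0 := rfl

theorem polyEval_cons (c : ℤ) (p : List ℤ) (q : ℤ) : polyEval (c :: p) q = c + q * polyEval p q := rfl

theorem polyEval_add (q : ℤ) : ∀ a b, polyEval (polyAdd a b) q = polyEval a q + polyEval b q := by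
  intro a
  induction a with
  | nil => intro b; simp [polyAdd, polyEval_nil]
  | cons x a ih =>
    intro b
    cases b with
    | nil => simp [polyAdd, polyEval_nil]
    | cons y b => simp only [polyAdd, polyEval_cons, ih]; ring

theorem polyEval_smul (q c : ℤ) : ∀ b, polyEval (b.map (c * ·)) q = c * polyEval b q := by
  intro b
  induction b with
  | nil => simp [polyEval_nil]
  | cons y b ih => simp only [List.map_cons, polyEval_cons, ih]; ring

theorem polyEval_mul (q : ℤ) : ∀ a b, polyEval (polyMul a b) q = polyEval a q * polyEval b q := by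
  intro a
  induction a with
  | nil => intro b; simp [polyMul, polyEval_nil]
  | cons x a ih =>
    intro b
    simp only [polyMul, polyEval_add, polyEval_smul, polyEval_cons, ih]; ring

theorem polyEval_prod (q : ℤ) : ∀ l : List (List ℤ),
    polyEval (l.foldr polyMul [1]) q = (l.map fun p => polyEval p q).prod := by
  intro l
  induction l with
  | nil => simp [polyEval]
  | cons a l ih => simp [polyEval_mul, ih]

theorem polyEval_cyc {d : ℕ} (hd : 0 < d) (q : ℤ) : polyEval (cycPoly d) q = q ^ d - 1 := by
  obtain ⟨m, rfl⟩ : ∃ m, d = m + 1 := ⟨d - 1, by omega⟩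
  have h : ∀ m : ℕ, polyEval (List.replicate m 0 ++ [1]) q = q ^ m := by
    intro m
    induction m with
    | zero => simp [polyEval]
    | succ m ih => rw [List.replicate_succ, List.cons_append, polyEval_cons, ih, pow_succ]; ring
  rw [cycPoly, polyEval_cons, Nat.add_sub_cancel, h, pow_succ]
  ring

theorem polyEval_eq_sum (q : ℤ) : ∀ (l : List ℕ) (m : ℕ), l.length = m →
    (∑ k ∈ Finset.range m, (l.getD k 0 : ℤ) * q ^ k) = polyEval (l.map (fun n : ℕ => (n : ℤ))) q := by
  intro l
  induction l with
  | nil => intro m h; subst h; simp [polyEval]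
  | cons a l ih =>
    intro m h
    subst h
    rw [List.length_cons, Finset.sum_range_succ', List.map_cons, polyEval_cons, ← ih _ rfl,
      Finset.mul_sum, add_comm]
    refine congrArg₂ (· + ·) (by simp) (Finset.sum_congr rfl fun k _ => ?_)
    simp only [List.getD_cons_succ]
    ring

variable {D : ChevalleyDatum}

/-- The chain of parabolic steps: the product of the level polynomials, if every step checks. -/
def chainPoly (D : ChevalleyDatum) : List (Fin D.rank) → List (Fin D.rank × ℕ) → Option (List (List ℤ))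
  | J, [] => if J.isEmpty then some [] else none
  | J, (a, m) :: rest =>
    if decide (a ∈ J) && (levelsAux D J m [funList (Pi.single a 1 : Fin D.rank → ℤ)]).2 then
      (chainPoly D (J.filter fun x => decide (x ≠ a)) rest).map fun ps =>
        (levelsAux D J m [funList (Pi.single a 1 : Fin D.rank → ℤ)]).1.map (fun n : ℕ => (n : ℤ)) :: ps
    else none

theorem ReflData.poincare_chain {R : RootData D} (hR : ReflData R) (q : ℤ) :
    ∀ (steps : List (Fin D.rank × ℕ)) (J : List (Fin D.rank)) (ps : List (List ℤ)),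
      chainPoly D J steps = some ps →
      hR.poincare J.toFinset q = (ps.map fun p => polyEval p q).prod := by
  intro steps
  induction steps with
  | nil =>
    intro J ps h
    simp only [chainPoly] at h
    split_ifs at h with hJ
    rw [List.isEmpty_iff] at hJ
    cases h
    subst hJ
    simp [hR.poincare_empty]
  | cons am rest ih =>
    intro J ps h
    obtain ⟨a, m⟩ := am
    simp only [chainPoly] at h
    split_ifs at h with hc
    rw [Bool.and_eq_true, decide_eq_true_eq] at hc
    rw [Option.map_eq_some_iff] at h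
    obtain ⟨ps', hps', rfl⟩ := h
    set lv := levelsAux D J m [funList (Pi.single a 1 : Fin D.rank → ℤ)] with hlv
    have hlevel : levelsAux D J m [funList (Pi.single a 1 : Fin D.rank → ℤ)] = (lv.1, true) := by
      rw [← hc.2]
    have hlen : lv.1.length = m := by
      have := (levelsAux_spec J (funList (Pi.single a 1 : Fin D.rank → ℤ)) m 0).1
      rw [hlv, show ([funList (Pi.single a 1 : Fin D.rank → ℤ)]) =
        level D J (funList (Pi.single a 1 : Fin D.rank → ℤ)) 0 from rfl, this]
      simp
    have hJ : (J.filter fun x => decide (x ≠ a)).toFinset = J.toFinset.erase a := by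
      ext x; simp [and_comm]
    rw [hR.poincare_step J a hc.1 m lv.1 hlevel q, polyEval_eq_sum q lv.1 m hlen, ← hJ,
      ih _ _ hps', List.map_cons, List.prod_cons]

theorem ReflData.poincare_of_check {R : RootData D} (hR : ReflData R)
    (steps : List (Fin D.rank × ℕ)) (degs : List ℕ) (hdeg : ∀ d ∈ degs, 0 < d)
    (h : (chainPoly D (List.finRange D.rank) steps).map
        (fun ps => (ps ++ List.replicate D.rank [-1, 1]).foldr polyMul [1]) =
      some ((degs.map cycPoly).foldr polyMul [1])) (q : ℤ) :
    hR.poincare Finset.univ q * (q - 1) ^ D.rank = (degs.map fun d => q ^ d - 1).prod := by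
  rw [Option.map_eq_some_iff] at h
  obtain ⟨ps, hps, he⟩ := h
  have h1 := hR.poincare_chain q steps _ ps hps
  rw [List.toFinset_finRange] at h1
  have h2 := congrArg (fun p => polyEval p q) he
  simp only [polyEval_prod, List.map_append, List.prod_append, List.map_replicate,
    List.prod_replicate, List.map_map] at h2
  rw [show polyEval [-1, 1] q = q - 1 by simp [polyEval]; ring, ← h1] at h2
  rw [h2]
  congr 1
  exact List.map_congr_left fun d hd => polyEval_cyc (hdeg d hd) q

theorem poincareG2 (q : ℤ) :
    reflDataG2.poincare Finset.univ q * (q - 1) ^ chevG2.rank =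
      ([2, 6].map fun d : ℕ => q ^ d - 1).prod :=
  reflDataG2.poincare_of_check [(⟨0, by decide⟩, 6), (⟨1, by decide⟩, 2)] _ (by decide) (by decide +kernel) q

theorem poincareB2 (q : ℤ) :
    reflDataB2.poincare Finset.univ q * (q - 1) ^ chevB2.rank =
      ([2, 4].map fun d : ℕ => q ^ d - 1).prod :=
  reflDataB2.poincare_of_check [(⟨0, by decide⟩, 4), (⟨1, by decide⟩, 2)] _ (by decide) (by decide +kernel) q

theorem poincareD4 (q : ℤ) :
    reflDataD4.poincare Finset.univ q * (q - 1) ^ chevD4.rank =
      ([2, 4, 4, 6].map fun d : ℕ => q ^ d - 1).prod :=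
  reflDataD4.poincare_of_check [(⟨0, by decide⟩, 7), (⟨2, by decide⟩, 4), (⟨1, by decide⟩, 3), (⟨3, by decide⟩, 2)] _ (by decide) (by decide +kernel) q

theorem poincareF4 (q : ℤ) :
    reflDataF4.poincare Finset.univ q * (q - 1) ^ chevF4.rank =
      ([2, 6, 8, 12].map fun d : ℕ => q ^ d - 1).prod :=
  reflDataF4.poincare_of_check [(⟨3, by decide⟩, 16), (⟨0, by decide⟩, 6), (⟨2, by decide⟩, 4), (⟨1, by decide⟩, 2)] _ (by decide) (by decide +kernel) q

theorem poincareE6 (q : ℤ) :
    reflDataE6.poincare Finset.univ q * (q - 1) ^ chevE6.rank =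
      ([2, 5, 6, 8, 9, 12].map fun d : ℕ => q ^ d - 1).prod :=
  reflDataE6.poincare_of_check [(⟨5, by decide⟩, 17), (⟨0, by decide⟩, 9), (⟨2, by decide⟩, 7), (⟨1, by decide⟩, 4), (⟨3, by decide⟩, 3), (⟨4, by decide⟩, 2)] _ (by decide) (by decide +kernel) q

theorem poincareE7 (q : ℤ) :
    reflDataE7.poincare Finset.univ q * (q - 1) ^ chevE7.rank =
      ([2, 6, 8, 10, 12, 14, 18].map fun d : ℕ => q ^ d - 1).prod :=
  reflDataE7.poincare_of_check [(⟨6, by decide⟩, 28), (⟨5, by decide⟩, 17), (⟨0, by decide⟩, 9), (⟨2, by decide⟩, 7), (⟨1, by decide⟩, 4), (⟨3, by decide⟩, 3), (⟨4, by decide⟩, 2)] _ (by decide) (by decide +kernel) q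

theorem poincareE8 (q : ℤ) :
    reflDataE8.poincare Finset.univ q * (q - 1) ^ chevE8.rank =
      ([2, 8, 12, 14, 18, 20, 24, 30].map fun d : ℕ => q ^ d - 1).prod :=
  reflDataE8.poincare_of_check [(⟨7, by decide⟩, 58), (⟨6, by decide⟩, 28), (⟨5, by decide⟩, 17), (⟨0, by decide⟩, 9), (⟨2, by decide⟩, 7), (⟨1, by decide⟩, 4), (⟨3, by decide⟩, 3), (⟨4, by decide⟩, 2)] _ (by decide) (by decide +kernel) q

end CfsgLib.ChevStr
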