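import Cfsg.Agent.Lib.ChevStr.Bruhat
import Cfsg.Agent.Lib.ChevStr.PoincareTables
import Cfsg.Agent.Lib.ChevStr.TorusOrder

/-! The orders of the seven tabulated groups over a finite field. -/

set_option autoImplicit false

namespace CfsgLib.ChevStr

open Cfsg.Lie

theorem prod_map_cast_sub_one {q : ℕ} (hq : 1 ≤ q) : ∀ degs : List ℕ,
    (((degs.map fun d : ℕ => q ^ d - 1).prod : ℕ) : ℤ) = (degs.map fun d : ℕ => (q : ℤ) ^ d - 1).prod := by
  intro degs
  induction degs with
  | nil => simp
  | cons a l ih =>
    rw [List.map_cons, List.prod_cons, List.map_cons, List.prod_cons, Nat.cast_mul, ih,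
      Nat.cast_sub (Nat.one_le_pow _ _ hq), Nat.cast_pow, Nat.cast_one]

theorem weylSet_eq {D : ChevalleyDatum} {R : RootData D} (hR : ReflData R) :
    hR.weylSet = (Set.toFinite (hR.weylSub Finset.univ : Set (Equiv.Perm (Fin D.nroots)))).toFinset := by
  ext w
  rw [hR.mem_weylSet, Set.Finite.mem_toFinset, hR.weylSub_univ]
  rfl

namespace ChevCore

variable {D : ChevalleyDatum} {F : Type*} [Field F] (C : ChevCore D F)

theorem card_group_mul [Fintype F] {q N : ℕ} (hq : Fintype.card F = q)
    (hN : Set.ncard {r | D.IsPosRoot r} = N) {degs : List ℕ}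
    (hP : ∀ z : ℤ, C.hR.poincare Finset.univ z * (z - 1) ^ D.rank =
      (degs.map fun d : ℕ => z ^ d - 1).prod)
    {k : ℕ} (hH : k * Nat.card (D.diagonalSubgroup F) = (q - 1) ^ D.rank) :
    k * Nat.card (D.group F) = q ^ N * (degs.map fun d => q ^ d - 1).prod := by
  have hq1 : 1 ≤ q := hq ▸ Fintype.card_pos
  rw [C.card_group, C.card_borel, hq, hN]
  have h : (q - 1) ^ D.rank * ∑ w ∈ C.hR.weylSet, q ^ (C.hR.invSet w).card =
      (degs.map fun d => q ^ d - 1).prod := by
    refine Nat.cast_injective (R := ℤ) ?_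
    rw [prod_map_cast_sub_one hq1, ← hP, Nat.cast_mul, Nat.cast_pow, Nat.cast_sub hq1, Nat.cast_one,
      Nat.cast_sum, mul_comm, weylSet_eq]
    simp only [Nat.cast_pow]
    rfl
  rw [← h, ← hH]
  ring

end ChevCore

/-- The number of positive roots, in computable form. -/
theorem ncard_isPosRoot {D : ChevalleyDatum} {N : ℕ}
    (h : ((List.range D.nroots).filter fun r => decide (D.IsPosRoot r)).length = N) :
    Set.ncard {r | D.IsPosRoot r} = N := by
  have hs : {r | D.IsPosRoot r} =
      ((((List.range D.nroots).filter fun r => decide (D.IsPosRoot r)).toFinset : Finset ℕ) : Set ℕ) := by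
    ext r
    simp only [Set.mem_ofPred_eq, List.coe_toFinset, List.mem_filter, List.mem_range, decide_eq_true_eq]
    exact ⟨fun hr => ⟨hr.1, hr⟩, fun hr => hr.2⟩
  rw [hs, Set.ncard_coe_finset, List.toFinset_card_of_nodup (List.nodup_range.filter _), h]

theorem card_diagonalG2 (F : Type*) [Field F] [Fintype F] :
    1 * Nat.card (chevG2.diagonalSubgroup F) = (Fintype.card F - 1) ^ chevG2.rank := by
  have h := (coreG2 F).card_diagonal smithG2
  convert h using 2
  rw [show chevG2.rank = 2 from by decide +kernel] at *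
  simp [Fin.prod_univ_succ, Nat.gcd_comm, sq]

theorem card_diagonalB2 (F : Type*) [Field F] [Fintype F] :
    Nat.gcd 2 (Fintype.card F - 1) * Nat.card (chevB2.diagonalSubgroup F) = (Fintype.card F - 1) ^ chevB2.rank := by
  have h := (coreB2 F).card_diagonal smithB2
  convert h using 2
  rw [show chevB2.rank = 2 from by decide +kernel] at *
  simp [Fin.prod_univ_succ, Nat.gcd_comm, sq]

theorem card_diagonalD4 (F : Type*) [Field F] [Fintype F] :
    Nat.gcd 2 (Fintype.card F - 1) ^ 2 * Nat.card (chevD4.diagonalSubgroup F) = (Fintype.card F - 1) ^ chevD4.rank := by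
  have h := (coreD4 F).card_diagonal smithD4
  convert h using 2
  rw [show chevD4.rank = 4 from by decide +kernel] at *
  simp [Fin.prod_univ_succ, Nat.gcd_comm, sq]

theorem card_diagonalF4 (F : Type*) [Field F] [Fintype F] :
    1 * Nat.card (chevF4.diagonalSubgroup F) = (Fintype.card F - 1) ^ chevF4.rank := by
  have h := (coreF4 F).card_diagonal smithF4
  convert h using 2
  rw [show chevF4.rank = 4 from by decide +kernel] at *
  simp [Fin.prod_univ_succ, Nat.gcd_comm, sq]

theorem card_diagonalE6 (F : Type*) [Field F] [Fintype F] :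
    Nat.gcd 3 (Fintype.card F - 1) * Nat.card (chevE6.diagonalSubgroup F) = (Fintype.card F - 1) ^ chevE6.rank := by
  have h := (coreE6 F).card_diagonal smithE6
  convert h using 2
  rw [show chevE6.rank = 6 from by decide +kernel] at *
  simp [Fin.prod_univ_succ, Nat.gcd_comm, sq]

theorem card_diagonalE7 (F : Type*) [Field F] [Fintype F] :
    Nat.gcd 2 (Fintype.card F - 1) * Nat.card (chevE7.diagonalSubgroup F) = (Fintype.card F - 1) ^ chevE7.rank := by
  have h := (coreE7 F).card_diagonal smithE7
  convert h using 2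
  rw [show chevE7.rank = 7 from by decide +kernel] at *
  simp [Fin.prod_univ_succ, Nat.gcd_comm, sq]

theorem card_diagonalE8 (F : Type*) [Field F] [Fintype F] :
    1 * Nat.card (chevE8.diagonalSubgroup F) = (Fintype.card F - 1) ^ chevE8.rank := by
  have h := (coreE8 F).card_diagonal smithE8
  convert h using 2
  rw [show chevE8.rank = 8 from by decide +kernel] at *
  simp [Fin.prod_univ_succ, Nat.gcd_comm, sq]

end CfsgLib.ChevStr
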