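import Cfsg.Agent.Lib.ChevStr.Unipotent

/-!
The monomial subgroup: its action on the root subgroups, the quotient by the diagonal subgroup as
the Weyl group, and its intersection with `B`.
-/

set_option autoImplicit false

namespace CfsgLib.ChevStr

open Cfsg.Lie
open scoped MatrixGroups

namespace ChevCore

variable {D : ChevalleyDatum} {F : Type*} [Field F] (C : ChevCore D F)

/-- `n` carries the root subgroup of `s` into that of `w s`. -/
def Moves (n : GL D.Idx F) (w : Equiv.Perm (Fin D.nroots)) : Prop :=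
  w ∈ C.hR.weyl ∧ ∀ (s : Fin D.nroots) (t : F), ∃ u, n * C.xGL s t * n⁻¹ = C.xGL (w s) u

theorem Moves.mul {n m : GL D.Idx F} {v w : Equiv.Perm (Fin D.nroots)} (hn : C.Moves n v)
    (hm : C.Moves m w) : C.Moves (n * m) (v * w) := by
  refine ⟨mul_mem hn.1 hm.1, fun s t => ?_⟩
  obtain ⟨u, hu⟩ := hm.2 s t
  obtain ⟨u', hu'⟩ := hn.2 (w s) u
  refine ⟨u', ?_⟩
  rw [← hu] at hu'
  rw [Equiv.Perm.mul_apply, ← hu']
  group

theorem Acts.moves {n : GL D.Idx F} {w : Equiv.Perm (Fin D.nroots)} (h : C.Acts n w) :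
    C.Moves n w := by
  obtain ⟨hw, e, he⟩ := h
  exact ⟨hw, fun s t => ⟨_, (he s).2.2 t⟩⟩

theorem moves_torus (c : Fin D.rank → Fˣ) : C.Moves (C.R.torus c) 1 :=
  ⟨one_mem _, fun s t => ⟨_, C.acts_torus c s t⟩⟩

theorem Moves.unique {n : GL D.Idx F} {v w : Equiv.Perm (Fin D.nroots)} (hv : C.Moves n v)
    (hw : C.Moves n w) : v = w := by
  ext s
  obtain ⟨a, ha⟩ := hv.2 s 1
  obtain ⟨b, hb⟩ := hw.2 s 1
  have ha0 : a ≠ 0 := by
    rintro rfl
    rw [C.xGL_zero, mul_inv_eq_one, mul_eq_left] at ha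
    exact one_ne_zero ((C.xGL_eq_one_iff s.isLt).1 ha)
  exact C.root_eq_of_xGL_eq (v s).isLt ha0 (ha.symm.trans hb)

theorem exists_moves {n : GL D.Idx F} (hn : n ∈ D.monomialSubgroup F) :
    ∃ w, C.Moves n w ∧ C.Moves n⁻¹ w⁻¹ := by
  rw [C.monomialSubgroup_eq, ← Subgroup.closure_eq (C.R.torus (F := F)).range,
    ← Subgroup.closure_union] at hn
  refine Subgroup.closure_induction (p := fun n _ => ∃ w, C.Moves n w ∧ C.Moves n⁻¹ w⁻¹) ?_ ?_ ?_ ?_ hn
  · rintro x (⟨c, rfl⟩ | ⟨i, rfl⟩)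
    · exact ⟨1, C.moves_torus c, by simpa [map_inv] using C.moves_torus c⁻¹⟩
    · exact ⟨_, Acts.moves C (C.acts_nS i), Acts.moves C (Acts.inv C (C.acts_nS i))⟩
  · exact ⟨1, Acts.moves C C.acts_one, by simpa using Acts.moves C C.acts_one⟩
  · rintro x y _ _ ⟨v, hv, hv'⟩ ⟨w, hw, hw'⟩
    exact ⟨v * w, Moves.mul C hv hw, by simpa using Moves.mul C hw' hv'⟩
  · rintro x _ ⟨w, hw, hw'⟩
    exact ⟨w⁻¹, hw', by simpa using hw⟩

theorem Moves.inv {n : GL D.Idx F} {w : Equiv.Perm (Fin D.nroots)} (hn : n ∈ D.monomialSubgroup F)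
    (h : C.Moves n w) : C.Moves n⁻¹ w⁻¹ := by
  obtain ⟨v, hv, hv'⟩ := C.exists_moves hn
  rwa [Moves.unique C h hv]

/-- The permutation of the roots attached to a monomial element. -/
noncomputable def permOf (n : D.monomialSubgroup F) : Equiv.Perm (Fin D.nroots) :=
  (C.exists_moves n.2).choose

theorem moves_permOf (n : D.monomialSubgroup F) : C.Moves n (C.permOf n) :=
  (C.exists_moves n.2).choose_spec.1

/-- The action of the monomial subgroup on the roots, as a homomorphism. -/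
noncomputable def rootAction : D.monomialSubgroup F →* Equiv.Perm (Fin D.nroots) where
  toFun := C.permOf
  map_one' := Moves.unique C (C.moves_permOf 1) (Acts.moves C C.acts_one)
  map_mul' n m := Moves.unique C (C.moves_permOf (n * m))
    (Moves.mul C (C.moves_permOf n) (C.moves_permOf m))

theorem rootAction_eq {n : D.monomialSubgroup F} {w : Equiv.Perm (Fin D.nroots)}
    (h : C.Moves n w) : C.rootAction n = w := Moves.unique C (C.moves_permOf n) h

theorem torus_mem_monomial (c : Fin D.rank → Fˣ) : C.R.torus c ∈ D.monomialSubgroup F := by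
  rw [C.monomialSubgroup_eq]
  exact le_sup_left (b := Subgroup.closure _) ⟨c, rfl⟩

theorem rep_mem_monomial {n : GL D.Idx F} (hn : n ∈ Subgroup.closure (Set.range C.nS)) :
    n ∈ D.monomialSubgroup F := by
  rw [C.monomialSubgroup_eq]
  exact le_sup_right (a := C.R.torus.range) hn

include C in
theorem diagonal_normal :
    ((D.diagonalSubgroup F).subgroupOf (D.monomialSubgroup F)).Normal := by
  refine ⟨fun x hx g => ?_⟩
  rw [Subgroup.mem_subgroupOf, C.diagonalSubgroup_eq] at hx ⊢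
  exact (Subgroup.mem_normalizer_iff.1 (C.monomial_le_normalizer g.2) x).1 hx

/-- The diagonal subgroup inside the monomial one. -/
def diagIn (_C : ChevCore D F) : Subgroup (D.monomialSubgroup F) :=
  (D.diagonalSubgroup F).subgroupOf (D.monomialSubgroup F)

instance diagIn_normal : C.diagIn.Normal := C.diagonal_normal

theorem nS_rel (i j : Fin D.rank) :
    (C.nS i * C.nS j) ^ C.cox.M i j ∈ D.diagonalSubgroup F := by
  obtain ⟨c, hc⟩ := C.n_rel i j
  rw [C.diagonalSubgroup_eq]
  exact ⟨c, Units.ext (by simpa using hc.symm)⟩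

/-- The image of a fundamental representative in `N/H`. -/
def nClass (i : Fin D.rank) : D.monomialSubgroup F ⧸ C.diagIn :=
  QuotientGroup.mk' C.diagIn ⟨C.nS i, C.nS_mem_monomial i⟩

theorem nClass_liftable : C.cox.M.IsLiftable C.nClass := by
  intro i j
  rw [nClass, nClass, ← map_mul, ← map_pow, QuotientGroup.mk'_apply, QuotientGroup.eq_one_iff]
  exact C.nS_rel i j

/-- The Coxeter group maps onto `N/H`. -/
noncomputable def weylToQuot : C.cox.M.Group →* D.monomialSubgroup F ⧸ C.diagIn :=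
  C.cox.M.toCoxeterSystem.lift ⟨_, C.nClass_liftable⟩

theorem weylToQuot_simple (i : Fin D.rank) :
    C.weylToQuot (C.cox.M.simple i) = C.nClass i :=
  C.cox.M.toCoxeterSystem.lift_apply_simple C.nClass_liftable i

theorem weylToQuot_surjective : Function.Surjective C.weylToQuot := by
  intro x
  obtain ⟨⟨n, hn⟩, rfl⟩ := QuotientGroup.mk'_surjective C.diagIn x
  suffices h : ∀ n ∈ C.R.torus.range ⊔ Subgroup.closure (Set.range C.nS),
      ∃ hn : n ∈ D.monomialSubgroup F,
        QuotientGroup.mk' C.diagIn ⟨n, hn⟩ ∈ C.weylToQuot.range by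
    obtain ⟨_, g, hg⟩ := h n (by rwa [← C.monomialSubgroup_eq])
    exact ⟨g, hg⟩
  intro n hn
  rw [← Subgroup.closure_eq (C.R.torus (F := F)).range, ← Subgroup.closure_union] at hn
  refine Subgroup.closure_induction (p := fun n _ => ∃ hn : n ∈ D.monomialSubgroup F,
    QuotientGroup.mk' C.diagIn ⟨n, hn⟩ ∈ C.weylToQuot.range) ?_ ?_ ?_ ?_ hn
  · rintro x (⟨c, rfl⟩ | ⟨i, rfl⟩)
    · refine ⟨C.torus_mem_monomial c, ?_⟩
      rw [QuotientGroup.mk'_apply, (QuotientGroup.eq_one_iff _).2]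
      · exact one_mem _
      · show C.R.torus c ∈ D.diagonalSubgroup F
        rw [C.diagonalSubgroup_eq]; exact ⟨c, rfl⟩
    · exact ⟨C.nS_mem_monomial i, _, C.weylToQuot_simple i⟩
  · exact ⟨one_mem _, by
      rw [show (⟨1, one_mem _⟩ : D.monomialSubgroup F) = 1 from rfl, map_one]; exact one_mem _⟩
  · rintro x y _ _ ⟨hx, hx'⟩ ⟨hy, hy'⟩
    exact ⟨mul_mem hx hy, by
      rw [show (⟨x * y, mul_mem hx hy⟩ : D.monomialSubgroup F) = ⟨x, hx⟩ * ⟨y, hy⟩ from rfl, map_mul]
      exact mul_mem hx' hy'⟩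
  · rintro x _ ⟨hx, hx'⟩
    exact ⟨inv_mem hx, by
      rw [show (⟨x⁻¹, inv_mem hx⟩ : D.monomialSubgroup F) = ⟨x, hx⟩⁻¹ from rfl, map_inv]
      exact inv_mem hx'⟩

theorem diagIn_le_ker : C.diagIn ≤ C.rootAction.ker := by
  intro n hn
  have h : (n : GL D.Idx F) ∈ D.diagonalSubgroup F := hn
  rw [C.diagonalSubgroup_eq] at h
  obtain ⟨c, hc⟩ := h
  exact MonoidHom.mem_ker.2 (C.rootAction_eq (hc ▸ C.moves_torus c))

/-- The action of `N/H` on the roots. -/
noncomputable def quotAction :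
    D.monomialSubgroup F ⧸ C.diagIn →* Equiv.Perm (Fin D.nroots) :=
  QuotientGroup.lift C.diagIn C.rootAction C.diagIn_le_ker

theorem quotAction_comp : C.quotAction.comp C.weylToQuot = C.cox.toPerm := by
  refine C.cox.M.toCoxeterSystem.ext_simple fun i => ?_
  show C.quotAction (C.weylToQuot (C.cox.M.simple i)) = C.cox.toPerm (C.cox.M.simple i)
  rw [C.weylToQuot_simple, C.cox.toPerm_simple]
  exact C.rootAction_eq (Acts.moves C (C.acts_nS i))

theorem weylToQuot_bijective : Function.Bijective C.weylToQuot := by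
  refine ⟨fun a b h => C.cox.injective ?_, C.weylToQuot_surjective⟩
  rw [← C.quotAction_comp, MonoidHom.comp_apply, MonoidHom.comp_apply, h]

/-- A monomial element fixing every root is diagonal. -/
theorem mem_diagonal_of_moves_one {n : GL D.Idx F} (hn : n ∈ D.monomialSubgroup F)
    (h : C.Moves n 1) : n ∈ D.diagonalSubgroup F := by
  obtain ⟨g, hg⟩ := C.weylToQuot_surjective (QuotientGroup.mk' C.diagIn ⟨n, hn⟩)
  have h1 : C.quotAction (C.weylToQuot g) = 1 := by rw [hg]; exact C.rootAction_eq h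
  have h2 : g = 1 := C.cox.injective (by rw [map_one, ← h1, ← C.quotAction_comp]; rfl)
  rw [h2, map_one] at hg
  exact ((QuotientGroup.eq_one_iff _).1 hg.symm : (⟨n, hn⟩ : D.monomialSubgroup F) ∈ C.diagIn)

/-- The map from `N` onto the Coxeter group with kernel `H`. -/
noncomputable def toCoxeter : D.monomialSubgroup F →* C.cox.M.Group :=
  (MulEquiv.ofBijective C.weylToQuot C.weylToQuot_bijective).symm.toMonoidHom.comp
    (QuotientGroup.mk' C.diagIn)

theorem toCoxeter_surjective : Function.Surjective C.toCoxeter :=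
  (MulEquiv.ofBijective C.weylToQuot C.weylToQuot_bijective).symm.surjective.comp
    (QuotientGroup.mk'_surjective _)

theorem toCoxeter_ker : C.toCoxeter.ker = C.diagIn := by
  rw [toCoxeter, MonoidHom.ker_comp_of_injective _ _ (MulEquiv.injective _),
    QuotientGroup.ker_mk']

theorem toCoxeter_nS (i : Fin D.rank) {g : D.monomialSubgroup F}
    (hg : (g : GL D.Idx F) = C.nS i) : C.toCoxeter g = C.cox.M.simple i := by
  show (MulEquiv.ofBijective C.weylToQuot C.weylToQuot_bijective).symm _ = _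
  rw [MulEquiv.symm_apply_eq]
  show _ = C.weylToQuot _
  rw [C.weylToQuot_simple, show g = ⟨C.nS i, C.nS_mem_monomial i⟩ from Subtype.ext hg]
  rfl

/-! ### Intersection with `B` -/

theorem Moves.pos_of_normalizes {n : GL D.Idx F} {w : Equiv.Perm (Fin D.nroots)}
    (h : C.Moves n w) (hn : ∀ g ∈ D.posUnipotent F, n * g * n⁻¹ ∈ D.posUnipotent F)
    (s : Fin D.nroots) (hs : D.IsPosRoot s) : D.IsPosRoot (w s) := by
  refine (C.R.pos_or_neg (w s).isLt).resolve_right fun hneg => ?_
  obtain ⟨u, hu⟩ := h.2 s 1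
  have h1 := hn _ (C.xGL_mem_posUnipotent hs 1)
  rw [hu] at h1
  have h2 : C.xGL (w s) u = 1 :=
    (Subgroup.eq_bot_iff_forall _).1 C.borel_inf_negUnipotent _
      (Subgroup.mem_inf.2 ⟨le_sup_left (b := D.diagonalSubgroup F) h1, C.xGL_mem_negUnipotent hneg u⟩)
  rw [h2, mul_inv_eq_one, mul_eq_left] at hu
  exact one_ne_zero ((C.xGL_eq_one_iff s.isLt).1 hu)

include C in
theorem borel_normalizes {g : GL D.Idx F} (hg : g ∈ D.borelSubgroup F) :
    g ∈ Subgroup.normalizer (D.posUnipotent F : Set (GL D.Idx F)) :=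
  sup_le Subgroup.le_normalizer C.diagonal_normalizes_pos hg

include C in
theorem borel_inf_monomial : D.borelSubgroup F ⊓ D.monomialSubgroup F = D.diagonalSubgroup F := by
  refine le_antisymm (fun n hn => ?_) (le_inf le_sup_right le_sup_left)
  obtain ⟨hb, hN⟩ := Subgroup.mem_inf.1 hn
  obtain ⟨w, hw, -⟩ := C.exists_moves hN
  have hpos := Moves.pos_of_normalizes C hw
    (fun g hg => (Subgroup.mem_normalizer_iff.1 (C.borel_normalizes hb) g).1 hg)
  have hw1 : w = 1 := by
    refine C.hR.eq_one_of_invSet_eq_empty hw.1 (Finset.eq_empty_iff_forall_notMem.2 fun s hs => ?_)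
    rw [C.hR.mem_invSet] at hs
    exact C.R.not_pos_and_neg (hpos s hs.1) hs.2
  exact C.mem_diagonal_of_moves_one hN (hw1 ▸ hw)

include C in
theorem posUnipotent_inf_monomial : D.posUnipotent F ⊓ D.monomialSubgroup F = ⊥ := by
  refine le_antisymm ?_ bot_le
  rw [← C.posUnipotent_inf_diagonal, ← C.borel_inf_monomial]
  exact le_inf inf_le_left (inf_le_inf_right _ le_sup_left)

end ChevCore

end CfsgLib.ChevStr
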