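import Cfsg.Agent.Lib.ChevStr.InstanceTables

/-! The bundle for a datum in the list of the seven tabulated types. -/

set_option autoImplicit false

namespace CfsgLib.ChevStr

open Cfsg.Lie

theorem nonempty_chevCore_of_mem {D : ChevalleyDatum}
    (hD : D ∈ [chevG2, chevB2, chevD4, chevF4, chevE6, chevE7, chevE8]) (F : Type*) [Field F] :
    Nonempty (ChevCore D F) := by
  simp only [List.mem_cons, List.not_mem_nil, or_false] at hD
  rcases hD with rfl | rfl | rfl | rfl | rfl | rfl | rfl
  exacts [⟨coreG2 F⟩, ⟨coreB2 F⟩, ⟨coreD4 F⟩, ⟨coreF4 F⟩, ⟨coreE6 F⟩, ⟨coreE7 F⟩, ⟨coreE8 F⟩]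

/-- The bundle of a datum in the list of the seven tabulated types. -/
noncomputable def chevCore {D : ChevalleyDatum}
    (hD : D ∈ [chevG2, chevB2, chevD4, chevF4, chevE6, chevE7, chevE8]) (F : Type*) [Field F] :
    ChevCore D F :=
  (nonempty_chevCore_of_mem hD F).some

end CfsgLib.ChevStr
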