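import Cfsg.Agent.Lib.ChevStr.Weyl

/-!
Poincaré polynomials of Weyl groups on the roots, computed through orbits of functionals.
-/

set_option autoImplicit false

namespace CfsgLib.ChevStr

open Cfsg.Lie

variable {D : ChevalleyDatum}

/-- The functional given by a list of its values on the fundamental roots. -/
def listFun (D : ChevalleyDatum) (g : List ℤ) : Fin D.rank → ℤ := fun i => g.getD i.val 0

/-- The list of values of a functional. -/
def funList (f : Fin D.rank → ℤ) : List ℤ := List.ofFn f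

theorem listFun_funList (f : Fin D.rank → ℤ) : listFun D (funList f) = f := by
  funext i
  simp [listFun, funList]

/-- Reflect a list of values. -/
def reflList (D : ChevalleyDatum) (j : Fin D.rank) (g : List ℤ) : List ℤ :=
  List.ofFn fun i : Fin D.rank => g.getD i.val 0 - g.getD j.val 0 * D.cartan j.val (D.simple i.val)

/-- The next level of an orbit. -/
def nextLevel (D : ChevalleyDatum) (J : List (Fin D.rank)) (L : List (List ℤ)) : List (List ℤ) :=
  (L.flatMap fun g => (J.filter fun j => decide (0 < g.getD j.val 0)).map fun j => reflList D j g).dedup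

/-- The level number `k` of the orbit of a functional. -/
def level (D : ChevalleyDatum) (J : List (Fin D.rank)) (g : List ℤ) : ℕ → List (List ℤ)
  | 0 => [g]
  | k + 1 => nextLevel D J (level D J g k)

/-- The levels below `m`, and the level `m`. -/
def levelsAux (D : ChevalleyDatum) (J : List (Fin D.rank)) : ℕ → List (List ℤ) → List ℕ × Bool
  | 0, L => ([], L.isEmpty)
  | m + 1, L => ((L.length :: (levelsAux D J m (nextLevel D J L)).1), (levelsAux D J m (nextLevel D J L)).2)

theorem level_nodup (J : List (Fin D.rank)) (g : List ℤ) : ∀ k, (level D J g k).Nodup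
  | 0 => List.nodup_singleton g
  | _ + 1 => List.nodup_dedup _

theorem mem_level_succ {J : List (Fin D.rank)} {g h : List ℤ} {k : ℕ} :
    h ∈ level D J g (k + 1) ↔
      ∃ a ∈ level D J g k, ∃ j ∈ J, 0 < listFun D a j ∧ reflList D j a = h := by
  simp [level, nextLevel, listFun, and_assoc]

theorem levelsAux_spec (J : List (Fin D.rank)) (g : List ℤ) : ∀ (m k : ℕ),
    (levelsAux D J m (level D J g k)).1 = (List.range m).map (fun i => (level D J g (k + i)).length) ∧
      ((levelsAux D J m (level D J g k)).2 = true → level D J g (k + m) = []) := by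
  intro m
  induction m with
  | zero => intro k; simp [levelsAux]
  | succ m ih =>
    intro k
    obtain ⟨h1, h2⟩ := ih (k + 1)
    refine ⟨?_, fun h => ?_⟩
    · rw [List.range_succ_eq_map, List.map_cons, List.map_map]
      simp only [levelsAux]
      rw [show nextLevel D J (level D J g k) = level D J g (k + 1) from rfl, h1]
      simp only [Nat.add_zero, List.cons.injEq, true_and]
      exact List.map_congr_left fun i _ => by
        simp only [Function.comp_apply]; congr 2; omega
    · rw [show k + (m + 1) = k + 1 + m by omega]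
      exact h2 h

namespace ReflData

variable {R : RootData D} (hR : ReflData R)

/-- The subgroup generated by some of the fundamental reflections. -/
def weylSub (J : Finset (Fin D.rank)) : Subgroup (Equiv.Perm (Fin D.nroots)) :=
  Subgroup.closure (hR.sPerm '' (J : Set (Fin D.rank)))

include hR

theorem weylSub_le (J : Finset (Fin D.rank)) : hR.weylSub J ≤ hR.weyl :=
  Subgroup.closure_mono (Set.image_subset_range _ _)

theorem weylSub_univ : hR.weylSub Finset.univ = hR.weyl := by
  simp [weylSub, weyl, Set.image_univ]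

theorem weylSub_mono {J J' : Finset (Fin D.rank)} (h : J' ⊆ J) :
    hR.weylSub J' ≤ hR.weylSub J :=
  Subgroup.closure_mono (Set.image_mono (Finset.coe_subset.2 h))

theorem sPerm_mem_sub {J : Finset (Fin D.rank)} {i : Fin D.rank} (h : i ∈ J) :
    hR.sPerm i ∈ hR.weylSub J := Subgroup.subset_closure ⟨i, h, rfl⟩

theorem weylSub_fix {J : Finset (Fin D.rank)} {w : Equiv.Perm (Fin D.nroots)}
    (hw : w ∈ hR.weylSub J) : ∀ (s : Fin D.nroots) (m : Fin D.rank), m ∉ J →
      R.α (w s) m = R.α s m := by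
  refine Subgroup.closure_induction (p := fun w _ => ∀ (s : Fin D.nroots) (m : Fin D.rank),
    m ∉ J → R.α (w s : Fin D.nroots) m = R.α s m) ?_ (fun s m _ => rfl) ?_ ?_ hw
  · rintro _ ⟨i, hi, rfl⟩ s m hm
    have hne : m ≠ i := fun e => hm (by rw [e]; exact hi)
    rw [hR.sPerm_val, hR.α_refl i s.val s.isLt]
    simp [hne]
  · intro x y _ _ hx hy s m hm
    rw [Equiv.Perm.mul_apply, hx _ m hm, hy s m hm]
  · intro x _ hx s m hm
    have h := hx (x⁻¹ s) m hm
    rw [Equiv.Perm.inv_def, Equiv.apply_symm_apply] at h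
    exact h.symm

theorem invSet_supp {J : Finset (Fin D.rank)} {w : Equiv.Perm (Fin D.nroots)}
    (hw : w ∈ hR.weylSub J) {s : Fin D.nroots} (hs : s ∈ hR.invSet w) {m : Fin D.rank}
    (hm : m ∉ J) : R.α s m = 0 := by
  obtain ⟨h1, h2⟩ := hR.mem_invSet.1 hs
  have := hR.weylSub_fix hw s m hm
  have h3 : 0 ≤ R.α s m := ((R.isPos_iff _).1 h1).2 m
  have h4 : R.α (w s) m ≤ 0 := ((R.isNeg_iff _).1 h2).2 m
  omega

theorem weylSub_exists_neg {J : Finset (Fin D.rank)} {w : Equiv.Perm (Fin D.nroots)}
    (hw : w ∈ hR.weylSub J) (hne : hR.invSet w ≠ ∅) :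
    ∃ i ∈ J, D.IsNegRoot (w ⟨D.simple i.val, R.simple_lt i⟩) := by
  by_contra hcon
  push Not at hcon
  obtain ⟨s, hs⟩ := Finset.nonempty_iff_ne_empty.2 hne
  refine R.not_pos_and_neg ?_ (hR.mem_invSet.1 hs).2
  refine hR.apply_pos_of_simple (hR.weylSub_le J hw) (hR.mem_invSet.1 hs).1 fun j hj => ?_
  exact (R.pos_or_neg (w _).isLt).resolve_right
    (hcon j (by_contra fun hjJ => hj (hR.invSet_supp hw hs hjJ)))

theorem weylSub_induction {J : Finset (Fin D.rank)} {P : Equiv.Perm (Fin D.nroots) → Prop}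
    (one : P 1)
    (step : ∀ w ∈ hR.weylSub J, ∀ i ∈ J, D.IsPosRoot (w ⟨D.simple i.val, R.simple_lt i⟩) →
      P w → P (w * hR.sPerm i)) : ∀ w ∈ hR.weylSub J, P w := by
  suffices ∀ n, ∀ w ∈ hR.weylSub J, (hR.invSet w).card = n → P w from fun w hw => this _ w hw rfl
  intro n
  induction n using Nat.strong_induction_on with
  | _ n ih =>
    intro w hw hn
    by_cases h0 : hR.invSet w = ∅
    · rw [hR.eq_one_of_invSet_eq_empty (hR.weylSub_le J hw) h0]; exact one
    · obtain ⟨i, hiJ, hi⟩ := hR.weylSub_exists_neg hw h0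
      have hw' := (hR.weylSub J).mul_mem hw (hR.sPerm_mem_sub hiJ)
      have hc := hR.invSet_mul_sPerm_of_neg (hR.weylSub_le J hw) i hi
      have hp : D.IsPosRoot ((w * hR.sPerm i) ⟨D.simple i.val, R.simple_lt i⟩) := by
        rw [Equiv.Perm.mul_apply,
          show hR.sPerm i ⟨D.simple i.val, R.simple_lt i⟩ =
              ⟨D.neg (D.simple i.val), R.neg_lt _ (R.simple_lt i)⟩ from
            Fin.ext (hR.refl_simple_self i),
          hR.apply_neg (hR.weylSub_le J hw) ⟨D.simple i.val, R.simple_lt i⟩,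
          R.isPos_neg_iff (w _).isLt]
        exact hi
      have h1 := step _ hw' i hiJ hp (ih _ (by omega) _ hw' rfl)
      rwa [mul_assoc, hR.sPerm_mul_self i, mul_one] at h1

theorem card_invSet_inv {w : Equiv.Perm (Fin D.nroots)} (hw : w ∈ hR.weyl) :
    (hR.invSet w⁻¹).card = (hR.invSet w).card := by
  let ν : Fin D.nroots → Fin D.nroots := fun s => ⟨D.neg (w s), R.neg_lt _ (w s).isLt⟩
  have hν : ∀ s, D.neg (D.neg (w s : Fin D.nroots)) = (w s : Fin D.nroots) := fun s =>
    R.neg_neg _ (w s).isLt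
  refine (Finset.card_bij (fun s _ => ν s) ?_ ?_ ?_).symm
  · intro s hs
    obtain ⟨h1, h2⟩ := hR.mem_invSet.1 hs
    refine hR.mem_invSet.2 ⟨(R.isPos_neg_iff (w s).isLt).2 h2, ?_⟩
    rw [show ((w⁻¹ (ν s) : Fin D.nroots) : ℕ) = D.neg (w⁻¹ (w s)) from
      hR.apply_neg (inv_mem hw) (w s)]
    simp only [Equiv.Perm.inv_def, Equiv.symm_apply_apply]
    exact (R.isNeg_neg_iff s.isLt).2 h1
  · intro a _ b _ h
    refine w.injective (Fin.ext ?_)
    rw [← hν a, ← hν b]
    exact congrArg (fun x : Fin D.nroots => D.neg x.val) h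
  · intro t ht
    obtain ⟨h1, h2⟩ := hR.mem_invSet.1 ht
    refine ⟨⟨D.neg (w⁻¹ t : Fin D.nroots), R.neg_lt _ (w⁻¹ t).isLt⟩, hR.mem_invSet.2 ⟨?_, ?_⟩, ?_⟩
    · exact (R.isPos_neg_iff (w⁻¹ t).isLt).2 h2
    · rw [hR.apply_neg hw (w⁻¹ t), R.isNeg_neg_iff (w _).isLt]
      simpa using h1
    · refine Fin.ext ?_
      show D.neg (w ⟨D.neg (w⁻¹ t : Fin D.nroots), _⟩ : Fin D.nroots) = t
      rw [hR.apply_neg hw (w⁻¹ t), R.neg_neg _ (w _).isLt]
      simp

/-- The value at `s` of the functional `f` moved by `w`. -/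
theorem pairing_move {w : Equiv.Perm (Fin D.nroots)} (hw : w ∈ hR.weyl) (f : Fin D.rank → ℤ)
    (s : Fin D.nroots) :
    pairing (fun i => pairing f (R.α (w⁻¹ ⟨D.simple i.val, R.simple_lt i⟩))) (R.α s) =
      pairing f (R.α (w⁻¹ s : Fin D.nroots)) := by
  rw [hR.α_weyl w⁻¹ (inv_mem hw) s, pairing_apply, map_sum]
  exact Finset.sum_congr rfl fun j _ => by rw [map_zsmul, smul_eq_mul, mul_comm]

omit hR in
/-- The functional moved by a permutation of the roots. -/
def moveFun (hR : ReflData R) (w : Equiv.Perm (Fin D.nroots)) (f : Fin D.rank → ℤ) :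
    Fin D.rank → ℤ :=
  fun i => pairing f (R.α (w⁻¹ ⟨D.simple i.val, R.simple_lt i⟩))

theorem moveFun_one (f : Fin D.rank → ℤ) : hR.moveFun 1 f = f := by
  funext i
  simp [moveFun, R.α_simple, pairing_single]

theorem moveFun_mul {v w : Equiv.Perm (Fin D.nroots)} (hw : w ∈ hR.weyl)
    (f : Fin D.rank → ℤ) : hR.moveFun (v * w) f = hR.moveFun v (hR.moveFun w f) := by
  funext i
  simp only [moveFun, mul_inv_rev, Equiv.Perm.mul_apply]
  exact (hR.pairing_move hw f _).symm

theorem moveFun_sPerm (j : Fin D.rank) (g : List ℤ) :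
    funList (hR.moveFun (hR.sPerm j) (listFun D g)) = reflList D j g := by
  refine List.ofFn_inj.2 (funext fun i => ?_)
  simp only [moveFun]
  rw [inv_eq_of_mul_eq_one_right (hR.sPerm_mul_self j), hR.sPerm_val,
    hR.α_refl j _ (R.simple_lt i), map_sub, map_zsmul, R.α_simple, pairing_single, pairing_single,
    smul_eq_mul]
  show g.getD i.val 0 - D.cartan j.val (D.simple i.val) * g.getD j.val 0 = _
  ring

omit hR in
/-- The minimal representatives of the cosets of a smaller parabolic. -/
def IsMin (hR : ReflData R) (J J' : Finset (Fin D.rank)) (v : Equiv.Perm (Fin D.nroots)) : Prop :=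
  v ∈ hR.weylSub J ∧ ∀ i ∈ J', D.IsPosRoot (v ⟨D.simple i.val, R.simple_lt i⟩)

theorem card_invSet_min_mul {J J' : Finset (Fin D.rank)} {v : Equiv.Perm (Fin D.nroots)}
    (hv : hR.IsMin J J' v) : ∀ u ∈ hR.weylSub J',
      (hR.invSet (v * u)).card = (hR.invSet v).card + (hR.invSet u).card := by
  have hvW := hR.weylSub_le J hv.1
  refine hR.weylSub_induction ?_ ?_
  · have h1 : hR.invSet 1 = ∅ := Finset.eq_empty_iff_forall_notMem.2 fun s hs =>
      R.not_pos_and_neg (hR.mem_invSet.1 hs).1 (hR.mem_invSet.1 hs).2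
    simp [h1]
  · intro u hu i hi hpos ih
    have huW := hR.weylSub_le J' hu
    have h2 : D.IsPosRoot ((v * u) ⟨D.simple i.val, R.simple_lt i⟩) := by
      refine hR.apply_pos_of_simple hvW hpos fun j hj => hv.2 j ?_
      by_contra hjJ
      refine hj ?_
      rw [hR.weylSub_fix hu _ j hjJ, R.α_simple, Pi.single_eq_of_ne]
      exact fun e => hjJ (e ▸ hi)
    rw [← mul_assoc, hR.invSet_mul_sPerm (mul_mem hvW huW) i h2,
      hR.invSet_mul_sPerm huW i hpos, ih]
    omega

theorem exists_min_mul {J J' : Finset (Fin D.rank)} (hJ : J' ⊆ J) :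
    ∀ w ∈ hR.weylSub J, ∃ v u, hR.IsMin J J' v ∧ u ∈ hR.weylSub J' ∧ w = v * u := by
  suffices ∀ n, ∀ w ∈ hR.weylSub J, (hR.invSet w).card = n →
      ∃ v u, hR.IsMin J J' v ∧ u ∈ hR.weylSub J' ∧ w = v * u from fun w hw => this _ w hw rfl
  intro n
  induction n using Nat.strong_induction_on with
  | _ n ih =>
    intro w hw hn
    by_cases hmin : ∀ i ∈ J', D.IsPosRoot (w ⟨D.simple i.val, R.simple_lt i⟩)
    · exact ⟨w, 1, ⟨hw, hmin⟩, one_mem _, (mul_one w).symm⟩
    push Not at hmin
    obtain ⟨i, hi, hneg⟩ := hmin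
    have hneg' := (R.pos_or_neg (w ⟨D.simple i.val, R.simple_lt i⟩).isLt).resolve_left hneg
    have hc := hR.invSet_mul_sPerm_of_neg (hR.weylSub_le J hw) i hneg'
    obtain ⟨v, u, hv, hu, he⟩ := ih _ (by omega) _
      ((hR.weylSub J).mul_mem hw (hR.sPerm_mem_sub (hJ hi))) rfl
    refine ⟨v, u * hR.sPerm i, hv, mul_mem hu (hR.sPerm_mem_sub hi), ?_⟩
    rw [← mul_assoc, ← he, mul_assoc, hR.sPerm_mul_self i, mul_one]

omit hR in
/-- The sum `∑ q ^ l(w)` over a parabolic subgroup. -/
noncomputable def poincare (hR : ReflData R) (J : Finset (Fin D.rank)) (q : ℤ) : ℤ :=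
  ∑ w ∈ (Set.toFinite (hR.weylSub J : Set (Equiv.Perm (Fin D.nroots)))).toFinset,
    q ^ (hR.invSet w).card

theorem poincare_empty (q : ℤ) : hR.poincare ∅ q = 1 := by
  have h : hR.weylSub ∅ = ⊥ := by simp [weylSub]
  have h1 : hR.invSet 1 = ∅ := Finset.eq_empty_iff_forall_notMem.2 fun s hs =>
    R.not_pos_and_neg (hR.mem_invSet.1 hs).1 (hR.mem_invSet.1 hs).2
  rw [poincare, Finset.sum_eq_single 1]
  · simp [h1]
  · intro b hb hb1
    simp [h] at hb
    exact absurd hb hb1
  · intro h0; simp [one_mem] at h0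

/-- One step of the parabolic recursion. -/
theorem poincare_step (J : List (Fin D.rank)) (a : Fin D.rank) (ha : a ∈ J) (m : ℕ)
    (lens : List ℕ)
    (hlev : levelsAux D J m [funList (Pi.single a 1 : Fin D.rank → ℤ)] = (lens, true)) (q : ℤ) :
    hR.poincare J.toFinset q =
      (∑ k ∈ Finset.range m, (lens.getD k 0 : ℤ) * q ^ k) * hR.poincare (J.toFinset.erase a) q := by
  classical
  set f : Fin D.rank → ℤ := Pi.single a 1 with hf
  set g0 := funList f with hg0
  set J' := J.toFinset.erase a with hJ'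
  have hsub : J' ⊆ J.toFinset := Finset.erase_subset _ _
  obtain ⟨hlen, hlast⟩ := levelsAux_spec J g0 m 0
  simp only [level, Nat.zero_add] at hlen hlast
  rw [hlev] at hlen hlast
  have hlast' : level D J g0 m = [] := hlast rfl
  have hbeyond : ∀ k, m ≤ k → level D J g0 k = [] := by
    intro k hk
    induction k, hk using Nat.le_induction with
    | base => exact hlast'
    | succ k _ ih => simp [level, nextLevel, ih]
  -- the functional is `0` on the smaller system and non-negative on positive roots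
  have hfval : ∀ s : ℕ, pairing f (R.α s) = R.α s a := fun s => by
    rw [pairing_apply, Fintype.sum_eq_single a]
    · simp [hf]
    · intro j hj; simp [hf, hj]
  let pt : Equiv.Perm (Fin D.nroots) → List ℤ := fun v => funList (hR.moveFun v f)
  have hpt_step : ∀ v ∈ hR.weyl, ∀ j, pt (hR.sPerm j * v) = reflList D j (pt v) := by
    intro v hv j
    rw [← hR.moveFun_sPerm j]
    simp only [pt, listFun_funList]
    rw [hR.moveFun_mul hv]
  have hval : ∀ v : Equiv.Perm (Fin D.nroots), ∀ j : Fin D.rank, listFun D (pt v) j =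
      R.α (v⁻¹ ⟨D.simple j.val, R.simple_lt j⟩ : Fin D.nroots) a := fun v j => by
    simp only [pt, listFun_funList, moveFun, hfval]
  have hmin_step : ∀ v j, hR.IsMin J.toFinset J' v → j ∈ J →
      (0 < listFun D (pt v) j) → hR.IsMin J.toFinset J' (hR.sPerm j * v) ∧
        (hR.invSet (hR.sPerm j * v)).card = (hR.invSet v).card + 1 := by
    intro v j hv hj hpos
    have hvW := hR.weylSub_le _ hv.1
    rw [hval] at hpos
    have hposroot : D.IsPosRoot (v⁻¹ ⟨D.simple j.val, R.simple_lt j⟩ : Fin D.nroots) := by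
      refine (R.pos_or_neg (v⁻¹ _).isLt).resolve_right fun hn => ?_
      have h : R.α (v⁻¹ ⟨D.simple j.val, R.simple_lt j⟩ : Fin D.nroots) a ≤ 0 :=
        ((R.isNeg_iff _).1 hn).2 a
      omega
    refine ⟨⟨mul_mem (hR.sPerm_mem_sub (List.mem_toFinset.2 hj)) hv.1, fun i hi => ?_⟩, ?_⟩
    · rw [Equiv.Perm.mul_apply, hR.sPerm_val]
      refine hR.refl_pos j (hv.2 i hi) fun e => ?_
      have h : v⁻¹ ⟨D.simple j.val, R.simple_lt j⟩ = ⟨D.simple i.val, R.simple_lt i⟩ := by
        rw [Equiv.Perm.inv_eq_iff_eq]; exact Fin.ext e.symm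
      rw [h] at hpos
      simp only [R.α_simple] at hpos
      rw [Pi.single_eq_of_ne (Finset.ne_of_mem_erase hi).symm] at hpos
      exact lt_irrefl _ hpos
    · have h1 := hR.invSet_mul_sPerm (inv_mem hvW) j hposroot
      rw [← hR.card_invSet_inv (mul_mem (hR.sPerm_mem j) hvW), ← hR.card_invSet_inv hvW,
        mul_inv_rev, inv_eq_of_mul_eq_one_right (hR.sPerm_mul_self j)]
      exact h1
  -- every minimal representative sits in its level
  have hmem : ∀ n, ∀ v, hR.IsMin J.toFinset J' v → (hR.invSet v).card = n →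
      pt v ∈ level D J g0 n := by
    intro n
    induction n with
    | zero =>
      intro v hv h0
      rw [hR.eq_one_of_invSet_eq_empty (hR.weylSub_le _ hv.1) (Finset.card_eq_zero.1 h0)]
      simp [pt, level, hR.moveFun_one, hg0]
    | succ n ih =>
      intro v hv hn
      have hvW := hR.weylSub_le _ hv.1
      have hne : hR.invSet v⁻¹ ≠ ∅ := fun h => by
        have := hR.card_invSet_inv hvW
        rw [h, hn] at this
        simp at this
      obtain ⟨j, hj, hneg⟩ := hR.weylSub_exists_neg (inv_mem hv.1) hne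
      set v' := hR.sPerm j * v with hv'
      have hv'W : v' ∈ hR.weyl := mul_mem (hR.sPerm_mem j) hvW
      have hv'min : hR.IsMin J.toFinset J' v' := by
        refine ⟨mul_mem (hR.sPerm_mem_sub hj) hv.1, fun i hi => ?_⟩
        rw [hv', Equiv.Perm.mul_apply, hR.sPerm_val]
        refine hR.refl_pos j (hv.2 i hi) fun e => ?_
        have h : v⁻¹ ⟨D.simple j.val, R.simple_lt j⟩ = ⟨D.simple i.val, R.simple_lt i⟩ := by
          rw [Equiv.Perm.inv_eq_iff_eq]; exact Fin.ext e.symm
        rw [h] at hneg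
        exact R.not_pos_and_neg (R.simple_pos i) hneg
      have hcard : (hR.invSet v').card = n := by
        have h1 := hR.invSet_mul_sPerm_of_neg (inv_mem hvW) j hneg
        rw [← hR.card_invSet_inv hv'W, hv', mul_inv_rev,
          inv_eq_of_mul_eq_one_right (hR.sPerm_mul_self j)]
        rw [hR.card_invSet_inv hvW, hn] at h1
        omega
      refine mem_level_succ.2 ⟨pt v', ih v' hv'min hcard, j, List.mem_toFinset.1 hj, ?_, ?_⟩
      · rw [hval, hv', mul_inv_rev, Equiv.Perm.mul_apply,
          inv_eq_of_mul_eq_one_right (hR.sPerm_mul_self j),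
          show hR.sPerm j ⟨D.simple j.val, R.simple_lt j⟩ =
            ⟨D.neg (D.simple j.val), R.neg_lt _ (R.simple_lt j)⟩ from
            Fin.ext (hR.refl_simple_self j),
          hR.apply_neg (inv_mem hvW) ⟨D.simple j.val, R.simple_lt j⟩]
        set p := v⁻¹ ⟨D.simple j.val, R.simple_lt j⟩ with hp
        rw [R.α_neg _ p.isLt, Pi.neg_apply]
        by_contra hcon
        have hle : R.α p a ≤ 0 := ((R.isNeg_iff _).1 hneg).2 a
        -- otherwise the root lies in the smaller system, which `v` keeps positive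
        have hsupp : ∀ i, R.α p i ≠ 0 → i ∈ J' := by
          intro i hi
          refine Finset.mem_erase.2 ⟨fun e => hi (by rw [e]; omega), ?_⟩
          by_contra hiJ
          refine hi ?_
          rw [hp, hR.weylSub_fix (inv_mem hv.1) _ i hiJ, R.α_simple, Pi.single_eq_of_ne]
          exact fun e => hiJ (e ▸ hj)
        have hq : D.IsPosRoot (D.neg p) := (R.isPos_neg_iff p.isLt).2 hneg
        have h2 := hR.apply_pos_of_simple hvW (s := ⟨D.neg p, R.neg_lt _ p.isLt⟩) hq
          fun i hi => hv.2 i (hsupp i fun h => hi (by simp [R.α_neg _ p.isLt, h]))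
        rw [hR.apply_neg hvW p, R.isPos_neg_iff (v p).isLt, hp] at h2
        simp only [Equiv.Perm.inv_def, Equiv.apply_symm_apply] at h2
        exact R.not_pos_and_neg (R.simple_pos j) h2
      · rw [← hpt_step v' hv'W, hv', ← mul_assoc, hR.sPerm_mul_self j, one_mul]
  -- every point of a level comes from a minimal representative
  have hsurj : ∀ n, ∀ g ∈ level D J g0 n,
      ∃ v, hR.IsMin J.toFinset J' v ∧ (hR.invSet v).card = n ∧ pt v = g := by
    intro n
    induction n with
    | zero =>
      intro g hg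
      simp only [level, List.mem_singleton] at hg
      refine ⟨1, ⟨one_mem _, fun i _ => by simpa using R.simple_pos i⟩, ?_, ?_⟩
      · exact Finset.card_eq_zero.2 (Finset.eq_empty_iff_forall_notMem.2 fun s hs =>
          R.not_pos_and_neg (hR.mem_invSet.1 hs).1 (hR.mem_invSet.1 hs).2)
      · simp [pt, hR.moveFun_one, hg, hg0]
    | succ n ih =>
      intro g hg
      obtain ⟨b, hb, j, hj, hpos, rfl⟩ := mem_level_succ.1 hg
      obtain ⟨v, hv, hn, rfl⟩ := ih b hb
      obtain ⟨h1, h2⟩ := hmin_step v j hv hj hpos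
      exact ⟨_, h1, by omega, hpt_step v (hR.weylSub_le _ hv.1) j⟩
  have hinj : ∀ v v', hR.IsMin J.toFinset J' v → hR.IsMin J.toFinset J' v' → pt v = pt v' →
      v = v' := by
    intro v v' hv hv' he
    have hvW := hR.weylSub_le _ hv.1
    have hv'W := hR.weylSub_le _ hv'.1
    have hfun : hR.moveFun v f = hR.moveFun v' f := List.ofFn_inj.1 he
    set u := v⁻¹ * v' with hu
    have hfix : hR.moveFun u f = f := by
      rw [hu, hR.moveFun_mul hv'W, ← hfun, ← hR.moveFun_mul hvW, inv_mul_cancel, hR.moveFun_one]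
    have hstab : ∀ w ∈ hR.weylSub J.toFinset, hR.moveFun w f = f → w ∈ hR.weylSub J' := by
      refine hR.weylSub_induction (fun _ => one_mem _) ?_
      intro w hw i hi hpos ih hwf
      have hwW := hR.weylSub_le _ hw
      have key := hR.pairing_move (mul_mem hwW (hR.sPerm_mem i)) f
        ((w * hR.sPerm i) ⟨D.simple i.val, R.simple_lt i⟩)
      rw [show (fun k : Fin D.rank => pairing f (R.α
        ((w * hR.sPerm i)⁻¹ ⟨D.simple k.val, R.simple_lt k⟩ : Fin D.nroots))) =
          hR.moveFun (w * hR.sPerm i) f from rfl, hwf] at key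
      simp only [Equiv.Perm.inv_def, Equiv.symm_apply_apply, hfval] at key
      have hneg : D.IsNegRoot ((w * hR.sPerm i) ⟨D.simple i.val, R.simple_lt i⟩) := by
        rw [Equiv.Perm.mul_apply,
          show hR.sPerm i ⟨D.simple i.val, R.simple_lt i⟩ =
              ⟨D.neg (D.simple i.val), R.neg_lt _ (R.simple_lt i)⟩ from
            Fin.ext (hR.refl_simple_self i),
          hR.apply_neg hwW ⟨D.simple i.val, R.simple_lt i⟩, R.isNeg_neg_iff (w _).isLt]
        exact hpos
      have hle : R.α ((w * hR.sPerm i) ⟨D.simple i.val, R.simple_lt i⟩ : Fin D.nroots) a ≤ 0 :=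
        ((R.isNeg_iff _).1 hneg).2 a
      have hia : i ≠ a := by
        intro e
        rw [key, e, R.α_simple, Pi.single_eq_same] at hle
        omega
      have hsfix : hR.moveFun (hR.sPerm i) f = f := by
        rw [← listFun_funList f, ← listFun_funList (hR.moveFun _ _), hR.moveFun_sPerm]
        funext k
        simp [listFun, reflList, funList, hf, hia]
      have hi' : i ∈ J' := Finset.mem_erase.2 ⟨hia, hi⟩
      refine mul_mem (ih ?_) (hR.sPerm_mem_sub hi')
      rwa [hR.moveFun_mul (hR.sPerm_mem i), hsfix] at hwf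
    have huJ : u ∈ hR.weylSub J' := hstab u (mul_mem (inv_mem hv.1) hv'.1) hfix
    have h1 := hR.card_invSet_min_mul hv u huJ
    have h2 := hR.card_invSet_min_mul hv' u⁻¹ (inv_mem huJ)
    rw [hR.card_invSet_inv (hR.weylSub_le _ huJ)] at h2
    rw [show v * u = v' by rw [hu]; group] at h1
    rw [show v' * u⁻¹ = v by rw [hu]; group] at h2
    have hu1 : u = 1 :=
      hR.eq_one_of_invSet_eq_empty (hR.weylSub_le _ huJ) (Finset.card_eq_zero.1 (by omega))
    rw [hu, inv_mul_eq_one] at hu1
    exact hu1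
  -- assemble
  set Mn := Finset.univ.filter (hR.IsMin J.toFinset J') with hMn
  set W := (Set.toFinite (hR.weylSub J.toFinset : Set (Equiv.Perm (Fin D.nroots)))).toFinset with hW
  set W' := (Set.toFinite (hR.weylSub J' : Set (Equiv.Perm (Fin D.nroots)))).toFinset with hW'
  have hsum : ∑ w ∈ W, q ^ (hR.invSet w).card =
      ∑ x ∈ Mn ×ˢ W', q ^ (hR.invSet x.1).card * q ^ (hR.invSet x.2).card := by
    refine (Finset.sum_bij (fun x _ => x.1 * x.2) ?_ ?_ ?_ ?_).symm
    · rintro ⟨v, u⟩ hx
      simp only [Finset.mem_product, hMn, Finset.mem_filter, hW', Set.Finite.mem_toFinset,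
        SetLike.mem_coe, hW] at hx ⊢
      exact mul_mem hx.1.2.1 (hR.weylSub_mono hsub hx.2)
    · rintro ⟨v, u⟩ hx ⟨v', u'⟩ hx' he
      simp only [Finset.mem_product, hMn, Finset.mem_filter, hW', Set.Finite.mem_toFinset,
        SetLike.mem_coe] at hx hx'
      simp only at he
      -- both first factors give the same point
      have hfixu : ∀ u ∈ hR.weylSub J', hR.moveFun u f = f := by
        refine hR.weylSub_induction (hR.moveFun_one f) ?_
        intro w _ i hi _ ih
        have hia : i ≠ a := Finset.ne_of_mem_erase hi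
        rw [hR.moveFun_mul (hR.sPerm_mem i)]
        have : hR.moveFun (hR.sPerm i) f = f := by
          rw [← listFun_funList f, ← listFun_funList (hR.moveFun _ _), hR.moveFun_sPerm]
          funext k
          simp [listFun, reflList, funList, hf, hia]
        rw [this, ih]
      have hvv : v = v' := by
        refine hinj v v' hx.1.2 hx'.1.2 ?_
        have h : funList (hR.moveFun (v * u) f) = funList (hR.moveFun (v' * u') f) := by rw [he]
        rw [hR.moveFun_mul (hR.weylSub_le _ hx.2), hfixu u hx.2,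
          hR.moveFun_mul (hR.weylSub_le _ hx'.2), hfixu u' hx'.2] at h
        exact h
      subst hvv
      rw [mul_left_cancel he]
    · intro w hw
      simp only [hW, Set.Finite.mem_toFinset, SetLike.mem_coe] at hw
      obtain ⟨v, u, hv, hu, rfl⟩ := hR.exists_min_mul hsub w hw
      exact ⟨(v, u), by simp [hMn, hv, hW', hu], rfl⟩
    · rintro ⟨v, u⟩ hx
      simp only [Finset.mem_product, hMn, Finset.mem_filter, hW', Set.Finite.mem_toFinset,
        SetLike.mem_coe] at hx
      rw [← pow_add, hR.card_invSet_min_mul hx.1.2 u hx.2]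
  rw [poincare, ← hW, hsum, Finset.sum_product]
  simp only
  rw [← Finset.sum_mul_sum, poincare, ← hW']
  congr 1
  have hfib : ∀ k, (Mn.filter fun v => (hR.invSet v).card = k).card = (level D J g0 k).length := by
    intro k
    rw [← List.toFinset_card_of_nodup (level_nodup J g0 k)]
    refine Finset.card_bij (fun v _ => pt v) ?_ ?_ ?_
    · intro v hv
      simp only [hMn, Finset.mem_filter] at hv
      exact List.mem_toFinset.2 (hmem k v hv.1.2 hv.2)
    · intro v hv v' hv' h
      simp only [hMn, Finset.mem_filter] at hv hv'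
      exact hinj v v' hv.1.2 hv'.1.2 h
    · intro g hg
      obtain ⟨v, hv, hn, he⟩ := hsurj k g (List.mem_toFinset.1 hg)
      exact ⟨v, by simp [hMn, hv, hn], he⟩
  have hlt : ∀ v ∈ Mn, (hR.invSet v).card ∈ Finset.range m := by
    intro v hv
    simp only [hMn, Finset.mem_filter] at hv
    rw [Finset.mem_range]
    by_contra hcon
    have := hmem _ v hv.2 rfl
    rw [hbeyond _ (not_lt.1 hcon)] at this
    simp at this
  rw [← Finset.sum_fiberwise_of_maps_to hlt]
  refine Finset.sum_congr rfl fun k hk => ?_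
  rw [Finset.sum_congr rfl (g := fun _ => q ^ k) fun v hv => by rw [(Finset.mem_filter.1 hv).2],
    Finset.sum_const, hfib, nsmul_eq_mul, show lens = _ from hlen]
  simp [List.getD, Finset.mem_range.1 hk]

end ReflData

end CfsgLib.ChevStr
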