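import Cfsg.Agent.Lib.ChevStr.Simple
import Cfsg.Agent.Lib.ChevStr.InstanceTables

/-! Perfectness and connectedness data of the seven tabulated types. -/

set_option autoImplicit false

namespace CfsgLib.ChevStr

open Cfsg.Lie

/-- Some commutator formula has the `i`-th fundamental root as its single term, coefficient `±z`. -/
def goodCheck (D : ChevalleyDatum) (i : ℕ) (z : ℕ) : Bool :=
  (List.range D.nroots).any fun a => (D.chain.getD a #[]).toList.any fun e =>
    Nat.blt e.1 D.nroots && !Nat.beq e.1 a && !Nat.beq e.1 (D.neg a) &&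
      (decide (D.commTerms a e.1 = [(D.simple i, (z : ℤ), 1, 1)]) ||
        decide (D.commTerms a e.1 = [(D.simple i, -(z : ℤ), 1, 1)]))

theorem goodRoot_of_check {D : ChevalleyDatum} {F : Type*} [Field F] (C : ChevCore D F)
    (i : Fin D.rank) {z : ℕ} (hz : (z : F) ≠ 0) (h : goodCheck D i.val z = true) : C.GoodRoot i := by
  simp only [goodCheck, List.any_eq_true, List.mem_range, Bool.and_eq_true, Nat.blt_eq,
    Bool.not_eq_true', Bool.eq_false_iff, ne_eq, Nat.beq_eq, Bool.or_eq_true, decide_eq_true_eq] at h
  obtain ⟨a, ha, e, -, ⟨⟨hb, hba⟩, hbn⟩, hterms⟩ := h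
  rcases hterms with ht | ht
  · exact Or.inl ⟨a, e.1, (z : ℤ), ha, hb, hba, hbn, ht, by simpa using hz⟩
  · exact Or.inl ⟨a, e.1, -(z : ℤ), ha, hb, hba, hbn, ht, by simpa using hz⟩

/-- A torus element separates the `i`-th fundamental root from the trivial character. -/
theorem goodRoot_of_torus {D : ChevalleyDatum} {F : Type*} [Field F] (C : ChevCore D F)
    (i j : Fin D.rank) (c : Fˣ) (h : c ^ D.cartan j.val (D.simple i.val) ≠ 1) : C.GoodRoot i :=
  Or.inr ⟨Pi.mulSingle j c, by rwa [C.R.torusChar_single j c (C.R.simple_lt i)]⟩

theorem diagramConnectedG2 : DiagramConnected chevG2 := by unfold DiagramConnected; decide +kernel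
theorem diagramConnectedB2 : DiagramConnected chevB2 := by unfold DiagramConnected; decide +kernel
theorem diagramConnectedD4 : DiagramConnected chevD4 := by unfold DiagramConnected; decide +kernel
theorem diagramConnectedF4 : DiagramConnected chevF4 := by unfold DiagramConnected; decide +kernel
theorem diagramConnectedE6 : DiagramConnected chevE6 := by unfold DiagramConnected; decide +kernel
theorem diagramConnectedE7 : DiagramConnected chevE7 := by unfold DiagramConnected; decide +kernel
theorem diagramConnectedE8 : DiagramConnected chevE8 := by unfold DiagramConnected; decide +kernel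

theorem goodCheckD4 : ∀ i : Fin chevD4.rank, goodCheck chevD4 i.val 1 = true := by decide +kernel
theorem goodCheckF4 : ∀ i : Fin chevF4.rank, goodCheck chevF4 i.val 1 = true := by decide +kernel
theorem goodCheckE6 : ∀ i : Fin chevE6.rank, goodCheck chevE6 i.val 1 = true := by decide +kernel
theorem goodCheckE7 : ∀ i : Fin chevE7.rank, goodCheck chevE7 i.val 1 = true := by decide +kernel
theorem goodCheckE8 : ∀ i : Fin chevE8.rank, goodCheck chevE8 i.val 1 = true := by decide +kernel

end CfsgLib.ChevStr
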