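import Cfsg.Agent.Lib.ChevStr.Bruhat

/-!
Consequences of the BN-pair of a Chevalley group: solvability and core of `B`, fusion in the torus,
minimal parabolic subgroups, the longest element.
-/

set_option autoImplicit false

namespace CfsgLib.ChevStr

open Cfsg.Lie
open scoped MatrixGroups

namespace ChevCore

variable {D : ChevalleyDatum} {F : Type*} [Field F] (C : ChevCore D F)

include C in
theorem torus_comm {a b : GL D.Idx F} (ha : a ∈ D.diagonalSubgroup F)
    (hb : b ∈ D.diagonalSubgroup F) : a * b = b * a := by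
  rw [C.diagonalSubgroup_eq] at ha hb
  obtain ⟨c, rfl⟩ := ha
  obtain ⟨d, rfl⟩ := hb
  rw [← map_mul, mul_comm, map_mul]

theorem torus_eq_prod (c : Fin D.rank → Fˣ) :
    C.R.torus c = ((List.finRange D.rank).map fun i => C.R.torusSingle i (c i)).prod := by
  conv_lhs => rw [← Finset.univ_prod_mulSingle c]
  rw [Fin.prod_univ_def, map_list_prod, List.map_map]
  rfl

/-- An element of `H` as a product over the fundamental roots. -/
theorem exists_diagonal_word {g : GL D.Idx F} (hg : g ∈ D.diagonalSubgroup F) :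
    ∃ c : ℕ → F, (∀ i < D.rank, c i ≠ 0) ∧
      g = C.wordGL ((List.range D.rank).flatMap fun i => D.hWord (D.simple i) (c i)) := by
  rw [C.diagonalSubgroup_eq] at hg
  obtain ⟨c, rfl⟩ := hg
  refine ⟨fun i => if h : i < D.rank then (c ⟨i, h⟩ : F) else 1, fun i hi => ?_, ?_⟩
  · simp [hi]
  have key : ∀ (L : List ℕ) (f : ℕ → List (ℕ × F)),
      C.wordGL (L.flatMap f) = (L.map fun i => C.wordGL (f i)).prod := by
    intro L f
    induction L with
    | nil => rfl
    | cons a L ih => rw [List.flatMap_cons, C.wordGL_append, ih, List.map_cons, List.prod_cons]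
  rw [key, C.torus_eq_prod, ← List.map_coe_finRange_eq_range, List.map_map]
  refine congrArg List.prod (List.map_congr_left fun i _ => ?_)
  show C.R.torusSingle i (c i) = C.hGL (D.simple i.val) _
  rw [← C.hGL_simple]
  simp

include C in
theorem posUnipotent_sup_negUnipotent : D.posUnipotent F ⊔ D.negUnipotent F = D.group F := by
  refine le_antisymm (sup_le (C.posUnipotent_le fun r t _ => C.xGL_mem_group r t)
    (C.negUnipotent_le fun r t _ => C.xGL_mem_group r t)) (C.group_le fun r t hr => ?_)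
  rcases C.R.pos_or_neg hr with h | h
  · exact le_sup_left (b := D.negUnipotent F) (C.xGL_mem_posUnipotent h t)
  · exact le_sup_right (a := D.posUnipotent F) (C.xGL_mem_negUnipotent h t)

/-- `B ∪ B n_p B` is a subgroup. -/
theorem exists_minimal_parabolic (i : Fin D.rank) :
    ∃ P : Subgroup (GL D.Idx F),
      (P : Set (GL D.Idx F)) = (D.borelSubgroup F : Set (GL D.Idx F)) ∪ C.bigCell (C.nS i) := by
  have hss : ∀ {m g : GL D.Idx F}, m ∈ D.borelSubgroup F → g ∈ C.bigCell m → g ∈ D.borelSubgroup F := by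
    intro m g hm hg
    obtain ⟨x, hx, y, hy, rfl⟩ := C.mem_bigCell.1 hg
    exact mul_mem (mul_mem hx hm) hy
  obtain ⟨k, hk⟩ := C.nS_mul_self_mem i
  have hsB : C.nS i * C.nS i ∈ D.borelSubgroup F := hk ▸ C.torus_mem_borel k
  obtain ⟨c, hc⟩ := C.nS_inv i
  refine ⟨
    { carrier := (D.borelSubgroup F : Set (GL D.Idx F)) ∪ C.bigCell (C.nS i)
      one_mem' := Or.inl (one_mem _)
      mul_mem' := ?_
      inv_mem' := ?_ }, rfl⟩
  · rintro a b (ha | ha) (hb | hb)
    · exact Or.inl (mul_mem ha hb)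
    · exact Or.inr (by simpa using C.bigCell_mul hb ha (one_mem _))
    · exact Or.inr (by simpa using C.bigCell_mul ha (one_mem _) hb)
    · obtain ⟨x, hx, y, hy, rfl⟩ := C.mem_bigCell.1 ha
      obtain ⟨z, hz, v, hv, rfl⟩ := C.mem_bigCell.1 hb
      rcases C.nS_mul_mem i (C.nS_mem_monomial i) (mul_mem hy hz) with h | h
      · exact Or.inl (by
          have := mul_mem (mul_mem hx (hss hsB h)) hv
          simpa [mul_assoc] using this)
      · exact Or.inr (by simpa [mul_assoc] using C.bigCell_mul h hx hv)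
  · rintro a (ha | ha)
    · exact Or.inl (inv_mem ha)
    · refine Or.inr ?_
      obtain ⟨x, hx, y, hy, rfl⟩ := C.mem_bigCell.1 ha
      refine C.mem_bigCell.2 ⟨y⁻¹ * C.R.torus c, mul_mem (inv_mem hy) (C.torus_mem_borel c),
        x⁻¹, inv_mem hx, ?_⟩
      rw [mul_inv_rev, mul_inv_rev, hc]
      group

theorem Usub_eq (i : Fin D.rank) :
    C.Usub i = Subgroup.closure {g : GL D.Idx F | ∃ (s : ℕ) (t : F), D.IsPosRoot s ∧
      s ≠ D.simple i.val ∧ (g : Matrix D.Idx D.Idx F) = D.x F s t} := by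
  unfold Usub Ucl
  congr 1
  ext g
  exact ⟨fun ⟨r, hr, t, hg⟩ => ⟨r, t, hr.1, hr.2, by rw [hg, C.coe_xGL]⟩,
    fun ⟨r, t, h1, h2, hg⟩ => ⟨r, ⟨h1, h2⟩, t, Units.ext hg⟩⟩

theorem rootSubgroup_neg_le_normalizer_Usub (i : Fin D.rank) :
    D.rootSubgroup F (D.neg (D.simple i.val)) ≤
      Subgroup.normalizer (C.Usub i : Set (GL D.Idx F)) := by
  have hs : C.nS i ∈ Subgroup.normalizer (C.Usub i : Set (GL D.Idx F)) := by
    refine Subgroup.mem_normalizer_iff.2 fun g => ⟨C.nS_conj_Usub i g, fun hg => ?_⟩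
    obtain ⟨k, hk⟩ := C.nS_mul_self_mem i
    have hnorm := C.torus_normalizes {r | D.IsPosRoot r ∧ r ≠ D.simple i.val} ⟨k, rfl⟩
    have h2 := C.nS_conj_Usub i _ hg
    rw [show C.nS i * (C.nS i * g * (C.nS i)⁻¹) * (C.nS i)⁻¹ =
      C.R.torus k * g * (C.R.torus k)⁻¹ by rw [hk]; group] at h2
    exact (Subgroup.mem_normalizer_iff.1 hnorm g).2 h2
  obtain ⟨-, e, he⟩ := C.acts_nS i
  obtain ⟨h1, -, h2⟩ := he (C.pRoot i)
  intro x hx
  obtain ⟨t, rfl⟩ := C.mem_rootSubgroup.1 hx
  have h3 := h2 ((e (C.pRoot i) : F) * t)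
  rw [← mul_assoc, show ((e (C.pRoot i) : F) * (e (C.pRoot i) : F)) = 1 by
    rcases h1 with h | h <;> simp [h], one_mul, C.sPerm_pRoot] at h3
  rw [show C.xGL (D.neg (D.simple i.val)) t = _ from h3.symm]
  exact mul_mem (mul_mem hs (C.rootSubgroup_le_normalizer_Usub i (C.mem_rootSubgroup.2 ⟨_, rfl⟩)))
    (inv_mem hs)

include C in
/-- Fusion in the torus is controlled by the monomial subgroup. -/
theorem exists_monomial_conj {h₁ h₂ g : GL D.Idx F} (h1 : h₁ ∈ D.diagonalSubgroup F)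
    (h2 : h₂ ∈ D.diagonalSubgroup F) (hg : g ∈ D.group F) (hc : g * h₁ * g⁻¹ = h₂) :
    ∃ n ∈ D.monomialSubgroup F, n * h₁ * n⁻¹ = h₂ := by
  obtain ⟨w, hw, b, hb, n, hn, hmv, u, hu, rfl⟩ := C.normalForm_exists hg
  refine ⟨n, hn, ?_⟩
  have hB : ∀ {d}, d ∈ D.diagonalSubgroup F → d ∈ D.borelSubgroup F := fun h =>
    le_sup_right (a := D.posUnipotent F) h
  have hconj : n * h₁ * n⁻¹ ∈ D.diagonalSubgroup F := C.conj_diagonal_mem hn h1
  have hu' : h₁⁻¹ * u * h₁ ∈ C.Ucl (C.hR.invRoots w) := by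
    have h := h1
    rw [C.diagonalSubgroup_eq] at h
    have := (Subgroup.mem_normalizer_iff.1 (inv_mem (C.torus_normalizes (C.hR.invRoots w) h)) u).1 hu
    simpa using this
  have heq : h₂ * b * n * u = b * (n * h₁ * n⁻¹) * n * (h₁⁻¹ * u * h₁) := by
    rw [← hc]; group
  obtain ⟨-, -, h3⟩ := C.normalForm_unique (mul_mem (hB h2) hb) (mul_mem hb (hB hconj)) hn hn hmv hmv
    hu hu' heq
  obtain ⟨hbd, -⟩ := h3 rfl
  obtain ⟨v, hv, c, rfl⟩ := C.mem_borel.1 hb
  set k := n * h₁ * n⁻¹ with hk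
  have hcd : C.R.torus c * k = k * C.R.torus c :=
    C.torus_comm (by rw [C.diagonalSubgroup_eq]; exact ⟨c, rfl⟩) hconj
  have hkey : h₂ * v = v * k := by
    have : h₂ * v * C.R.torus c = v * k * C.R.torus c := by
      rw [mul_assoc, hbd, mul_assoc, hcd]; group
    exact mul_right_cancel this
  have hmem : k⁻¹ * h₂ ∈ D.posUnipotent F ⊓ D.diagonalSubgroup F := by
    refine Subgroup.mem_inf.2 ⟨?_, mul_mem (inv_mem hconj) h2⟩
    have e : k⁻¹ * h₂ = (k⁻¹ * v * k) * v⁻¹ := by
      rw [show h₂ = h₂ * v * v⁻¹ by group, hkey]; group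
    rw [e]
    refine mul_mem ?_ (inv_mem hv)
    have := (Subgroup.mem_normalizer_iff.1 (inv_mem (C.diagonal_normalizes_pos hconj)) v).1 hv
    simpa using this
  rw [C.posUnipotent_inf_diagonal, Subgroup.mem_bot, inv_mul_eq_one] at hmem
  exact hmem

include C in
theorem borel_isSolvable : Group.IsSolvable ↥(D.borelSubgroup F) := by
  by_cases hN : D.nroots = 0
  · have hU : D.posUnipotent F = ⊥ := le_bot_iff.1 (C.posUnipotent_le fun r t hr => by
      have := hr.1; omega)
    have hB : D.borelSubgroup F = D.diagonalSubgroup F := by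
      rw [ChevalleyDatum.borelSubgroup, hU, bot_sup_eq]
    exact Group.isSolvable_of_comm fun a b => Subtype.ext (C.torus_comm (hB ▸ a.2) (hB ▸ b.2))
  set U' := (D.posUnipotent F).subgroupOf (D.borelSubgroup F) with hU'
  have : U'.Normal := by
    refine ⟨fun x hx g => ?_⟩
    exact (Subgroup.mem_normalizer_iff.1 (C.borel_normalizes g.2) x).1 hx
  have : Group.IsNilpotent ↥(D.posUnipotent F) := by
    have := C.R.upperUni_nilpotent F (Nat.pos_of_ne_zero hN)
    exact Group.nilpotent_of_mulEquiv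
      (Subgroup.subgroupOfEquivOfLe (C.R.posUnipotent_le_upperUni F))
  have hsol : Group.IsSolvable ↥U' :=
    Group.isSolvable_of_isSolvable_injective (f := (Subgroup.subgroupOfEquivOfLe
      (le_sup_left : D.posUnipotent F ≤ D.borelSubgroup F)).toMonoidHom) (MulEquiv.injective _)
  have hq : Group.IsSolvable (↥(D.borelSubgroup F) ⧸ U') := by
    refine Group.isSolvable_of_comm ?_
    have hex : ∀ x : ↥(D.borelSubgroup F) ⧸ U', ∃ c, ∀ h : C.R.torus c ∈ D.borelSubgroup F,
        x = QuotientGroup.mk' U' ⟨C.R.torus c, h⟩ := by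
      intro x
      obtain ⟨⟨b, hb⟩, rfl⟩ := QuotientGroup.mk'_surjective U' x
      obtain ⟨u, hu, c, rfl⟩ := C.mem_borel.1 hb
      refine ⟨c, fun h => (QuotientGroup.eq.2 ?_).symm⟩
      show (C.R.torus c)⁻¹ * (u * C.R.torus c) ∈ D.posUnipotent F
      have := (Subgroup.mem_normalizer_iff.1 (inv_mem (C.borel_normalizes h)) u).1 hu
      simpa [mul_assoc] using this
    intro x y
    obtain ⟨c, hc⟩ := hex x
    obtain ⟨d, hd⟩ := hex y
    rw [hc (C.torus_mem_borel c), hd (C.torus_mem_borel d), ← map_mul, ← map_mul]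
    congr 1
    exact Subtype.ext (show C.R.torus c * C.R.torus d = C.R.torus d * C.R.torus c by
      rw [← map_mul, mul_comm, map_mul])
  exact Group.isSolvable_of_ker_le_range U'.subtype (QuotientGroup.mk' U') (by
    rw [QuotientGroup.ker_mk', Subgroup.range_subtype])

include C in
theorem exists_longest_rep : ∃ n ∈ D.monomialSubgroup F,
    (∀ g ∈ D.posUnipotent F, n * g * n⁻¹ ∈ D.negUnipotent F) ∧
    ∀ g ∈ D.negUnipotent F, n⁻¹ * g * n ∈ D.posUnipotent F := by
  obtain ⟨w, hw, hneg⟩ := C.hR.exists_longest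
  obtain ⟨n, hn, hact⟩ := C.exists_rep hw
  refine ⟨n, C.rep_mem_monomial hn, ?_, ?_⟩
  · rw [C.posUnipotent_eq]
    exact C.conj_Ucl_le (Acts.moves C hact) fun s hs t => C.xGL_mem_negUnipotent (hneg s hs) t
  · rw [C.negUnipotent_eq]
    intro g hg
    have h := C.conj_Ucl_le (Acts.moves C (Acts.inv C hact)) (T := D.posUnipotent F)
      (fun s hs t => C.xGL_mem_posUnipotent ?_ t) g hg
    · simpa using h
    · refine (C.R.pos_or_neg (w⁻¹ s).isLt).resolve_right fun hn' => ?_
      have h1 := hneg ⟨D.neg (w⁻¹ s : Fin D.nroots), C.R.neg_lt _ (w⁻¹ s).isLt⟩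
        ((C.R.isPos_neg_iff (w⁻¹ s).isLt).2 hn')
      rw [C.hR.apply_neg hw (w⁻¹ s), C.R.isNeg_neg_iff (w _).isLt] at h1
      simp only [Equiv.Perm.inv_def, Equiv.apply_symm_apply] at h1
      exact C.R.not_pos_and_neg h1 hs

include C in
theorem exists_map_posUnipotent :
    ∃ n ∈ D.monomialSubgroup F,
      (D.posUnipotent F).map (MulAut.conj n).toMonoidHom = D.negUnipotent F := by
  obtain ⟨n, hn, h1, h2⟩ := C.exists_longest_rep
  refine ⟨n, hn, le_antisymm ?_ fun g hg => ?_⟩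
  · rintro _ ⟨g, hg, rfl⟩; exact h1 g hg
  · refine ⟨n⁻¹ * g * n, h2 g hg, ?_⟩
    show n * (n⁻¹ * g * n) * n⁻¹ = g
    group

include C in
/-- The core of `B` in the group is trivial. -/
theorem normalCore_borel_eq_bot :
    ((D.borelSubgroup F).subgroupOf (D.group F)).normalCore = ⊥ := by
  refine (Subgroup.eq_bot_iff_forall _).2 fun h hh => ?_
  have hconj : ∀ x : ↥(D.group F), (x : GL D.Idx F) * h * (x : GL D.Idx F)⁻¹ ∈ D.borelSubgroup F :=
    fun x => hh x
  obtain ⟨n, hn, h1, -⟩ := C.exists_longest_rep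
  have hH : ∀ z : GL D.Idx F, z ∈ D.borelSubgroup F → n * z * n⁻¹ ∈
      D.negUnipotent F ⊔ D.diagonalSubgroup F := by
    intro z hz
    obtain ⟨u, hu, c, rfl⟩ := C.mem_borel.1 hz
    rw [show n * (u * C.R.torus c) * n⁻¹ = (n * u * n⁻¹) * (n * C.R.torus c * n⁻¹) by group]
    exact mul_mem (Subgroup.mem_sup_left (h1 u hu))
      (Subgroup.mem_sup_right (C.conj_diagonal_mem hn (by rw [C.diagonalSubgroup_eq]; exact ⟨c, rfl⟩)))
  have hdiag : ∀ x : ↥(D.group F),
      (x : GL D.Idx F) * h * (x : GL D.Idx F)⁻¹ ∈ D.diagonalSubgroup F := by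
    intro x
    rw [← C.borel_inf_negUnipotent_sup]
    refine Subgroup.mem_inf.2 ⟨hconj x, ?_⟩
    have := hH _ (hconj (⟨n, C.monomial_le_group hn⟩⁻¹ * x))
    simpa [mul_assoc] using this
  have hh0 := hdiag 1
  simp only [OneMemClass.coe_one, one_mul, inv_one, mul_one] at hh0
  rw [C.diagonalSubgroup_eq] at hh0
  obtain ⟨c, hc⟩ := hh0
  have hchar : ∀ s : Fin D.nroots, (C.R.torusChar c (C.R.α s) : F) = 1 := by
    intro s
    set χ : F := (C.R.torusChar c (C.R.α s) : F) with hχ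
    have h3 := hdiag ⟨C.xGL s 1, C.xGL_mem_group _ _⟩
    have e : C.xGL s 1 * (h : GL D.Idx F) * (C.xGL s 1)⁻¹ =
        C.xGL s (1 + χ * -1) * (h : GL D.Idx F) := by
      rw [C.xGL_inv, C.xGL_add, ← C.acts_torus c s (-1), ← hc]
      group
    simp only at h3
    rw [e] at h3
    have h4 : C.xGL s (1 + χ * -1) ∈ D.diagonalSubgroup F := by
      have := mul_mem h3 (inv_mem (show (h : GL D.Idx F) ∈ D.diagonalSubgroup F by
        rw [C.diagonalSubgroup_eq]; exact ⟨c, hc⟩))
      simpa using this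
    have h5 : C.xGL s (1 + χ * -1) = 1 := by
      rcases C.R.pos_or_neg s.isLt with hp | hp
      · exact (Subgroup.eq_bot_iff_forall _).1 C.posUnipotent_inf_diagonal _
          (Subgroup.mem_inf.2 ⟨C.xGL_mem_posUnipotent hp _, h4⟩)
      · exact (Subgroup.eq_bot_iff_forall _).1 C.borel_inf_negUnipotent _
          (Subgroup.mem_inf.2 ⟨le_sup_right (a := D.posUnipotent F) h4, C.xGL_mem_negUnipotent hp _⟩)
    have h6 := (C.xGL_eq_one_iff s.isLt).1 h5
    linear_combination -h6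
  refine Subtype.ext ?_
  show (h : GL D.Idx F) = 1
  rw [← hc]
  refine Units.ext ?_
  rw [C.R.coe_torus, Units.val_one, ← Matrix.diagonal_one]
  congr 1
  funext a
  rcases a with i | s
  · simp [C.R.torusChar_zero]
  · simpa using hchar s

end ChevCore

end CfsgLib.ChevStr
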