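import Cfsg.Agent.Lib.ChevStr.Derived
import Cfsg.Agent.Lib.ChevStr.Mem
import Mathlib.LinearAlgebra.Matrix.SpecialLinearGroup

/-!
The homomorphism from `SL₂` onto the subgroup generated by a pair of opposite root subgroups, defined
on the two Bruhat cells.
-/

set_option autoImplicit false

namespace CfsgLib.ChevStr

open Cfsg.Lie Matrix

namespace ChevCore

variable {D : ChevalleyDatum} {F : Type*} [Field F] (C : ChevCore D F)

/-- The normalisation `n_p x_p(t) n_p⁻¹ = x_{-p}(-t)`. -/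
def EtaNeg : Prop := ∀ i : Fin D.rank, C.η i (D.simple i.val) = -1

variable (i : Fin D.rank)

/-- `x_p(t)`. -/
def rX (t : F) : GL D.Idx F := C.xGL (D.simple i.val) t

/-- `x_{-p}(t)`. -/
def rY (t : F) : GL D.Idx F := C.xGL (D.neg (D.simple i.val)) t

/-- `n_p(t)`. -/
def rN (t : F) : GL D.Idx F := C.nGL (D.simple i.val) t

/-- `h_p(t)`. -/
def rH (t : F) : GL D.Idx F := C.hGL (D.simple i.val) t

theorem rX_add (t u : F) : C.rX i (t + u) = C.rX i t * C.rX i u := C.xGL_add _ t u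

theorem rX_zero : C.rX i 0 = 1 := C.xGL_zero _

theorem rY_zero : C.rY i 0 = 1 := C.xGL_zero _

theorem rH_eq {u : F} (hu : u ≠ 0) : C.rH i u = C.R.torusSingle i (Units.mk0 u hu) :=
  C.hGL_simple i (Units.mk0 u hu)

theorem rH_mul {u v : F} (hu : u ≠ 0) (hv : v ≠ 0) : C.rH i (u * v) = C.rH i u * C.rH i v := by
  rw [C.rH_eq i (mul_ne_zero hu hv), C.rH_eq i hu, C.rH_eq i hv, RootData.torusSingle,
    RootData.torusSingle, RootData.torusSingle, ← map_mul, ← Pi.mulSingle_mul]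
  congr 2
  exact Units.ext rfl

theorem rH_one : C.rH i 1 = 1 := by
  rw [C.rH_eq i one_ne_zero, RootData.torusSingle,
    show (Units.mk0 (1 : F) one_ne_zero) = 1 from Units.ext rfl, Pi.mulSingle_one, map_one]

theorem rH_mul_rN {u v : F} (hu : u ≠ 0) (hv : v ≠ 0) :
    C.rH i u * C.rN i v = C.rN i (u * v) := by
  have h1 : ∀ {w : F}, w ≠ 0 → C.rN i w = C.rH i w * C.nS i := fun {w} hw => by
    rw [C.rH_eq i hw]; exact C.nGL_simple i (Units.mk0 w hw)
  rw [h1 hv, h1 (mul_ne_zero hu hv), C.rH_mul i hu hv, mul_assoc]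

theorem rH_mul_rX {u : F} (hu : u ≠ 0) (t : F) :
    C.rH i u * C.rX i t = C.rX i (u ^ 2 * t) * C.rH i u := by
  have h := C.acts_torus (Pi.mulSingle i (Units.mk0 u hu)) (C.pRoot i) t
  rw [mul_inv_eq_iff_eq_mul] at h
  rw [show C.R.α (C.pRoot i : ℕ) = C.R.α (D.simple i.val) from rfl,
    C.R.torusChar_single i _ (C.R.simple_lt i), C.hR.cartan_self i] at h
  rw [C.rH_eq i hu]
  exact h.trans (by simp [rX, pRoot, zpow_ofNat, RootData.torusSingle])

theorem rX_rN_one (hη : C.EtaNeg) (t : F) : C.rX i t * C.rN i 1 = C.rN i 1 * C.rY i (-t) := by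
  have hconj : ∀ s : F, C.rN i 1 * C.rX i s = C.rY i (-s) * C.rN i 1 := by
    intro s
    refine Units.ext ?_
    have h := C.n_conj i (D.simple i.val) (C.R.simple_lt i) s
    rw [hη i, C.hR.refl_simple_self i] at h
    simpa [rX, rY, rN] using h
  have hh : C.rH i (-1) = (C.rN i 1 * C.rN i 1)⁻¹ := by
    rw [rH, C.hGL_eq, C.nGL_neg, _root_.mul_inv_rev]; rfl
  have hcomm : C.rX i t * C.rH i (-1) = C.rH i (-1) * C.rX i t := by
    rw [C.rH_mul_rX i (neg_ne_zero.2 one_ne_zero)]; simp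
  have h1 : C.rX i t * (C.rN i 1 * C.rN i 1) = C.rN i 1 * C.rN i 1 * C.rX i t := by
    rw [hh] at hcomm
    exact Commute.inv_right_iff.1 hcomm
  rw [mul_assoc (C.rN i 1) (C.rN i 1) (C.rX i t), hconj, ← mul_assoc (C.rX i t),
    ← mul_assoc (C.rN i 1) (C.rY i (-t))] at h1
  exact mul_right_cancel h1

theorem rN_mul_rN : C.rN i 1 * C.rN i 1 = C.rH i (-1) := by
  have h2 : C.rH i (-1) * C.rH i (-1) = 1 := by
    rw [← C.rH_mul i (by simp) (by simp)]; simp [C.rH_one i]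
  have h3 : C.rH i (-1) = (C.rN i 1 * C.rN i 1)⁻¹ := by
    rw [rH, C.hGL_eq, C.nGL_neg, _root_.mul_inv_rev]; rfl
  rw [← inv_inv (C.rN i 1 * C.rN i 1), ← h3]
  exact inv_eq_of_mul_eq_one_right h2

theorem rY_eq {v : F} (hv : v ≠ 0) :
    C.rY i v = C.rX i v⁻¹ * C.rN i (-v⁻¹) * C.rX i v⁻¹ := C.xGL_neg_eq _ hv

/-- The formula on the two Bruhat cells, in the four entries. -/
noncomputable def slCell (a b c d : F) : GL D.Idx F :=
  open Classical in
  if c = 0 then C.rH i a * C.rX i (b / a) else C.rX i (a / c) * C.rN i (-c⁻¹) * C.rX i (d / c)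

/-- The map on the two Bruhat cells of `SL₂`. -/
noncomputable def slMap (g : SpecialLinearGroup (Fin 2) F) : GL D.Idx F :=
  C.slCell i ((g : Matrix (Fin 2) (Fin 2) F) 0 0) ((g : Matrix (Fin 2) (Fin 2) F) 0 1)
    ((g : Matrix (Fin 2) (Fin 2) F) 1 0) ((g : Matrix (Fin 2) (Fin 2) F) 1 1)

/-- `[[1, t], [0, 1]]`. -/
def slX (t : F) : SpecialLinearGroup (Fin 2) F := ⟨!![1, t; 0, 1], by simp [det_fin_two]⟩

/-- `[[1, 0], [t, 1]]`. -/
def slY (t : F) : SpecialLinearGroup (Fin 2) F := ⟨!![1, 0; t, 1], by simp [det_fin_two]⟩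

/-- `[[0, 1], [-1, 0]]`. -/
def slW : SpecialLinearGroup (Fin 2) F := ⟨!![0, 1; -1, 0], by simp [det_fin_two]⟩

@[simp] theorem coe_slX (t : F) :
    ((slX t : SpecialLinearGroup (Fin 2) F) : Matrix (Fin 2) (Fin 2) F) = !![1, t; 0, 1] := rfl

@[simp] theorem coe_slY (t : F) :
    ((slY t : SpecialLinearGroup (Fin 2) F) : Matrix (Fin 2) (Fin 2) F) = !![1, 0; t, 1] := rfl

@[simp] theorem coe_slW :
    ((slW : SpecialLinearGroup (Fin 2) F) : Matrix (Fin 2) (Fin 2) F) = !![0, 1; -1, 0] := rfl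

theorem sl_det (g : SpecialLinearGroup (Fin 2) F) : (g : Matrix (Fin 2) (Fin 2) F) 0 0 * (g : Matrix (Fin 2) (Fin 2) F) 1 1 - (g : Matrix (Fin 2) (Fin 2) F) 0 1 * (g : Matrix (Fin 2) (Fin 2) F) 1 0 = 1 := by
  have := g.2
  rwa [det_fin_two] at this

theorem slMap_slX (t : F) : C.slMap i (slX t) = C.rX i t := by
  simp [slMap, slCell, C.rH_one i]

theorem slMap_slY (t : F) : C.slMap i (slY t) = C.rY i t := by
  by_cases ht : t = 0
  · subst ht
    simp [slMap, slCell, C.rH_one i, C.rX_zero i, C.rY_zero i]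
  · simp [slMap, slCell, ht, C.rY_eq i ht]

theorem slMap_slW : C.slMap i slW = C.rN i 1 := by
  simp [slMap, slCell, C.rX_zero i]

theorem slMap_mul_slX (g : SpecialLinearGroup (Fin 2) F) (t : F) :
    C.slMap i (g * slX t) = C.slMap i g * C.slMap i (slX t) := by
  rw [slMap_slX]
  have e00 : ((g * slX t : SpecialLinearGroup (Fin 2) F) : Matrix (Fin 2) (Fin 2) F) 0 0 = (g : Matrix (Fin 2) (Fin 2) F) 0 0 := by simp [SpecialLinearGroup.coe_mul, Matrix.mul_apply, Fin.sum_univ_two]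
  have e01 : ((g * slX t : SpecialLinearGroup (Fin 2) F) : Matrix (Fin 2) (Fin 2) F) 0 1 = (g : Matrix (Fin 2) (Fin 2) F) 0 0 * t + (g : Matrix (Fin 2) (Fin 2) F) 0 1 := by
    simp [SpecialLinearGroup.coe_mul, Matrix.mul_apply, Fin.sum_univ_two]
  have e10 : ((g * slX t : SpecialLinearGroup (Fin 2) F) : Matrix (Fin 2) (Fin 2) F) 1 0 = (g : Matrix (Fin 2) (Fin 2) F) 1 0 := by simp [SpecialLinearGroup.coe_mul, Matrix.mul_apply, Fin.sum_univ_two]
  have e11 : ((g * slX t : SpecialLinearGroup (Fin 2) F) : Matrix (Fin 2) (Fin 2) F) 1 1 = (g : Matrix (Fin 2) (Fin 2) F) 1 0 * t + (g : Matrix (Fin 2) (Fin 2) F) 1 1 := by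
    simp [SpecialLinearGroup.coe_mul, Matrix.mul_apply, Fin.sum_univ_two]
  rw [slMap, slMap, e00, e01, e10, e11]
  simp only [slCell]
  by_cases hc : (g : Matrix (Fin 2) (Fin 2) F) 1 0 = 0
  · have hd := sl_det g
    have ha : (g : Matrix (Fin 2) (Fin 2) F) 0 0 ≠ 0 := fun h => by rw [h, hc] at hd; simp at hd
    rw [if_pos hc, if_pos hc, mul_assoc (C.rH i _), ← C.rX_add]
    congr 2; field_simp; ring
  · rw [if_neg hc, if_neg hc, mul_assoc (C.rX i _ * C.rN i _), ← C.rX_add]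
    congr 2; field_simp; ring

theorem slMap_mul_slW (hη : C.EtaNeg) (g : SpecialLinearGroup (Fin 2) F) :
    C.slMap i (g * slW) = C.slMap i g * C.slMap i slW := by
  rw [slMap_slW]
  have e00 : ((g * slW : SpecialLinearGroup (Fin 2) F) : Matrix (Fin 2) (Fin 2) F) 0 0 = -(g : Matrix (Fin 2) (Fin 2) F) 0 1 := by simp [SpecialLinearGroup.coe_mul, Matrix.mul_apply, Fin.sum_univ_two]
  have e01 : ((g * slW : SpecialLinearGroup (Fin 2) F) : Matrix (Fin 2) (Fin 2) F) 0 1 = (g : Matrix (Fin 2) (Fin 2) F) 0 0 := by simp [SpecialLinearGroup.coe_mul, Matrix.mul_apply, Fin.sum_univ_two]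
  have e10 : ((g * slW : SpecialLinearGroup (Fin 2) F) : Matrix (Fin 2) (Fin 2) F) 1 0 = -(g : Matrix (Fin 2) (Fin 2) F) 1 1 := by simp [SpecialLinearGroup.coe_mul, Matrix.mul_apply, Fin.sum_univ_two]
  have e11 : ((g * slW : SpecialLinearGroup (Fin 2) F) : Matrix (Fin 2) (Fin 2) F) 1 1 = (g : Matrix (Fin 2) (Fin 2) F) 1 0 := by simp [SpecialLinearGroup.coe_mul, Matrix.mul_apply, Fin.sum_univ_two]
  rw [slMap, slMap, e00, e01, e10, e11]
  simp only [slCell]
  have hd := sl_det g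
  set a := (g : Matrix (Fin 2) (Fin 2) F) 0 0
  set b := (g : Matrix (Fin 2) (Fin 2) F) 0 1
  set c := (g : Matrix (Fin 2) (Fin 2) F) 1 0
  set d := (g : Matrix (Fin 2) (Fin 2) F) 1 1
  by_cases hc : c = 0
  · rw [hc, mul_zero, sub_zero] at hd
    have ha : a ≠ 0 := left_ne_zero_of_mul_eq_one hd
    have hd0 : d ≠ 0 := right_ne_zero_of_mul_eq_one hd
    rw [if_neg (neg_ne_zero.2 hd0), if_pos hc, C.rH_mul_rX i ha, mul_assoc _ (C.rH i a), C.rH_mul_rN i ha one_ne_zero, hc,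
      zero_div, C.rX_zero, mul_one, mul_one, inv_neg, neg_neg]
    congr 2
    · field_simp; linear_combination -(b : F) * hd
    · field_simp; linear_combination -hd
  · rw [if_neg hc]
    by_cases hd0 : d = 0
    · rw [if_pos (show -d = 0 by rw [hd0, neg_zero]), hd0, zero_div, C.rX_zero, mul_one]
      rw [hd0, mul_zero, zero_sub] at hd
      have hb : b ≠ 0 := fun h => by rw [h] at hd; simp at hd
      have hcn : -c⁻¹ ≠ (0 : F) := by simpa using hc
      rw [show -b = c⁻¹ by field_simp; linear_combination hd, mul_assoc]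
      have h1 : C.rN i (-c⁻¹) * C.rN i 1 = C.rH i c⁻¹ := by
        have hnn := C.rN_mul_rN i
        rw [show C.rN i (-c⁻¹) = C.rH i (-c⁻¹) * C.rN i 1 by
          rw [C.rH_mul_rN i hcn one_ne_zero, mul_one], mul_assoc, hnn,
          ← C.rH_mul i hcn (by simp), mul_neg_one, neg_neg]
      rw [h1, C.rH_mul_rX i (inv_ne_zero hc)]
      congr 2
      field_simp
    · rw [if_neg (neg_ne_zero.2 hd0)]
      have hδ : d / c ≠ 0 := div_ne_zero hd0 hc
      have hcn : -c⁻¹ ≠ (0 : F) := by simpa using hc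
      have h1 : C.rX i (a / c) * C.rN i (-c⁻¹) * C.rX i (d / c) * C.rN i 1 =
          C.rX i (a / c) * (C.rH i (-c⁻¹) * C.rN i 1) * (C.rN i 1 * C.rY i (-(d / c))) := by
        rw [C.rH_mul_rN i hcn one_ne_zero, mul_one, ← C.rX_rN_one i hη]
        simp only [mul_assoc]
      have h2 := C.rN_mul_rN i
      have h4 : C.rH i (-c⁻¹) * C.rN i 1 * C.rN i 1 = C.rH i c⁻¹ := by
        rw [mul_assoc, h2, ← C.rH_mul i hcn (by simp), mul_neg_one, neg_neg]
      rw [h1, C.rY_eq i (neg_ne_zero.2 hδ)]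
      have h5 : C.rH i c⁻¹ * C.rX i (-(d / c))⁻¹ =
          C.rX i (c⁻¹ ^ 2 * (-(d / c))⁻¹) * C.rH i c⁻¹ := C.rH_mul_rX i (inv_ne_zero hc) _
      calc C.rX i (-b / -d) * C.rN i (-(-d)⁻¹) * C.rX i (c / -d)
          = C.rX i (a / c) * C.rX i (c⁻¹ ^ 2 * (-(d / c))⁻¹) *
              C.rN i (c⁻¹ * -(-(d / c))⁻¹) * C.rX i (-(d / c))⁻¹ := by
            rw [← C.rX_add]
            congr 2
            · congr 1; field_simp; linear_combination -hd
            · congr 1; field_simp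
            · field_simp
        _ = C.rX i (a / c) * (C.rH i c⁻¹ * C.rX i (-(d / c))⁻¹) * C.rN i (-(-(d / c))⁻¹) *
              C.rX i (-(d / c))⁻¹ := by
            rw [← C.rH_mul_rN i (inv_ne_zero hc) (neg_ne_zero.2 (inv_ne_zero (neg_ne_zero.2 hδ))), h5]
            simp only [mul_assoc]
        _ = _ := by rw [← h4]; simp only [mul_assoc]

theorem sl_decomp (P : SpecialLinearGroup (Fin 2) F → Prop) (hx : ∀ t, P (slX t))
    (hy : ∀ t, P (slY t)) (hmul : ∀ g h, P g → P h → P (g * h)) : ∀ g, P g := by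
  have key : ∀ g : SpecialLinearGroup (Fin 2) F, (g : Matrix (Fin 2) (Fin 2) F) 1 0 ≠ 0 → P g := by
    intro g hc
    have : g = slX (((g : Matrix (Fin 2) (Fin 2) F) 0 0 - 1) / (g : Matrix (Fin 2) (Fin 2) F) 1 0) * slY ((g : Matrix (Fin 2) (Fin 2) F) 1 0) * slX (((g : Matrix (Fin 2) (Fin 2) F) 1 1 - 1) / (g : Matrix (Fin 2) (Fin 2) F) 1 0) := by
      ext a b
      have hd := sl_det g
      fin_cases a <;> fin_cases b <;>
        simp [SpecialLinearGroup.coe_mul, Matrix.mul_apply, Fin.sum_univ_two] <;> field_simp <;>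
        first | ring1 | linear_combination -hd | linear_combination hd
    rw [this]
    exact hmul _ _ (hmul _ _ (hx _) (hy _)) (hx _)
  intro g
  by_cases hc : (g : Matrix (Fin 2) (Fin 2) F) 1 0 = 0
  · have hd := sl_det g
    rw [hc, mul_zero, sub_zero] at hd
    have hd0 : (g : Matrix (Fin 2) (Fin 2) F) 1 1 ≠ 0 := right_ne_zero_of_mul_eq_one hd
    have h1 : P (g * slW) := key _ (by simpa [SpecialLinearGroup.coe_mul, Matrix.mul_apply, Fin.sum_univ_two] using hd0)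
    have h2 : P slW⁻¹ := key _ (by simp [SpecialLinearGroup.coe_inv, adjugate_fin_two])
    simpa using hmul _ _ h1 h2
  · exact key g hc

theorem slMap_mul (hη : C.EtaNeg) :
    ∀ h g : SpecialLinearGroup (Fin 2) F, C.slMap i (g * h) = C.slMap i g * C.slMap i h := by
  let Q : SpecialLinearGroup (Fin 2) F → Prop :=
    fun h => ∀ g, C.slMap i (g * h) = C.slMap i g * C.slMap i h
  have hmul : ∀ g h, Q g → Q h → Q (g * h) := fun g h hg hh k => by
    rw [← mul_assoc, hh, hg, hh, mul_assoc]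
  have hx : ∀ t, Q (slX t) := fun t g => C.slMap_mul_slX i g t
  have hw : Q slW := C.slMap_mul_slW i hη
  refine sl_decomp Q hx (fun t => ?_) hmul
  have : slY t = slW * slX (-t) * (slW * slW * slW) := by
    ext a b
    fin_cases a <;> fin_cases b <;> simp [SpecialLinearGroup.coe_mul, Matrix.mul_apply, Fin.sum_univ_two]
  rw [this]
  exact hmul _ _ (hmul _ _ hw (hx _)) (hmul _ _ (hmul _ _ hw hw) hw)

/-- The homomorphism attached to a fundamental root. -/
noncomputable def slHom (hη : C.EtaNeg) : SpecialLinearGroup (Fin 2) F →* GL D.Idx F :=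
  MonoidHom.mk' (C.slMap i) fun g h => C.slMap_mul i hη h g

/-- Conjugation by `diag(e, 1)` for a sign `e`. -/
def slTwistFun {e : F} (he : e * e = 1) (g : SpecialLinearGroup (Fin 2) F) :
    SpecialLinearGroup (Fin 2) F :=
  ⟨!![(g : Matrix (Fin 2) (Fin 2) F) 0 0, e * (g : Matrix (Fin 2) (Fin 2) F) 0 1;
    e * (g : Matrix (Fin 2) (Fin 2) F) 1 0, (g : Matrix (Fin 2) (Fin 2) F) 1 1], by
    rw [det_fin_two]
    have hd := sl_det g
    simp only [of_apply, cons_val', cons_val_zero, cons_val_one, cons_val_fin_one]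
    linear_combination hd - ((g : Matrix (Fin 2) (Fin 2) F) 0 1 * (g : Matrix (Fin 2) (Fin 2) F) 1 0) * he⟩

@[simp] theorem coe_slTwistFun {e : F} (he : e * e = 1) (g : SpecialLinearGroup (Fin 2) F) :
    ((slTwistFun he g : SpecialLinearGroup (Fin 2) F) : Matrix (Fin 2) (Fin 2) F) =
      !![(g : Matrix (Fin 2) (Fin 2) F) 0 0, e * (g : Matrix (Fin 2) (Fin 2) F) 0 1;
        e * (g : Matrix (Fin 2) (Fin 2) F) 1 0, (g : Matrix (Fin 2) (Fin 2) F) 1 1] := rfl

/-- `slTwistFun` as a homomorphism. -/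
def slTwist {e : F} (he : e * e = 1) :
    SpecialLinearGroup (Fin 2) F →* SpecialLinearGroup (Fin 2) F where
  toFun := slTwistFun he
  map_one' := by ext a b; fin_cases a <;> fin_cases b <;> simp
  map_mul' g h := by
    ext a b
    fin_cases a <;> fin_cases b <;>
      simp [Matrix.mul_apply, Fin.sum_univ_two] <;>
      first | ring1 | linear_combination -((g : Matrix (Fin 2) (Fin 2) F) 0 1 * (h : Matrix (Fin 2) (Fin 2) F) 1 0) * he | linear_combination -((g : Matrix (Fin 2) (Fin 2) F) 1 0 * (h : Matrix (Fin 2) (Fin 2) F) 0 1) * he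

theorem exists_slHom (hη : C.EtaNeg) {r : ℕ} (hr : r < D.nroots) :
    ∃ φ : SpecialLinearGroup (Fin 2) F →* GL D.Idx F,
      φ.range = D.rootSubgroup F r ⊔ D.rootSubgroup F (D.neg r) ∧
      ∀ t : F, φ (slX t) = C.xGL r t ∧ φ (slY t) = C.xGL (D.neg r) t := by
  obtain ⟨w, hw, k, hk⟩ := C.exists_simple_image ⟨r, hr⟩
  obtain ⟨n, hn, -, e, he⟩ := C.exists_rep hw
  obtain ⟨h1, h2, h3⟩ := he (C.pRoot k)
  have hp : w (C.pRoot k) = ⟨r, hr⟩ := hk
  have hneg : ((w (C.pNeg k) : Fin D.nroots) : ℕ) = D.neg r := by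
    rw [show C.pNeg k = ⟨D.neg (C.pRoot k : ℕ), C.R.neg_lt _ (C.pRoot k).isLt⟩ from rfl]
    simp [C.hR.apply_neg hw, hp]
  obtain ⟨h1', -, h3'⟩ := he (C.pNeg k)
  have he2 : e (D.neg (D.simple k.val)) = e (D.simple k.val) := h2
  have hee : ((e (D.simple k.val) : ℤ) : F) * ((e (D.simple k.val) : ℤ) : F) = 1 := by
    rcases h1 with h | h <;> simp [show e (D.simple k.val) = _ from h]
  set φ := (MulAut.conj n).toMonoidHom.comp ((C.slHom k hη).comp (slTwist hee)) with hφ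
  have hX : ∀ t, φ (slX t) = C.xGL r t := by
    intro t
    show n * C.slMap k (slTwist hee (slX t)) * n⁻¹ = _
    rw [show slTwist hee (slX t) = slX (((e (D.simple k.val) : ℤ) : F) * t) from by
      ext a b; fin_cases a <;> fin_cases b <;> simp [slTwist, slTwistFun], slMap_slX, rX]
    show n * C.xGL (C.pRoot k : ℕ) _ * n⁻¹ = _
    rw [h3, hp]
    show C.xGL r _ = _
    rw [show (e (C.pRoot k : ℕ)) = e (D.simple k.val) from rfl, ← mul_assoc, hee, one_mul]
  have hY : ∀ t, φ (slY t) = C.xGL (D.neg r) t := by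
    intro t
    show n * C.slMap k (slTwist hee (slY t)) * n⁻¹ = _
    rw [show slTwist hee (slY t) = slY (((e (D.simple k.val) : ℤ) : F) * t) from by
      ext a b; fin_cases a <;> fin_cases b <;> simp [slTwist, slTwistFun], slMap_slY, rY]
    show n * C.xGL (C.pNeg k : ℕ) _ * n⁻¹ = _
    rw [h3', hneg, show (e (C.pNeg k : ℕ)) = e (D.simple k.val) from he2, ← mul_assoc, hee, one_mul]
  refine ⟨φ, le_antisymm ?_ (sup_le ?_ ?_), fun t => ⟨hX t, hY t⟩⟩
  · rintro _ ⟨g, rfl⟩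
    refine sl_decomp (fun g => φ g ∈ D.rootSubgroup F r ⊔ D.rootSubgroup F (D.neg r))
      (fun t => le_sup_left (b := D.rootSubgroup F (D.neg r)) (C.mem_rootSubgroup.2 ⟨t, hX t⟩))
      (fun t => le_sup_right (a := D.rootSubgroup F r) (C.mem_rootSubgroup.2 ⟨t, hY t⟩))
      (fun g h hg hh => by rw [map_mul]; exact mul_mem hg hh) g
  · intro x hx
    obtain ⟨t, rfl⟩ := C.mem_rootSubgroup.1 hx
    exact ⟨slX t, hX t⟩
  · intro x hx
    obtain ⟨t, rfl⟩ := C.mem_rootSubgroup.1 hx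
    exact ⟨slY t, hY t⟩

end ChevCore

theorem etaCheck_G2 : ∀ i : Fin chevG2.rank, Chev.G2.cert.T.eta i.val (chevG2.simple i.val) = -1 := by decide +kernel
theorem etaCheck_B2 : ∀ i : Fin chevB2.rank, Chev.B2.cert.T.eta i.val (chevB2.simple i.val) = -1 := by decide +kernel
theorem etaCheck_D4 : ∀ i : Fin chevD4.rank, Chev.D4.cert.T.eta i.val (chevD4.simple i.val) = -1 := by decide +kernel
theorem etaCheck_F4 : ∀ i : Fin chevF4.rank, Chev.F4.cert.T.eta i.val (chevF4.simple i.val) = -1 := by decide +kernel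
theorem etaCheck_E6 : ∀ i : Fin chevE6.rank, Chev.E6.cert.T.eta i.val (chevE6.simple i.val) = -1 := by decide +kernel
theorem etaCheck_E7 : ∀ i : Fin chevE7.rank, Chev.E7.cert.T.eta i.val (chevE7.simple i.val) = -1 := by decide +kernel
theorem etaCheck_E8 : ∀ i : Fin chevE8.rank, Chev.E8.cert.T.eta i.val (chevE8.simple i.val) = -1 := by decide +kernel

theorem exists_core_etaNeg {D : ChevalleyDatum}
    (hD : D ∈ [chevG2, chevB2, chevD4, chevF4, chevE6, chevE7, chevE8]) (F : Type*) [Field F] :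
    ∃ C : ChevCore D F, C.EtaNeg := by
  simp only [List.mem_cons, List.not_mem_nil, or_false] at hD
  rcases hD with rfl | rfl | rfl | rfl | rfl | rfl | rfl
  exacts [⟨coreG2 F, etaCheck_G2⟩, ⟨coreB2 F, etaCheck_B2⟩, ⟨coreD4 F, etaCheck_D4⟩,
    ⟨coreF4 F, etaCheck_F4⟩, ⟨coreE6 F, etaCheck_E6⟩, ⟨coreE7 F, etaCheck_E7⟩, ⟨coreE8 F, etaCheck_E8⟩]

end CfsgLib.ChevStr
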