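import Cfsg.Agent.Lib.ChevStr.Monomial
import Cfsg.Prelude.Def_LieExceptional

/-!
The BN-pair of a Chevalley group, the Bruhat decomposition with its normal form and the order
formula `|G| = |B| * ∑_w q ^ l(w)`.
-/

set_option autoImplicit false

namespace CfsgLib.ChevStr

open Cfsg.Lie
open scoped MatrixGroups

variable {D : ChevalleyDatum}

namespace ReflData

variable {R : RootData D} (hR : ReflData R)

/-- The elements of the Weyl group as a finite set. -/
noncomputable def weylSet (hR : ReflData R) : Finset (Equiv.Perm (Fin D.nroots)) :=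
  (Set.toFinite (hR.weyl : Set (Equiv.Perm (Fin D.nroots)))).toFinset

theorem mem_weylSet {w : Equiv.Perm (Fin D.nroots)} : w ∈ hR.weylSet ↔ w ∈ hR.weyl := by
  simp [weylSet]

/-- The indices of the roots in the inversion set. -/
def invRoots (hR : ReflData R) (w : Equiv.Perm (Fin D.nroots)) : Set ℕ :=
  {r | ∃ h : r < D.nroots, (⟨r, h⟩ : Fin D.nroots) ∈ hR.invSet w}

include hR in
theorem combo_weyl {w : Equiv.Perm (Fin D.nroots)} (hw : w ∈ hR.weyl) {r s k : Fin D.nroots}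
    {a b : ℤ} (h : R.α k = a • R.α r + b • R.α s) :
    R.α (w k) = a • R.α (w r) + b • R.α (w s) := by
  rw [hR.α_weyl w hw k, hR.α_weyl w hw r, hR.α_weyl w hw s, h, Finset.smul_sum, Finset.smul_sum,
    ← Finset.sum_add_distrib]
  refine Finset.sum_congr rfl fun j _ => ?_
  simp only [Pi.add_apply, Pi.smul_apply, smul_eq_mul]
  module

theorem invRoots_closed {w : Equiv.Perm (Fin D.nroots)} (hw : w ∈ hR.weyl) :
    R.IsClosed (hR.invRoots w) := by
  refine ⟨fun r ⟨h, hr⟩ => (hR.mem_invSet.1 hr).1, ?_⟩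
  rintro r ⟨hrn, hr⟩ s ⟨hsn, hs⟩ k hk
  have hr' := hR.mem_invSet.1 hr
  have hs' := hR.mem_invSet.1 hs
  refine ⟨hk.1, hR.mem_invSet.2 ⟨R.combo_pos hr'.1 hs'.1 hk, ?_⟩⟩
  obtain ⟨hkn, a, b, -, -, hab⟩ := hk
  refine (R.isNeg_iff _).2 ⟨(w ⟨k, hkn⟩).isLt, ?_⟩
  rw [hR.combo_weyl hw (k := ⟨k, hkn⟩) (r := ⟨r, hrn⟩) (s := ⟨s, hsn⟩) hab]
  exact add_nonpos (smul_nonpos_of_nonneg_of_nonpos (by positivity) ((R.isNeg_iff _).1 hr'.2).2)
    (smul_nonpos_of_nonneg_of_nonpos (by positivity) ((R.isNeg_iff _).1 hs'.2).2)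

theorem ncard_invRoots (w : Equiv.Perm (Fin D.nroots)) :
    (hR.invRoots w).ncard = (hR.invSet w).card := by
  have : hR.invRoots w = Fin.val '' (hR.invSet w : Set (Fin D.nroots)) := by
    ext r
    constructor
    · rintro ⟨h, hr⟩; exact ⟨⟨r, h⟩, hr, rfl⟩
    · rintro ⟨⟨r, h⟩, hr, rfl⟩; exact ⟨h, hr⟩
  rw [this, Set.ncard_image_of_injective _ Fin.val_injective, Set.ncard_coe_finset]

theorem mem_invRoots {w : Equiv.Perm (Fin D.nroots)} {s : Fin D.nroots} :
    (s : ℕ) ∈ hR.invRoots w ↔ D.IsPosRoot s ∧ D.IsNegRoot (w s) := by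
  rw [← hR.mem_invSet]
  exact ⟨fun ⟨_, h⟩ => h, fun h => ⟨s.isLt, h⟩⟩

end ReflData

namespace ChevCore

variable {F : Type*} [Field F] (C : ChevCore D F)

/-- The index of the `i`-th fundamental root, as a `Fin`. -/
def pRoot (i : Fin D.rank) : Fin D.nroots := ⟨D.simple i.val, C.R.simple_lt i⟩

/-- The index of the negative of the `i`-th fundamental root, as a `Fin`. -/
def pNeg (i : Fin D.rank) : Fin D.nroots := ⟨D.neg (D.simple i.val), C.R.neg_lt _ (C.R.simple_lt i)⟩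

theorem sPerm_pRoot (i : Fin D.rank) : C.hR.sPerm i (C.pRoot i) = C.pNeg i :=
  Fin.ext (C.hR.refl_simple_self i)

theorem sPerm_pNeg (i : Fin D.rank) : C.hR.sPerm i (C.pNeg i) = C.pRoot i := by
  rw [← C.sPerm_pRoot, C.hR.sPerm_sPerm]

/-- The subgroup `U_p`. -/
def Usub (i : Fin D.rank) : Subgroup (GL D.Idx F) :=
  C.Ucl {r | D.IsPosRoot r ∧ r ≠ D.simple i.val}

theorem Usub_le (i : Fin D.rank) : C.Usub i ≤ D.posUnipotent F :=
  C.Ucl_le fun _ hr t => C.xGL_mem_posUnipotent hr.1 t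

theorem rootSubgroup_le_normalizer_Usub (i : Fin D.rank) :
    D.rootSubgroup F (D.simple i.val) ≤ Subgroup.normalizer (C.Usub i : Set (GL D.Idx F)) := by
  intro x hx
  obtain ⟨t, rfl⟩ := C.mem_rootSubgroup.1 hx
  refine C.pos_normalizes (C.R.simple_pos i) (fun s hs => hs.1) (fun s hs k hk => ?_) t
  exact ⟨C.R.combo_pos (C.R.simple_pos i) hs.1 hk,
    fun e => (C.R.combo_lt (C.R.simple_pos i) hs.1 hk).1.ne e.symm⟩

theorem Usub_sup_root (i : Fin D.rank) :
    C.Usub i ⊔ D.rootSubgroup F (D.simple i.val) = D.posUnipotent F := by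
  refine le_antisymm (sup_le (C.Usub_le i) ?_) (C.posUnipotent_le fun r t hr => ?_)
  · intro x hx
    obtain ⟨t, rfl⟩ := C.mem_rootSubgroup.1 hx
    exact C.xGL_mem_posUnipotent (C.R.simple_pos i) t
  · by_cases h : r = D.simple i.val
    · subst h; exact le_sup_right (a := C.Usub i) (C.mem_rootSubgroup.2 ⟨t, rfl⟩)
    · exact le_sup_left (b := D.rootSubgroup F _) (C.xGL_mem_Ucl (S := {r | D.IsPosRoot r ∧ r ≠ D.simple i.val}) ⟨hr, h⟩ t)

theorem borel_decomp (i : Fin D.rank) {b : GL D.Idx F} (hb : b ∈ D.borelSubgroup F) :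
    ∃ v ∈ C.Usub i, ∃ t c, b = v * C.xGL (D.simple i.val) t * C.R.torus c := by
  obtain ⟨u, hu, c, rfl⟩ := C.mem_borel.1 hb
  rw [← C.Usub_sup_root i, ← SetLike.mem_coe,
    Subgroup.coe_mul_of_right_le_normalizer_left _ _ (C.rootSubgroup_le_normalizer_Usub i)] at hu
  obtain ⟨v, hv, x, hx, rfl⟩ := hu
  obtain ⟨t, rfl⟩ := C.mem_rootSubgroup.1 hx
  exact ⟨v, hv, t, c, rfl⟩

theorem conj_Ucl_le {n : GL D.Idx F} {w : Equiv.Perm (Fin D.nroots)} (hn : C.Moves n w)
    {S : Set ℕ} {T : Subgroup (GL D.Idx F)}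
    (h : ∀ (s : Fin D.nroots), (s : ℕ) ∈ S → ∀ t, C.xGL (w s) t ∈ T) :
    ∀ g ∈ C.Ucl S, n * g * n⁻¹ ∈ T := by
  intro g hg
  have hle : C.Ucl S ≤ T.comap (MulAut.conj n).toMonoidHom := by
    refine C.Ucl_le fun r hr t => ?_
    show n * C.xGL r t * n⁻¹ ∈ T
    by_cases hrn : r < D.nroots
    · obtain ⟨u, hu⟩ := hn.2 ⟨r, hrn⟩ t
      rw [hu]; exact h ⟨r, hrn⟩ hr u
    · rw [C.xGL_of_le (not_lt.1 hrn), mul_one, mul_inv_cancel]; exact one_mem _
  exact hle hg

theorem nS_conj_Usub (i : Fin D.rank) :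
    ∀ g ∈ C.Usub i, C.nS i * g * (C.nS i)⁻¹ ∈ C.Usub i := by
  refine C.conj_Ucl_le (Acts.moves C (C.acts_nS i)) fun s hs t =>
    C.xGL_mem_Ucl (S := {r | D.IsPosRoot r ∧ r ≠ D.simple i.val}) ⟨?_, ?_⟩ t
  · exact C.hR.refl_pos i hs.1 hs.2
  · intro e
    have h1 : C.hR.sPerm i s = C.pRoot i := Fin.ext e
    have h2 : s = C.pNeg i := by rw [← C.sPerm_pRoot, ← h1, C.hR.sPerm_sPerm]
    subst h2
    exact C.R.not_pos_and_neg hs.1 ((C.R.isNeg_neg_iff (C.R.simple_lt i)).2 (C.R.simple_pos i))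

theorem torus_mem_borel (c : Fin D.rank → Fˣ) : C.R.torus c ∈ D.borelSubgroup F :=
  le_sup_right (a := D.posUnipotent F) (by rw [C.diagonalSubgroup_eq]; exact ⟨c, rfl⟩)

theorem pos_mem_borel {r : ℕ} (hr : D.IsPosRoot r) (t : F) : C.xGL r t ∈ D.borelSubgroup F :=
  le_sup_left (b := D.diagonalSubgroup F) (C.xGL_mem_posUnipotent hr t)

theorem nS_inv (i : Fin D.rank) : ∃ c, (C.nS i)⁻¹ = C.R.torus c * C.nS i := by
  obtain ⟨c, hc⟩ := C.nS_mul_self_mem i
  refine ⟨c⁻¹, ?_⟩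
  rw [map_inv, hc]
  group

include C in
theorem conj_diagonal_mem {n : GL D.Idx F} (hn : n ∈ D.monomialSubgroup F) {d : GL D.Idx F}
    (hd : d ∈ D.diagonalSubgroup F) : n * d * n⁻¹ ∈ D.diagonalSubgroup F := by
  rw [C.diagonalSubgroup_eq] at hd ⊢
  exact (Subgroup.mem_normalizer_iff.1 (C.monomial_le_normalizer hn) d).1 hd

theorem conj_torus_mem_borel {n : GL D.Idx F} (hn : n ∈ D.monomialSubgroup F)
    (c : Fin D.rank → Fˣ) : n * C.R.torus c * n⁻¹ ∈ D.borelSubgroup F :=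
  le_sup_right (a := D.posUnipotent F) (C.conj_diagonal_mem hn (by
    rw [C.diagonalSubgroup_eq]; exact ⟨c, rfl⟩))

/-- The rank one identity. -/
theorem xGL_neg_eq (r : ℕ) {v : F} (hv : v ≠ 0) :
    C.xGL (D.neg r) v = C.xGL r v⁻¹ * C.nGL r (-v⁻¹) * C.xGL r v⁻¹ := by
  simp only [nGL, wordGL, ChevalleyDatum.nWord, List.map_cons, List.map_nil, List.prod_cons,
    List.prod_nil, mul_one, inv_neg, inv_inv, neg_neg]
  rw [← mul_assoc, ← mul_assoc, mul_assoc, mul_assoc, ← C.xGL_add, ← C.xGL_add, add_neg_cancel,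
    neg_add_cancel]
  simp [C.xGL_zero]

open DoubleCoset

/-- The double coset `B n B`. -/
def bigCell (_C : ChevCore D F) (n : GL D.Idx F) : Set (GL D.Idx F) :=
  doubleCoset n (D.borelSubgroup F : Set (GL D.Idx F)) (D.borelSubgroup F)

theorem mem_bigCell {n g : GL D.Idx F} :
    g ∈ C.bigCell n ↔ ∃ a ∈ D.borelSubgroup F, ∃ b ∈ D.borelSubgroup F, g = a * n * b :=
  DoubleCoset.mem_doubleCoset

theorem self_mem_bigCell (n : GL D.Idx F) : n ∈ C.bigCell n :=
  C.mem_bigCell.2 ⟨1, one_mem _, 1, one_mem _, by simp⟩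

theorem bigCell_mul {n g a b : GL D.Idx F} (hg : g ∈ C.bigCell n) (ha : a ∈ D.borelSubgroup F)
    (hb : b ∈ D.borelSubgroup F) : a * g * b ∈ C.bigCell n := by
  obtain ⟨x, hx, y, hy, rfl⟩ := C.mem_bigCell.1 hg
  exact C.mem_bigCell.2 ⟨a * x, mul_mem ha hx, y * b, mul_mem hy hb, by group⟩

theorem bigCell_symm {n m : GL D.Idx F} (h : n ∈ C.bigCell m) : m ∈ C.bigCell n := by
  obtain ⟨x, hx, y, hy, rfl⟩ := C.mem_bigCell.1 h
  exact C.mem_bigCell.2 ⟨x⁻¹, inv_mem hx, y⁻¹, inv_mem hy, by group⟩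

theorem bigCell_trans {n m g : GL D.Idx F} (h : g ∈ C.bigCell m) (h' : m ∈ C.bigCell n) :
    g ∈ C.bigCell n := by
  obtain ⟨x, hx, y, hy, rfl⟩ := C.mem_bigCell.1 h
  exact C.bigCell_mul h' hx hy

theorem inv_mem_bigCell {n g : GL D.Idx F} (h : g ∈ C.bigCell n) : g⁻¹ ∈ C.bigCell n⁻¹ := by
  obtain ⟨x, hx, y, hy, rfl⟩ := C.mem_bigCell.1 h
  exact C.mem_bigCell.2 ⟨y⁻¹, inv_mem hy, x⁻¹, inv_mem hx, by group⟩

/-- The double coset condition for a fundamental reflection. -/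
theorem nS_mul_mem (i : Fin D.rank) {n : GL D.Idx F} (hn : n ∈ D.monomialSubgroup F)
    {b : GL D.Idx F} (hb : b ∈ D.borelSubgroup F) :
    C.nS i * b * n ∈ C.bigCell (C.nS i * n) ∪ C.bigCell n := by
  obtain ⟨v, hv, t, c, rfl⟩ := C.borel_decomp i hb
  obtain ⟨w, hw, hw'⟩ := C.exists_moves hn
  set p := D.simple i.val with hp
  set a := C.nS i * v * (C.nS i)⁻¹ with ha
  have haB : a ∈ D.borelSubgroup F :=
    le_sup_left (b := D.diagonalSubgroup F) (C.Usub_le i (C.nS_conj_Usub i v hv))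
  set e := n⁻¹ * C.R.torus c * n with he
  have heB : e ∈ D.borelSubgroup F := by
    simpa [he] using C.conj_torus_mem_borel (inv_mem hn) c
  have hsplit : C.nS i * (v * C.xGL p t * C.R.torus c) * n = a * (C.nS i * C.xGL p t * n) * e := by
    rw [ha, he]; group
  rw [hsplit]
  suffices h : C.nS i * C.xGL p t * n ∈ C.bigCell (C.nS i * n) ∪ C.bigCell n from
    h.imp (fun h => C.bigCell_mul h haB heB) (fun h => C.bigCell_mul h haB heB)
  obtain ⟨u, hu⟩ := hw'.2 (C.pRoot i) t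
  rw [inv_inv] at hu
  rcases C.R.pos_or_neg (w⁻¹ (C.pRoot i)).isLt with hpos | hneg
  · refine Or.inl (C.mem_bigCell.2 ⟨1, one_mem _, _, C.pos_mem_borel hpos u, ?_⟩)
    rw [← hu]
    show C.nS i * C.xGL p t * n = 1 * (C.nS i * n) * (n⁻¹ * C.xGL p t * n)
    group
  · by_cases ht : t = 0
    · exact Or.inl (by simpa [ht, C.xGL_zero] using C.self_mem_bigCell (C.nS i * n))
    obtain ⟨-, sgn, hsgn⟩ := C.acts_nS i
    obtain ⟨he1, -, hconj⟩ := hsgn (C.pRoot i)
    set z : F := (sgn (C.pRoot i) : F) * t with hz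
    have hz0 : z ≠ 0 := by
      rcases he1 with h | h <;> simp [hz, h, ht]
    have hc := hconj t
    rw [← hz, C.sPerm_pRoot] at hc
    have hxp : C.nS i * C.xGL p t * n = C.xGL (D.neg p) z * (C.nS i * n) := by
      rw [← show C.nS i * C.xGL p t * (C.nS i)⁻¹ = C.xGL (D.neg p) z from hc]; group
    have hm := Moves.mul C (Acts.moves C (C.acts_nS i)) hw
    have hmN : C.nS i * n ∈ D.monomialSubgroup F := mul_mem (C.nS_mem_monomial i) hn
    obtain ⟨u', hu'⟩ := (Moves.inv C hmN hm).2 (C.pRoot i) z⁻¹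
    rw [inv_inv] at hu'
    have hroot : (C.hR.sPerm i * w)⁻¹ (C.pRoot i) = w⁻¹ (C.pNeg i) := by
      rw [mul_inv_rev, Equiv.Perm.mul_apply, inv_eq_of_mul_eq_one_right (C.hR.sPerm_mul_self i),
        C.sPerm_pRoot]
    have hpos' : D.IsPosRoot ((C.hR.sPerm i * w)⁻¹ (C.pRoot i)) := by
      rw [hroot, show ((w⁻¹ (C.pNeg i) : Fin D.nroots) : ℕ) = D.neg (w⁻¹ (C.pRoot i)) from
        C.hR.apply_neg (inv_mem hw.1) (C.pRoot i), C.R.isPos_neg_iff (w⁻¹ _).isLt]
      exact hneg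
    obtain ⟨k, hk⟩ := C.nS_mul_self_mem i
    obtain ⟨d, hd⟩ : ∃ d, C.nGL p (-z⁻¹) = C.R.torus d * C.nS i := by
      exact ⟨_, C.nGL_simple i (Units.mk0 (-z⁻¹) (by simpa using hz0))⟩
    refine Or.inr (C.mem_bigCell.2 ⟨C.xGL p z⁻¹ * C.R.torus d * C.R.torus k, ?_, _,
      C.pos_mem_borel hpos' u', ?_⟩)
    · exact mul_mem (mul_mem (C.pos_mem_borel (C.R.simple_pos i) _) (C.torus_mem_borel d))
        (C.torus_mem_borel k)
    · rw [hxp, C.xGL_neg_eq p hz0, hd, hk, ← hu']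
      show _ = C.xGL p z⁻¹ * C.R.torus d * (C.nS i * C.nS i) * n *
        ((C.nS i * n)⁻¹ * C.xGL p z⁻¹ * (C.nS i * n))
      group

/-- The condition with the reflection on the right. -/
theorem mul_nS_mem (i : Fin D.rank) {n : GL D.Idx F} (hn : n ∈ D.monomialSubgroup F)
    {b : GL D.Idx F} (hb : b ∈ D.borelSubgroup F) :
    n * b * C.nS i ∈ C.bigCell (n * C.nS i) ∪ C.bigCell n := by
  obtain ⟨c, hc⟩ := C.nS_inv i
  have h := C.nS_mul_mem i (inv_mem hn) (inv_mem hb)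
  have e : (n * b * C.nS i)⁻¹ = C.R.torus c * (C.nS i * b⁻¹ * n⁻¹) := by
    rw [mul_inv_rev, mul_inv_rev, hc]; group
  have key : ∀ m, C.nS i * b⁻¹ * n⁻¹ ∈ C.bigCell m → n * b * C.nS i ∈ C.bigCell m⁻¹ := by
    intro m hm
    have h1 := C.inv_mem_bigCell (C.bigCell_mul hm (C.torus_mem_borel c) (one_mem _))
    rw [mul_one, ← e, inv_inv] at h1
    exact h1
  rcases h with h | h
  · refine Or.inl (C.bigCell_trans (key _ h) (C.mem_bigCell.2 ⟨n * C.R.torus c * n⁻¹,
      C.conj_torus_mem_borel hn c, 1, one_mem _, ?_⟩))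
    rw [mul_inv_rev, inv_inv, hc]; group
  · exact Or.inr (by simpa using key _ h)

/-! ### Uniqueness of the cell -/

theorem moves_eq_of_mem_aux : ∀ w ∈ C.hR.weyl, ∀ n ∈ D.monomialSubgroup F, C.Moves n w →
    ∀ n' ∈ D.monomialSubgroup F, ∀ w', C.Moves n' w' →
      (C.hR.invSet w).card ≤ (C.hR.invSet w').card → n ∈ C.bigCell n' → w = w' := by
  refine C.hR.weyl_inv_induction ?_ ?_
  · intro n hn h1 n' hn' w' hw' _ hcell
    have hnH : n ∈ D.diagonalSubgroup F := C.mem_diagonal_of_moves_one hn h1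
    have hnB : n ∈ D.borelSubgroup F := le_sup_right (a := D.posUnipotent F) hnH
    obtain ⟨x, hx, y, hy, rfl⟩ := C.mem_bigCell.1 (C.bigCell_symm hcell)
    have h : x * n * y ∈ D.diagonalSubgroup F := by
      rw [← C.borel_inf_monomial]; exact Subgroup.mem_inf.2 ⟨mul_mem (mul_mem hx hnB) hy, hn'⟩
    rw [C.diagonalSubgroup_eq] at h
    obtain ⟨c, hc⟩ := h
    exact Moves.unique C (C.moves_torus c) (hc ▸ hw')
  · intro v hv i hi ih n hn hnv n' hn' w' hw' hle hcell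
    obtain ⟨c, hc⟩ := C.nS_inv i
    have hsN := C.nS_mem_monomial i
    have hnu : C.Moves (n * (C.nS i)⁻¹) v := by
      have h := Moves.mul C hnv (Acts.moves C (Acts.inv C (C.acts_nS i)))
      rwa [mul_inv_cancel_right] at h
    obtain ⟨x, hx, y, hy, hxy⟩ := C.mem_bigCell.1 hcell
    have hlen := C.hR.invSet_mul_sPerm hv i hi
    have hstep : n' * (y * C.R.torus c) * C.nS i ∈ C.bigCell (n' * C.nS i) ∪ C.bigCell n' :=
      C.mul_nS_mem i hn' (mul_mem hy (C.torus_mem_borel c))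
    have hmem : ∀ m, n' * (y * C.R.torus c) * C.nS i ∈ C.bigCell m →
        n * (C.nS i)⁻¹ ∈ C.bigCell m := by
      intro m hm
      have h := C.bigCell_mul hm hx (one_mem _)
      rw [mul_one] at h
      rw [hc, hxy]
      simpa [mul_assoc] using h
    have hu := mul_mem hn (inv_mem hsN)
    rcases hstep with h | h
    · have hs := Moves.mul C hw' (Acts.moves C (C.acts_nS i))
      have hge : (C.hR.invSet v).card ≤ (C.hR.invSet (w' * C.hR.sPerm i)).card := by
        rcases C.R.pos_or_neg (w' (C.pRoot i)).isLt with hp | hp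
        · have := C.hR.invSet_mul_sPerm hw'.1 i hp; omega
        · have := C.hR.invSet_mul_sPerm_of_neg hw'.1 i hp; omega
      have h1 := ih _ hu hnu _ (mul_mem hn' hsN) _ hs hge (hmem _ h)
      rw [h1, mul_assoc, C.hR.sPerm_mul_self i, mul_one]
    · have h1 := ih _ hu hnu _ hn' _ hw' (by omega) (hmem _ h)
      subst h1
      omega

/-- Monomial elements in one cell induce the same permutation of the roots. -/
theorem moves_eq_of_mem {n n' : GL D.Idx F} {w w' : Equiv.Perm (Fin D.nroots)}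
    (hn : n ∈ D.monomialSubgroup F) (hn' : n' ∈ D.monomialSubgroup F) (hw : C.Moves n w)
    (hw' : C.Moves n' w') (h : n ∈ C.bigCell n') : w = w' := by
  rcases le_total (C.hR.invSet w).card (C.hR.invSet w').card with hle | hle
  · exact C.moves_eq_of_mem_aux w hw.1 n hn hw n' hn' w' hw' hle h
  · exact (C.moves_eq_of_mem_aux w' hw'.1 n' hn' hw' n hn w hw hle (C.bigCell_symm h)).symm

/-! ### Generation and the existence part -/

include C in
theorem borel_le_group : D.borelSubgroup F ≤ D.group F := by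
  refine sup_le (C.posUnipotent_le fun r t _ => C.xGL_mem_group r t) ((Subgroup.closure_le _).2 ?_)
  rintro g ⟨r, t, -, -, hg⟩
  rw [show g = C.hGL r t from Units.ext (by rw [hg, C.coe_hGL])]
  exact C.wordGL_mem_group _

include C in
theorem monomial_le_group : D.monomialSubgroup F ≤ D.group F := by
  refine sup_le (le_trans le_sup_right C.borel_le_group) ((Subgroup.closure_le _).2 ?_)
  rintro g ⟨r, -, hg⟩
  rw [show g = C.nGL r 1 from Units.ext (by rw [hg, C.coe_nGL])]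
  exact C.nGL_mem_group _ _

theorem group_le_closure :
    D.group F ≤ Subgroup.closure ((D.borelSubgroup F : Set (GL D.Idx F)) ∪ Set.range C.nS) := by
  set K := Subgroup.closure ((D.borelSubgroup F : Set (GL D.Idx F)) ∪ Set.range C.nS)
  refine C.group_le fun r t hr => ?_
  obtain ⟨w, hw, k, hk⟩ := C.exists_simple_image ⟨r, hr⟩
  obtain ⟨n, hn, -, e, he⟩ := C.exists_rep hw
  obtain ⟨h1, -, h2⟩ := he ⟨D.simple k.val, C.R.simple_lt k⟩
  have hnK : n ∈ K := Subgroup.closure_mono Set.subset_union_right hn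
  have h3 := h2 ((e (D.simple k.val) : F) * t)
  rw [hk, ← mul_assoc, show ((e (D.simple k.val) : F) * (e (D.simple k.val) : F)) = 1 by
    rcases h1 with h | h <;> simp [h], one_mul] at h3
  rw [← h3]
  exact mul_mem (mul_mem hnK (Subgroup.subset_closure (Or.inl (C.pos_mem_borel (C.R.simple_pos k) _))))
    (inv_mem hnK)

include C in
theorem borel_sup_monomial : D.borelSubgroup F ⊔ D.monomialSubgroup F = D.group F := by
  refine le_antisymm (sup_le C.borel_le_group C.monomial_le_group) (C.group_le_closure.trans ?_)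
  refine (Subgroup.closure_le _).2 (Set.union_subset (fun x hx => le_sup_left (b := D.monomialSubgroup F) hx) ?_)
  rintro _ ⟨i, rfl⟩
  exact le_sup_right (a := D.borelSubgroup F) (C.nS_mem_monomial i)

theorem exists_bigCell {g : GL D.Idx F} (hg : g ∈ D.group F) :
    ∃ n ∈ D.monomialSubgroup F, g ∈ C.bigCell n := by
  refine Subgroup.closure_induction_left (p := fun g _ => ∃ n ∈ D.monomialSubgroup F, g ∈ C.bigCell n)
    ⟨1, one_mem _, C.self_mem_bigCell 1⟩ ?_ ?_ (C.group_le_closure hg)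
  · rintro x hx y - ⟨n, hn, hy⟩
    rcases hx with hx | ⟨i, rfl⟩
    · exact ⟨n, hn, by simpa using C.bigCell_mul hy hx (one_mem _)⟩
    · obtain ⟨a, ha, b, hb, rfl⟩ := C.mem_bigCell.1 hy
      rcases C.nS_mul_mem i hn ha with h | h
      · exact ⟨_, mul_mem (C.nS_mem_monomial i) hn,
          by simpa [mul_assoc] using C.bigCell_mul h (one_mem _) hb⟩
      · exact ⟨n, hn, by simpa [mul_assoc] using C.bigCell_mul h (one_mem _) hb⟩
  · rintro x hx y - ⟨n, hn, hy⟩
    rcases hx with hx | ⟨i, rfl⟩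
    · exact ⟨n, hn, by simpa using C.bigCell_mul hy (inv_mem hx) (one_mem _)⟩
    · obtain ⟨a, ha, b, hb, rfl⟩ := C.mem_bigCell.1 hy
      obtain ⟨c, hc⟩ := C.nS_inv i
      rcases C.nS_mul_mem i hn ha with h | h
      · exact ⟨_, mul_mem (C.nS_mem_monomial i) hn,
          by simpa [hc, mul_assoc] using C.bigCell_mul h (C.torus_mem_borel c) hb⟩
      · exact ⟨n, hn, by simpa [hc, mul_assoc] using C.bigCell_mul h (C.torus_mem_borel c) hb⟩

/-! ### The normal form -/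

theorem mul_borel_mem : ∀ w ∈ C.hR.weyl, ∀ n ∈ D.monomialSubgroup F, C.Moves n w →
    ∀ b ∈ D.borelSubgroup F,
      ∃ a ∈ D.borelSubgroup F, ∃ u ∈ C.Ucl (C.hR.invRoots w), n * b = a * n * u := by
  refine C.hR.weyl_inv_induction ?_ ?_
  · intro n hn h1 b hb
    have hnB : n ∈ D.borelSubgroup F :=
      le_sup_right (a := D.posUnipotent F) (C.mem_diagonal_of_moves_one hn h1)
    exact ⟨n * b * n⁻¹, mul_mem (mul_mem hnB hb) (inv_mem hnB), 1, one_mem _, by group⟩
  · intro v hv i hi ih n hn hnw b hb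
    obtain ⟨y, hy, t, c, rfl⟩ := C.borel_decomp i hb
    have hsN := C.nS_mem_monomial i
    have hnu : C.Moves (n * (C.nS i)⁻¹) v := by
      have h := Moves.mul C hnw (Acts.moves C (Acts.inv C (C.acts_nS i)))
      rwa [mul_inv_cancel_right] at h
    have hb1 : C.nS i * y * (C.nS i)⁻¹ ∈ D.borelSubgroup F :=
      le_sup_left (b := D.diagonalSubgroup F) (C.Usub_le i (C.nS_conj_Usub i y hy))
    obtain ⟨a, ha, u, hu, hau⟩ := ih _ (mul_mem hn (inv_mem hsN)) hnu _ hb1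
    have hu' : (C.nS i)⁻¹ * u * C.nS i ∈ C.Ucl (C.hR.invRoots (v * C.hR.sPerm i)) := by
      have h := C.conj_Ucl_le (Acts.moves C (Acts.inv C (C.acts_nS i)))
        (S := C.hR.invRoots v) (T := C.Ucl (C.hR.invRoots (v * C.hR.sPerm i)))
        (fun s hs t => C.xGL_mem_Ucl ?_ t) u hu
      · simpa using h
      · rw [inv_eq_of_mul_eq_one_right (C.hR.sPerm_mul_self i), C.hR.mem_invRoots]
        rw [C.hR.mem_invRoots] at hs
        refine ⟨C.hR.refl_pos i hs.1 fun e => ?_, by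
          rw [Equiv.Perm.mul_apply, C.hR.sPerm_sPerm]; exact hs.2⟩
        have hsp : s = C.pRoot i := Fin.ext e
        subst hsp
        exact C.R.not_pos_and_neg hi hs.2
    have hxp : C.xGL (D.simple i.val) t ∈ C.Ucl (C.hR.invRoots (v * C.hR.sPerm i)) := by
      refine C.xGL_mem_Ucl ((C.hR.mem_invRoots (s := C.pRoot i)).2 ⟨C.R.simple_pos i, ?_⟩) t
      rw [Equiv.Perm.mul_apply, C.sPerm_pRoot, show ((v (C.pNeg i) : Fin D.nroots) : ℕ) =
        D.neg (v (C.pRoot i)) from C.hR.apply_neg hv (C.pRoot i),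
        C.R.isNeg_neg_iff (v _).isLt]
      exact hi
    set z := (C.nS i)⁻¹ * u * C.nS i * C.xGL (D.simple i.val) t with hz
    refine ⟨a * (n * C.R.torus c * n⁻¹), mul_mem ha (C.conj_torus_mem_borel hn c),
      (C.R.torus c)⁻¹ * z * C.R.torus c, ?_, ?_⟩
    · have hzmem := mul_mem hu' hxp
      have hnorm := C.torus_normalizes (C.hR.invRoots (v * C.hR.sPerm i)) ⟨c, rfl⟩
      have := (Subgroup.mem_normalizer_iff.1 (inv_mem hnorm) z).1 hzmem
      simpa using this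
    · calc n * (y * C.xGL (D.simple i.val) t * C.R.torus c)
          = (n * (C.nS i)⁻¹ * (C.nS i * y * (C.nS i)⁻¹)) * C.nS i *
              C.xGL (D.simple i.val) t * C.R.torus c := by group
        _ = _ := by rw [hau, hz]; group

theorem conj_invRoots_mem_neg {n : GL D.Idx F} {w : Equiv.Perm (Fin D.nroots)} (hw : C.Moves n w) :
    ∀ u ∈ C.Ucl (C.hR.invRoots w), n * u * n⁻¹ ∈ D.negUnipotent F :=
  C.conj_Ucl_le hw fun s hs t => C.xGL_mem_negUnipotent ((C.hR.mem_invRoots).1 hs).2 t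

theorem Ucl_invRoots_le (w : Equiv.Perm (Fin D.nroots)) :
    C.Ucl (C.hR.invRoots w) ≤ D.borelSubgroup F :=
  C.Ucl_le fun _ ⟨_, hr⟩ t => C.pos_mem_borel (C.hR.mem_invSet.1 hr).1 t

theorem normalForm_exists {g : GL D.Idx F} (hg : g ∈ D.group F) :
    ∃ w ∈ C.hR.weyl, ∃ b ∈ D.borelSubgroup F, ∃ n ∈ D.monomialSubgroup F,
      C.Moves n w ∧ ∃ u ∈ C.Ucl (C.hR.invRoots w), g = b * n * u := by
  obtain ⟨n, hn, hcell⟩ := C.exists_bigCell hg
  obtain ⟨x, hx, y, hy, rfl⟩ := C.mem_bigCell.1 hcell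
  obtain ⟨w, hw, -⟩ := C.exists_moves hn
  obtain ⟨a, ha, u, hu, hau⟩ := C.mul_borel_mem w hw.1 n hn hw y hy
  exact ⟨w, hw.1, x * a, mul_mem hx ha, n, hn, hw, u, hu, by rw [mul_assoc x, hau]; group⟩

theorem normalForm_unique {b b' n n' u u' : GL D.Idx F} {w w' : Equiv.Perm (Fin D.nroots)}
    (hb : b ∈ D.borelSubgroup F) (hb' : b' ∈ D.borelSubgroup F)
    (hn : n ∈ D.monomialSubgroup F) (hn' : n' ∈ D.monomialSubgroup F)
    (hw : C.Moves n w) (hw' : C.Moves n' w')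
    (hu : u ∈ C.Ucl (C.hR.invRoots w)) (hu' : u' ∈ C.Ucl (C.hR.invRoots w'))
    (h : b * n * u = b' * n' * u') :
    w = w' ∧ n⁻¹ * n' ∈ D.diagonalSubgroup F ∧ (n = n' → b = b' ∧ u = u') := by
  have hcell : n ∈ C.bigCell n' := C.mem_bigCell.2 ⟨b⁻¹ * b', mul_mem (inv_mem hb) hb',
    u' * u⁻¹, mul_mem (C.Ucl_invRoots_le w' hu') (inv_mem (C.Ucl_invRoots_le w hu)),
    by rw [show b⁻¹ * b' * n' * (u' * u⁻¹) = b⁻¹ * (b' * n' * u') * u⁻¹ by group, ← h]; group⟩
  have hww := C.moves_eq_of_mem hn hn' hw hw' hcell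
  subst hww
  refine ⟨rfl, ?_, fun hnn => ?_⟩
  · refine C.mem_diagonal_of_moves_one (mul_mem (inv_mem hn) hn') ?_
    simpa using Moves.mul C (Moves.inv C hn hw) hw'
  · subst hnn
    have h1 : n * (u * u'⁻¹) * n⁻¹ = b⁻¹ * b' := by
      have : b⁻¹ * (b * n * u) * u'⁻¹ * n⁻¹ = b⁻¹ * (b' * n * u') * u'⁻¹ * n⁻¹ := by rw [h]
      simpa [mul_assoc] using this
    have h2 : n * (u * u'⁻¹) * n⁻¹ = 1 := (Subgroup.eq_bot_iff_forall _).1 C.borel_inf_negUnipotent _
      (Subgroup.mem_inf.2 ⟨h1 ▸ mul_mem (inv_mem hb) hb',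
        C.conj_invRoots_mem_neg hw _ (mul_mem hu (inv_mem hu'))⟩)
    rw [mul_inv_eq_one, mul_eq_left, mul_inv_eq_one] at h2
    exact ⟨by subst h2; exact mul_right_cancel (mul_right_cancel h), h2⟩

/-! ### The BN-pair -/

theorem neg_simple_not_mem_borel (i : Fin D.rank) :
    C.xGL (D.neg (D.simple i.val)) 1 ∉ D.borelSubgroup F := fun h => by
  have hneg : D.IsNegRoot (D.neg (D.simple i.val)) :=
    (C.R.isNeg_neg_iff (C.R.simple_lt i)).2 (C.R.simple_pos i)
  have h1 := (Subgroup.eq_bot_iff_forall _).1 C.borel_inf_negUnipotent _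
    (Subgroup.mem_inf.2 ⟨h, C.xGL_mem_negUnipotent hneg 1⟩)
  exact one_ne_zero ((C.xGL_eq_one_iff (C.R.neg_lt _ (C.R.simple_lt i))).1 h1)

/-- The representative `n_p` inside the group. -/
def nSG (i : Fin D.rank) : ↥(D.group F) := ⟨C.nS i, C.nGL_mem_group _ _⟩

/-- The BN-pair of the Chevalley group. -/
noncomputable def bnPair : Cfsg.BNPair ↥(D.group F) where
  B := (D.borelSubgroup F).subgroupOf (D.group F)
  N := (D.monomialSubgroup F).subgroupOf (D.group F)
  S := Set.range C.nSG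
  sup_eq_top := by
    rw [← Subgroup.subgroupOf_sup C.borel_le_group C.monomial_le_group, C.borel_sup_monomial,
      Subgroup.subgroupOf_self]
  conj_mem := by
    intro n hn t ht
    obtain ⟨h1, h2⟩ := Subgroup.mem_inf.1 ht
    have h3 : (t : GL D.Idx F) ∈ D.diagonalSubgroup F := by
      rw [← C.borel_inf_monomial]; exact Subgroup.mem_inf.2 ⟨h1, h2⟩
    exact le_sup_right (a := D.posUnipotent F) (C.conj_diagonal_mem hn h3)
  subset := by
    rintro _ ⟨i, rfl⟩
    exact C.nS_mem_monomial i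
  sq_mem := by
    rintro _ ⟨i, rfl⟩
    obtain ⟨c, hc⟩ := C.nS_mul_self_mem i
    show C.nS i * C.nS i ∈ D.borelSubgroup F
    rw [← hc]; exact C.torus_mem_borel c
  inj := by
    rintro _ ⟨i, rfl⟩ _ ⟨j, rfl⟩ h
    have h1 : (C.nS i)⁻¹ * C.nS j ∈ D.diagonalSubgroup F := by
      rw [← C.borel_inf_monomial]
      exact Subgroup.mem_inf.2 ⟨h, mul_mem (inv_mem (C.nS_mem_monomial i)) (C.nS_mem_monomial j)⟩
    rw [C.diagonalSubgroup_eq] at h1
    obtain ⟨c, hc⟩ := h1
    have h2 : C.Moves (C.nS j) (C.hR.sPerm i) := by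
      have := Moves.mul C (Acts.moves C (C.acts_nS i)) (C.moves_torus c)
      rwa [hc, mul_inv_cancel_left, mul_one] at this
    have h3 := Moves.unique C h2 (Acts.moves C (C.acts_nS j))
    rcases eq_or_ne i j with rfl | hne
    · rfl
    · have h4 : D.IsPosRoot (C.hR.sPerm i (C.pRoot j)) := by
        refine C.hR.refl_pos i (C.R.simple_pos j) fun e => hne ?_
        have h5 : (C.R.α (D.simple j.val)) j = (C.R.α (D.simple i.val)) j := congrArg (fun r => C.R.α r j) e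
        rw [C.R.α_simple, C.R.α_simple, Pi.single_eq_same] at h5
        by_contra hij
        rw [Pi.single_eq_of_ne (fun h => hij h.symm)] at h5
        exact one_ne_zero h5
      rw [h3, C.sPerm_pRoot] at h4
      exact absurd ((C.R.isNeg_neg_iff (C.R.simple_lt j)).2 (C.R.simple_pos j))
        (C.R.not_pos_and_neg h4)
  closure_sup := by
    refine le_antisymm (sup_le ((Subgroup.closure_le _).2 ?_) inf_le_right) fun g hg => ?_
    · rintro _ ⟨i, rfl⟩; exact C.nS_mem_monomial i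
    · have hg' : (g : GL D.Idx F) ∈ C.R.torus.range ⊔ Subgroup.closure (Set.range C.nS) := by
        rw [← C.monomialSubgroup_eq]; exact hg
      rw [← Subgroup.closure_eq (C.R.torus (F := F)).range, ← Subgroup.closure_union] at hg'
      set K := Subgroup.closure (Set.range C.nSG) ⊔
        ((D.borelSubgroup F).subgroupOf (D.group F) ⊓ (D.monomialSubgroup F).subgroupOf (D.group F))
      suffices h : (g : GL D.Idx F) ∈ K.map (D.group F).subtype by
        obtain ⟨x, hx, hxg⟩ := h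
        rwa [Subtype.ext hxg] at hx
      refine (Subgroup.closure_le _).2 ?_ hg'
      rintro x (⟨c, rfl⟩ | ⟨i, rfl⟩)
      · exact ⟨⟨C.R.torus c, C.borel_le_group (C.torus_mem_borel c)⟩,
          le_sup_right (a := Subgroup.closure _) ⟨C.torus_mem_borel c, C.torus_mem_monomial c⟩, rfl⟩
      · exact ⟨C.nSG i, Subgroup.mem_sup_left (Subgroup.subset_closure ⟨i, rfl⟩), rfl⟩
  mul_mem_union := by
    rintro _ ⟨i, rfl⟩ n hn b hb
    rcases C.nS_mul_mem i (n := (n : GL D.Idx F)) hn (b := (b : GL D.Idx F)) hb with h | h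
    · refine Or.inl ?_
      obtain ⟨x, hx, y, hy, hxy⟩ := C.mem_bigCell.1 h
      exact DoubleCoset.mem_doubleCoset.2 ⟨⟨x, C.borel_le_group hx⟩, hx,
        ⟨y, C.borel_le_group hy⟩, hy, Subtype.ext hxy⟩
    · refine Or.inr ?_
      obtain ⟨x, hx, y, hy, hxy⟩ := C.mem_bigCell.1 h
      exact DoubleCoset.mem_doubleCoset.2 ⟨⟨x, C.borel_le_group hx⟩, hx,
        ⟨y, C.borel_le_group hy⟩, hy, Subtype.ext hxy⟩
  conj_ne := by
    rintro _ ⟨i, rfl⟩ h
    obtain ⟨-, sgn, hsgn⟩ := C.acts_nS i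
    obtain ⟨he, -, hconj⟩ := hsgn (C.pRoot i)
    set e : F := (sgn (C.pRoot i) : F) with he'
    have hee : e * e = 1 := by rcases he with h | h <;> simp [he', h]
    have hx := hconj e
    rw [hee, C.sPerm_pRoot] at hx
    have hmem : C.nSG i * ⟨C.xGL (D.simple i.val) e, C.xGL_mem_group _ _⟩ * C.nSG i ∈
        ((D.borelSubgroup F).subgroupOf (D.group F) : Set ↥(D.group F)) := by
      rw [← h]
      exact ⟨_, C.pos_mem_borel (C.R.simple_pos i) e, rfl⟩
    have hmem' : C.nS i * C.xGL (D.simple i.val) e * C.nS i ∈ D.borelSubgroup F := hmem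
    obtain ⟨c, hc⟩ := C.nS_inv i
    refine C.neg_simple_not_mem_borel i ?_
    obtain ⟨k, hk⟩ := C.nS_mul_self_mem i
    rw [show C.xGL (D.neg (D.simple i.val)) 1 =
      C.nS i * C.xGL (D.simple i.val) e * (C.nS i)⁻¹ from hx.symm]
    rw [show C.nS i * C.xGL (D.simple i.val) e * (C.nS i)⁻¹ =
      C.nS i * C.xGL (D.simple i.val) e * C.nS i * (C.nS i * C.nS i)⁻¹ by group, ← hk]
    exact mul_mem hmem' (inv_mem (C.torus_mem_borel k))

theorem bnPair_S : (C.bnPair).S =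
    {n : ↥(D.group F) | ∃ i < D.rank,
      ((n : GL D.Idx F) : Matrix D.Idx D.Idx F) = D.nMat F (D.simple i) 1} := by
  ext n
  constructor
  · rintro ⟨i, rfl⟩; exact ⟨i.val, i.isLt, C.coe_nS i⟩
  · rintro ⟨i, hi, h⟩
    exact ⟨⟨i, hi⟩, Subtype.ext (Units.ext (by rw [h]; exact C.coe_nS ⟨i, hi⟩))⟩

/-! ### The order -/

theorem card_group [Fintype F] :
    Nat.card (D.group F) = Nat.card (D.borelSubgroup F) *
      ∑ w ∈ C.hR.weylSet, Fintype.card F ^ (C.hR.invSet w).card := by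
  classical
  have hr : ∀ w : C.hR.weyl, ∃ n ∈ D.monomialSubgroup F, C.Moves n (w : Equiv.Perm (Fin D.nroots)) :=
    fun w => by
      obtain ⟨n, hn, h⟩ := C.exists_rep w.2
      exact ⟨n, C.rep_mem_monomial hn, Acts.moves C h⟩
  choose rep hrepN hrep using hr
  let f : (Σ w : C.hR.weyl, D.borelSubgroup F × C.Ucl (C.hR.invRoots w)) → D.group F := fun x =>
    ⟨(x.2.1 : GL D.Idx F) * rep x.1 * x.2.2, mul_mem (mul_mem (C.borel_le_group x.2.1.2)
      (C.monomial_le_group (hrepN x.1))) (C.borel_le_group (C.Ucl_invRoots_le _ x.2.2.2))⟩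
  have hf : Function.Bijective f := by
    refine ⟨?_, fun g => ?_⟩
    · rintro ⟨w, b, u⟩ ⟨w', b', u'⟩ h
      obtain ⟨h1, -, h2⟩ := C.normalForm_unique b.2 b'.2 (hrepN w) (hrepN w') (hrep w) (hrep w')
        u.2 u'.2 (congrArg Subtype.val h)
      obtain rfl : w = w' := Subtype.ext h1
      obtain ⟨h3, h4⟩ := h2 rfl
      obtain rfl : b = b' := Subtype.ext h3
      obtain rfl : u = u' := Subtype.ext h4
      rfl
    · obtain ⟨w, hw, b, hb, n, hn, hmv, u, hu, hg⟩ := C.normalForm_exists g.2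
      set w' : C.hR.weyl := ⟨w, hw⟩
      have hd : n * (rep w')⁻¹ ∈ D.diagonalSubgroup F := by
        refine C.mem_diagonal_of_moves_one (mul_mem hn (inv_mem (hrepN w'))) ?_
        simpa [w'] using Moves.mul C hmv (Moves.inv C (hrepN w') (hrep w'))
      refine ⟨⟨w', ⟨b * (n * (rep w')⁻¹), mul_mem hb (le_sup_right (a := D.posUnipotent F) hd)⟩,
        ⟨u, hu⟩⟩, Subtype.ext ?_⟩
      rw [hg]
      simp [f, mul_assoc]
  haveI : Fintype C.hR.weyl := Fintype.ofFinite _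
  rw [← Nat.card_eq_of_bijective f hf, Nat.card_sigma,
    Finset.sum_subtype C.hR.weylSet (fun w => C.hR.mem_weylSet), Finset.mul_sum]
  refine Finset.sum_congr rfl fun w _ => ?_
  rw [Nat.card_prod, C.card_Ucl (C.hR.invRoots_closed w.2), C.hR.ncard_invRoots]

include C in
theorem card_borel [Fintype F] :
    Nat.card (D.borelSubgroup F) =
      Fintype.card F ^ (Set.ncard {r | D.IsPosRoot r}) * Nat.card (D.diagonalSubgroup F) := by
  classical
  let f : D.posUnipotent F × D.diagonalSubgroup F → D.borelSubgroup F := fun x =>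
    ⟨(x.1 : GL D.Idx F) * x.2, mul_mem (le_sup_left (b := D.diagonalSubgroup F) x.1.2)
      (le_sup_right (a := D.posUnipotent F) x.2.2)⟩
  have hf : Function.Bijective f := by
    refine ⟨?_, fun g => ?_⟩
    · rintro ⟨u, d⟩ ⟨u', d'⟩ h
      have h' : (u : GL D.Idx F) * d = u' * d' := congrArg Subtype.val h
      have h1 : ((u' : GL D.Idx F))⁻¹ * u = d' * (d : GL D.Idx F)⁻¹ := by
        rw [eq_mul_inv_iff_mul_eq, mul_assoc, h', inv_mul_cancel_left]
      have h2 : ((u' : GL D.Idx F))⁻¹ * u = 1 :=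
        (Subgroup.eq_bot_iff_forall _).1 C.posUnipotent_inf_diagonal _ (Subgroup.mem_inf.2
          ⟨mul_mem (inv_mem u'.2) u.2, h1 ▸ mul_mem d'.2 (inv_mem d.2)⟩)
      obtain rfl : u' = u := Subtype.ext (inv_mul_eq_one.1 h2)
      obtain rfl : d = d' := Subtype.ext (mul_left_cancel h')
      rfl
    · obtain ⟨u, hu, c, hg⟩ := C.mem_borel.1 g.2
      exact ⟨⟨⟨u, hu⟩, ⟨C.R.torus c, by rw [C.diagonalSubgroup_eq]; exact ⟨c, rfl⟩⟩⟩,
        Subtype.ext hg.symm⟩
  rw [← Nat.card_eq_of_bijective f hf, Nat.card_prod, C.posUnipotent_eq,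
    C.card_Ucl C.R.isClosed_pos]

end ChevCore

end CfsgLib.ChevStr
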