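import Cfsg.Agent.Lib.ChevStr.Elements
import Cfsg.Agent.Lib.ChevStr.WeylCoxeter

/-!
The bundle of checked identities behind the structure theory of a Chevalley group, and its first
consequences: root elements in `GL`, the torus as the diagonal subgroup, the monomial subgroup and
its action on root subgroups, and `N/H` as the Weyl group.
-/

set_option autoImplicit false

namespace CfsgLib.ChevStr

open Cfsg.Lie
open scoped MatrixGroups

/-- The identities of a tabulated type over a field from which its structure theory follows. -/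
structure ChevCore (D : ChevalleyDatum) (F : Type*) [Field F] where
  R : RootData D
  hR : ReflData R
  cox : CoxData hR
  x_add : ∀ r < D.nroots, ∀ t u : F, D.x F r t * D.x F r u = D.x F r (t + u)
  comm : ∀ r < D.nroots, ∀ s < D.nroots, s ≠ r → s ≠ D.neg r → ∀ t u : F,
    D.x F s u * D.x F r t = D.x F r t * D.x F s u * D.wordMat F (D.commWord F r s t u)
  η : Fin D.rank → ℕ → ℤ
  η_unit : ∀ i, ∀ s < D.nroots, η i s = 1 ∨ η i s = -1
  η_neg : ∀ i, ∀ s < D.nroots, η i (D.neg s) = η i s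
  n_conj : ∀ (i : Fin D.rank), ∀ s < D.nroots, ∀ t : F,
    D.nMat F (D.simple i.val) 1 * D.x F s t =
      D.x F (D.reflectRoot i.val s) ((η i s : F) * t) * D.nMat F (D.simple i.val) 1
  n_shape : ∀ (i : Fin D.rank) (a b : D.Idx), D.nMat F (D.simple i.val) 1 a b ≠ 0 →
    (∃ j j', a = Sum.inl j' ∧ b = Sum.inl j) ∨
      ∃ s s', a = Sum.inr s' ∧ b = Sum.inr s ∧ s' = hR.sPerm i s
  h_diag : ∀ (i : Fin D.rank) (c : F), c ≠ 0 → D.hMat F (D.simple i.val) c =
    Matrix.diagonal (Sum.elim (fun _ => (1 : F)) fun s : Fin D.nroots => c ^ D.cartan i.val s.val)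
  n_rel : ∀ i j : Fin D.rank, ∃ c : Fin D.rank → Fˣ,
    (D.nMat F (D.simple i.val) 1 * D.nMat F (D.simple j.val) 1) ^ cox.M i j =
      (R.torus c : Matrix D.Idx D.Idx F)

namespace ChevCore

variable {D : ChevalleyDatum} {F : Type*} [Field F] (C : ChevCore D F)

include C in
theorem x_mul (r : ℕ) (t u : F) : D.x F r t * D.x F r u = D.x F r (t + u) := by
  by_cases hr : r < D.nroots
  · exact C.x_add r hr t u
  · simp [ChevalleyDatum.x, hr]

/-- `x_r(t)` in the general linear group. -/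
def xGL (r : ℕ) (t : F) : GL D.Idx F :=
  ⟨D.x F r t, D.x F r (-t), by rw [C.x_mul, add_neg_cancel, C.R.x_zero],
    by rw [C.x_mul, neg_add_cancel, C.R.x_zero]⟩

@[simp] theorem coe_xGL (r : ℕ) (t : F) : (C.xGL r t : Matrix D.Idx D.Idx F) = D.x F r t := rfl

theorem xGL_add (r : ℕ) (t u : F) : C.xGL r (t + u) = C.xGL r t * C.xGL r u :=
  Units.ext (C.x_mul r t u).symm

theorem xGL_zero (r : ℕ) : C.xGL r 0 = 1 := Units.ext (C.R.x_zero r)

theorem xGL_inv (r : ℕ) (t : F) : (C.xGL r t)⁻¹ = C.xGL r (-t) :=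
  inv_eq_of_mul_eq_one_right (by rw [← C.xGL_add, add_neg_cancel, C.xGL_zero])

theorem xGL_of_le {r : ℕ} (hr : D.nroots ≤ r) (t : F) : C.xGL r t = 1 :=
  Units.ext (by simp [ChevalleyDatum.x, not_lt.2 hr])

/-- The product of a word in root elements. -/
def wordGL (w : List (ℕ × F)) : GL D.Idx F := (w.map fun p => C.xGL p.1 p.2).prod

@[simp] theorem coe_wordGL (w : List (ℕ × F)) :
    (C.wordGL w : Matrix D.Idx D.Idx F) = D.wordMat F w := by
  show Units.coeHom _ (C.wordGL w) = _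
  rw [wordGL, map_list_prod, List.map_map]
  rfl

theorem wordGL_nil : C.wordGL [] = 1 := rfl

theorem wordGL_cons (p : ℕ × F) (w : List (ℕ × F)) :
    C.wordGL (p :: w) = C.xGL p.1 p.2 * C.wordGL w := by simp [wordGL]

theorem wordGL_append (v w : List (ℕ × F)) : C.wordGL (v ++ w) = C.wordGL v * C.wordGL w := by
  simp [wordGL]

/-- The root subgroup as the range of `t ↦ x_r(t)`. -/
theorem mem_rootSubgroup {r : ℕ} {g : GL D.Idx F} :
    g ∈ D.rootSubgroup F r ↔ ∃ t, g = C.xGL r t := by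
  constructor
  · intro hg
    refine Subgroup.closure_induction (p := fun g _ => ∃ t, g = C.xGL r t) ?_ ⟨0, (C.xGL_zero r).symm⟩
      ?_ ?_ hg
    · rintro x ⟨t, ht⟩; exact ⟨t, Units.ext ht⟩
    · rintro _ _ _ _ ⟨t, rfl⟩ ⟨u, rfl⟩; exact ⟨t + u, (C.xGL_add r t u).symm⟩
    · rintro _ _ ⟨t, rfl⟩; exact ⟨-t, C.xGL_inv r t⟩
  · rintro ⟨t, rfl⟩
    exact Subgroup.subset_closure ⟨t, rfl⟩

theorem xGL_mem_group (r : ℕ) (t : F) : C.xGL r t ∈ D.group F := by
  by_cases hr : r < D.nroots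
  · exact Subgroup.subset_closure ⟨⟨r, hr⟩, t, by simp [ChevalleyDatum.x, hr]⟩
  · rw [C.xGL_of_le (not_lt.1 hr)]; exact one_mem _

theorem wordGL_mem_group (w : List (ℕ × F)) : C.wordGL w ∈ D.group F :=
  Subgroup.list_prod_mem _ fun x hx => by
    obtain ⟨p, -, rfl⟩ := List.mem_map.1 hx
    exact C.xGL_mem_group p.1 p.2

theorem xGL_mem_posUnipotent {r : ℕ} (hr : D.IsPosRoot r) (t : F) :
    C.xGL r t ∈ D.posUnipotent F := Subgroup.subset_closure ⟨r, t, hr, rfl⟩

theorem xGL_mem_negUnipotent {r : ℕ} (hr : D.IsNegRoot r) (t : F) :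
    C.xGL r t ∈ D.negUnipotent F := Subgroup.subset_closure ⟨r, t, hr, rfl⟩

/-- A subgroup contains `U` as soon as it contains its generators. -/
theorem posUnipotent_le {S : Subgroup (GL D.Idx F)}
    (h : ∀ r t, D.IsPosRoot r → C.xGL r t ∈ S) : D.posUnipotent F ≤ S := by
  refine (Subgroup.closure_le _).2 ?_
  rintro g ⟨r, t, hr, hg⟩
  rw [show g = C.xGL r t from Units.ext hg]
  exact h r t hr

/-- A subgroup contains `V` as soon as it contains its generators. -/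
theorem negUnipotent_le {S : Subgroup (GL D.Idx F)}
    (h : ∀ r t, D.IsNegRoot r → C.xGL r t ∈ S) : D.negUnipotent F ≤ S := by
  refine (Subgroup.closure_le _).2 ?_
  rintro g ⟨r, t, hr, hg⟩
  rw [show g = C.xGL r t from Units.ext hg]
  exact h r t hr

/-- A subgroup contains the Chevalley group as soon as it contains all root elements. -/
theorem group_le {S : Subgroup (GL D.Idx F)}
    (h : ∀ r t, r < D.nroots → C.xGL r t ∈ S) : D.group F ≤ S := by
  refine (Subgroup.closure_le _).2 ?_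
  rintro g ⟨r, t, hg⟩
  have hx : g = C.xGL r.val t := Units.ext (by simp [hg, ChevalleyDatum.x, r.isLt])
  rw [hx]
  exact h r.val t r.isLt

/-! ### The elements `n` and `h` -/

/-- `n_r(t)`. -/
def nGL (r : ℕ) (t : F) : GL D.Idx F := C.wordGL (D.nWord r t)

/-- `h_r(t)`. -/
def hGL (r : ℕ) (t : F) : GL D.Idx F := C.wordGL (D.hWord r t)

/-- The chosen representative of a fundamental reflection. -/
def nS (i : Fin D.rank) : GL D.Idx F := C.nGL (D.simple i.val) 1

@[simp] theorem coe_nGL (r : ℕ) (t : F) : (C.nGL r t : Matrix D.Idx D.Idx F) = D.nMat F r t :=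
  C.coe_wordGL _

@[simp] theorem coe_hGL (r : ℕ) (t : F) : (C.hGL r t : Matrix D.Idx D.Idx F) = D.hMat F r t :=
  C.coe_wordGL _

@[simp] theorem coe_nS (i : Fin D.rank) :
    (C.nS i : Matrix D.Idx D.Idx F) = D.nMat F (D.simple i.val) 1 := C.coe_nGL _ _

theorem nGL_mem_group (r : ℕ) (t : F) : C.nGL r t ∈ D.group F := C.wordGL_mem_group _

theorem hGL_eq (r : ℕ) (t : F) : C.hGL r t = C.nGL r t * C.nGL r (-1) :=
  C.wordGL_append _ _

theorem nGL_neg (r : ℕ) (t : F) : C.nGL r (-t) = (C.nGL r t)⁻¹ := by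
  simp [nGL, wordGL, ChevalleyDatum.nWord, mul_inv_rev, C.xGL_inv, inv_neg, mul_assoc]

theorem hGL_simple (i : Fin D.rank) (c : Fˣ) :
    C.hGL (D.simple i.val) (c : F) = C.R.torusSingle i c :=
  Units.ext (by rw [C.coe_hGL, C.h_diag i c c.ne_zero, C.R.coe_torusSingle])

theorem nGL_simple (i : Fin D.rank) (c : Fˣ) :
    C.nGL (D.simple i.val) (c : F) = C.R.torusSingle i c * C.nS i := by
  rw [← C.hGL_simple, C.hGL_eq, C.nGL_neg, nS, inv_mul_cancel_right]

theorem nS_mul_self_mem (i : Fin D.rank) : C.nS i * C.nS i ∈ C.R.torus.range := by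
  have h1 := C.hGL_simple i (-1)
  rw [Units.val_neg, Units.val_one, C.hGL_eq, C.nGL_neg] at h1
  refine ⟨(Pi.mulSingle i (-1))⁻¹, ?_⟩
  rw [map_inv]
  show (C.R.torusSingle i (-1))⁻¹ = _
  rw [← h1]
  simp [nS, mul_inv_rev]

theorem nS_conj_torus (i : Fin D.rank) (c : Fin D.rank → Fˣ) :
    C.nS i * C.R.torus c * (C.nS i)⁻¹ =
      C.R.torus (c * Pi.mulSingle i (C.R.torusChar c (C.R.α (D.simple i.val)))⁻¹) := by
  rw [mul_inv_eq_iff_eq_mul]
  refine Units.ext ?_
  rw [Units.val_mul, Units.val_mul, C.coe_nS, C.R.coe_torus, C.R.coe_torus]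
  refine mul_diagonal_eq _ _ _ fun a b hab => ?_
  rcases C.n_shape i a b hab with ⟨j, j', rfl, rfl⟩ | ⟨s, s', rfl, rfl, rfl⟩
  · simp [C.R.torusChar_zero]
  · have h1 : C.R.α s = C.R.α (C.hR.sPerm i s) + D.cartan i.val s.val • C.R.α (D.simple i.val) := by
      rw [C.hR.sPerm_val, C.hR.α_refl i s.val s.isLt, C.R.α_simple, sub_add_cancel]
    have h2 : D.cartan i.val (C.hR.sPerm i s).val = - D.cartan i.val s.val := by
      rw [C.R.cartan_sum i (C.hR.sPerm i s).isLt, C.hR.sPerm_val, C.hR.α_refl i s.val s.isLt,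
        map_sub, map_zsmul, ← C.R.cartan_sum i s.isLt, pairing_single, C.hR.cartan_self i,
        smul_eq_mul]
      ring
    refine congrArg Units.val ?_
    rw [C.R.wt_inr, C.R.wt_inr, h1, C.R.torusChar_add, C.R.torusChar_zsmul, C.R.torusChar_mul,
      C.R.torusChar_single _ _ (C.hR.sPerm i s).isLt, h2, inv_zpow, zpow_neg, inv_inv]

/-! ### The action of monomial elements on root subgroups -/

/-- `n` permutes the root subgroups by `w`, with signs equal on opposite roots. -/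
def Acts (n : GL D.Idx F) (w : Equiv.Perm (Fin D.nroots)) : Prop :=
  w ∈ C.hR.weyl ∧ ∃ e : ℕ → ℤ, ∀ s : Fin D.nroots, (e s = 1 ∨ e s = -1) ∧
    e (D.neg s) = e s ∧ ∀ t : F, n * C.xGL s t * n⁻¹ = C.xGL (w s) ((e s : F) * t)

theorem acts_one : C.Acts 1 1 :=
  ⟨one_mem _, fun _ => 1, fun _ => ⟨Or.inl rfl, rfl, fun t => by simp⟩⟩

theorem acts_nS (i : Fin D.rank) : C.Acts (C.nS i) (C.hR.sPerm i) := by
  refine ⟨C.hR.sPerm_mem i, C.η i, fun s => ⟨C.η_unit i s s.isLt, C.η_neg i s s.isLt, fun t => ?_⟩⟩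
  rw [mul_inv_eq_iff_eq_mul]
  exact Units.ext (by simpa using C.n_conj i s s.isLt t)

theorem Acts.mul {n m : GL D.Idx F} {v w : Equiv.Perm (Fin D.nroots)} (hn : C.Acts n v)
    (hm : C.Acts m w) : C.Acts (n * m) (v * w) := by
  obtain ⟨hv, a, ha⟩ := hn
  obtain ⟨hw, b, hb⟩ := hm
  refine ⟨mul_mem hv hw, fun s => if h : s < D.nroots then a (w ⟨s, h⟩) * b s else 1,
    fun s => ⟨?_, ?_, fun t => ?_⟩⟩
  · simp only [dif_pos s.isLt]
    rcases (ha (w s)).1 with h1 | h1 <;> rcases (hb s).1 with h2 | h2 <;> simp [h1, h2]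
  · have h3 := C.R.neg_lt s s.isLt
    simp only [dif_pos h3, dif_pos s.isLt, C.hR.apply_neg hw s, (ha (w s)).2.1, (hb s).2.1]
  · simp only [dif_pos s.isLt]
    calc n * m * C.xGL s t * (n * m)⁻¹ = n * (m * C.xGL s t * m⁻¹) * n⁻¹ := by group
      _ = _ := by
        rw [(hb s).2.2 t, (ha (w s)).2.2, Equiv.Perm.mul_apply]
        push_cast
        rw [mul_assoc]

theorem Acts.inv {n : GL D.Idx F} {w : Equiv.Perm (Fin D.nroots)} (hn : C.Acts n w) :
    C.Acts n⁻¹ w⁻¹ := by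
  obtain ⟨hw, a, ha⟩ := hn
  refine ⟨inv_mem hw, fun s => if h : s < D.nroots then a (w⁻¹ ⟨s, h⟩ : Fin D.nroots) else 1,
    fun s => ⟨?_, ?_, fun t => ?_⟩⟩
  · simp only [dif_pos s.isLt]; exact (ha _).1
  · have h3 := C.R.neg_lt s s.isLt
    simp only [dif_pos h3, dif_pos s.isLt, C.hR.apply_neg (inv_mem hw) s]
    exact (ha _).2.1
  · simp only [dif_pos s.isLt]
    set e : ℤ := a (w⁻¹ s : Fin D.nroots) with he
    have h1 := (ha (w⁻¹ s)).2.2 ((e : F) * t)
    rw [← he] at h1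
    have hee : (e : F) * ((e : F) * t) = t := by
      rcases (ha (w⁻¹ s)).1 with h | h <;> rw [← he] at h <;> simp [h]
    have hws : w (w⁻¹ s) = s := by rw [Equiv.Perm.inv_def, Equiv.apply_symm_apply]
    rw [hws, hee] at h1
    rw [← h1]
    group

theorem acts_torus (c : Fin D.rank → Fˣ) (s : Fin D.nroots) (t : F) :
    C.R.torus c * C.xGL s t * (C.R.torus c)⁻¹ =
      C.xGL s ((C.R.torusChar c (C.R.α s) : F) * t) := by
  rw [mul_inv_eq_iff_eq_mul]
  exact Units.ext (by simpa using C.R.torus_mul_x c s.isLt t)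

/-- Every element of the Weyl group is represented by a product of the `n_p`. -/
theorem exists_rep {w : Equiv.Perm (Fin D.nroots)} (hw : w ∈ C.hR.weyl) :
    ∃ n ∈ Subgroup.closure (Set.range C.nS), C.Acts n w := by
  refine C.hR.weyl_induction (P := fun w => ∃ n ∈ Subgroup.closure (Set.range C.nS), C.Acts n w)
    ⟨1, one_mem _, C.acts_one⟩ ?_ w hw
  rintro v - i ⟨n, hn, hv⟩
  exact ⟨n * C.nS i, mul_mem hn (Subgroup.subset_closure ⟨i, rfl⟩), Acts.mul C hv (C.acts_nS i)⟩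

include C in
theorem exists_simple_image (s : Fin D.nroots) :
    ∃ w ∈ C.hR.weyl, ∃ k : Fin D.rank, w ⟨D.simple k.val, C.R.simple_lt k⟩ = s := by
  have hpos : ∀ s : Fin D.nroots, D.IsPosRoot s →
      ∃ w ∈ C.hR.weyl, ∃ k : Fin D.rank, w ⟨D.simple k.val, C.R.simple_lt k⟩ = s := by
    intro s hs
    obtain ⟨w0, hw0, h0⟩ := C.hR.exists_longest
    obtain ⟨L, rfl⟩ := C.hR.exists_wordPerm hw0
    have h0s := h0 s hs
    clear h0 hw0
    induction L with
    | nil => exact absurd (by simpa [ReflData.wordPerm] using h0s) fun h => C.R.not_pos_and_neg hs h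
    | cons a L ih =>
      have hk : C.hR.wordPerm (a :: L) = C.hR.sPerm a * C.hR.wordPerm L := by
        simp [ReflData.wordPerm]
      rcases C.R.pos_or_neg (C.hR.wordPerm L s).isLt with hv | hv
      · refine ⟨(C.hR.wordPerm L)⁻¹, inv_mem (C.hR.wordPerm_mem L), a, ?_⟩
        rw [Equiv.Perm.inv_eq_iff_eq]
        refine Fin.ext (not_not.1 fun hne => ?_)
        rw [hk, Equiv.Perm.mul_apply, C.hR.sPerm_val] at h0s
        exact C.R.not_pos_and_neg (C.hR.refl_pos a hv fun e => hne e.symm) h0s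
      · exact ih hv
  rcases C.R.pos_or_neg s.isLt with h | h
  · exact hpos s h
  · obtain ⟨w, hw, k, hk⟩ :=
      hpos ⟨D.neg s, C.R.neg_lt s s.isLt⟩ ((C.R.isPos_neg_iff s.isLt).2 h)
    refine ⟨w * C.hR.sPerm k, mul_mem hw (C.hR.sPerm_mem k), k, Fin.ext ?_⟩
    rw [Equiv.Perm.mul_apply,
      show C.hR.sPerm k ⟨D.simple k.val, C.R.simple_lt k⟩ =
          ⟨D.neg (D.simple k.val), C.R.neg_lt _ (C.R.simple_lt k)⟩ from
        Fin.ext (C.hR.refl_simple_self k),
      C.hR.apply_neg hw ⟨D.simple k.val, C.R.simple_lt k⟩, hk]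
    exact C.R.neg_neg s s.isLt

theorem nGL_conj {n : GL D.Idx F} {w : Equiv.Perm (Fin D.nroots)} (hn : C.Acts n w)
    (s : Fin D.nroots) : ∃ e : ℤ, (e = 1 ∨ e = -1) ∧
      ∀ t : F, n * C.nGL s t * n⁻¹ = C.nGL (w s) ((e : F) * t) := by
  obtain ⟨hw, a, ha⟩ := hn
  refine ⟨a s, (ha s).1, fun t => ?_⟩
  have h2 := (ha ⟨D.neg s, C.R.neg_lt s s.isLt⟩).2.2 (-t⁻¹)
  simp only [(ha s).2.1, C.hR.apply_neg hw s] at h2
  have he : ((a s : ℤ) : F) * -t⁻¹ = -((a s : F) * t)⁻¹ := by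
    rcases (ha s).1 with h | h <;> simp [h]
  rw [he] at h2
  simp only [nGL, wordGL, ChevalleyDatum.nWord, List.map_cons, List.map_nil, List.prod_cons,
    List.prod_nil, mul_one]
  rw [← (ha s).2.2 t, ← h2]
  group

theorem nS_normalizes_torus (i : Fin D.rank) :
    C.nS i ∈ Subgroup.normalizer ((C.R.torus (F := F)).range : Set (GL D.Idx F)) := by
  have h1 : ∀ h ∈ C.R.torus.range, C.nS i * h * (C.nS i)⁻¹ ∈ C.R.torus.range := by
    rintro _ ⟨c, rfl⟩; exact ⟨_, (C.nS_conj_torus i c).symm⟩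
  refine Subgroup.mem_normalizer_iff.2 fun h => ⟨h1 h, fun hh => ?_⟩
  obtain ⟨z, hz⟩ := C.nS_mul_self_mem i
  have h2 := h1 _ hh
  have h3 : h = (C.R.torus z)⁻¹ * (C.nS i * (C.nS i * h * (C.nS i)⁻¹) * (C.nS i)⁻¹) * C.R.torus z :=
    by rw [hz]; group
  rw [h3]
  exact mul_mem (mul_mem (inv_mem ⟨z, rfl⟩) h2) ⟨z, rfl⟩

theorem closure_nS_le_normalizer :
    Subgroup.closure (Set.range C.nS) ≤ Subgroup.normalizer ((C.R.torus (F := F)).range : Set (GL D.Idx F)) :=
  (Subgroup.closure_le _).2 (Set.range_subset_iff.2 C.nS_normalizes_torus)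

/-- `n_r(t) n_r(u)⁻¹` lies in the torus. -/
theorem nGL_mul_inv_mem (s : Fin D.nroots) {t u : F} (ht : t ≠ 0) (hu : u ≠ 0) :
    C.nGL s t * (C.nGL s u)⁻¹ ∈ C.R.torus.range := by
  obtain ⟨w, hw, k, hk⟩ := C.exists_simple_image s
  obtain ⟨n, hn, hact⟩ := C.exists_rep hw
  obtain ⟨e, he, hconj⟩ := C.nGL_conj hact ⟨D.simple k.val, C.R.simple_lt k⟩
  rw [hk] at hconj
  have hex : ∀ v : F, v ≠ 0 → ∃ c : Fˣ, C.nGL s v = n * (C.R.torusSingle k c * C.nS k) * n⁻¹ := by
    intro v hv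
    have he0 : (e : F) ≠ 0 := by rcases he with h | h <;> simp [h]
    refine ⟨Units.mk0 ((e : F) * v) (mul_ne_zero he0 hv), ?_⟩
    rw [← C.nGL_simple, hconj]
    congr 1
    rcases he with h | h <;> simp [h]
  obtain ⟨c, hc⟩ := hex t ht
  obtain ⟨c', hc'⟩ := hex u hu
  rw [hc, hc', show n * (C.R.torusSingle k c * C.nS k) * n⁻¹ *
      (n * (C.R.torusSingle k c' * C.nS k) * n⁻¹)⁻¹ =
      n * (C.R.torusSingle k c * (C.R.torusSingle k c')⁻¹) * n⁻¹ by group]
  exact (Subgroup.mem_normalizer_iff.1 (C.closure_nS_le_normalizer hn) _).1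
    (mul_mem ⟨_, rfl⟩ (inv_mem ⟨_, rfl⟩))

theorem hGL_mem_torus {r : ℕ} (hr : r < D.nroots) {t : F} (ht : t ≠ 0) :
    C.hGL r t ∈ C.R.torus.range := by
  rw [C.hGL_eq, C.nGL_neg]
  exact C.nGL_mul_inv_mem ⟨r, hr⟩ ht one_ne_zero

/-- The diagonal subgroup is the torus. -/
theorem diagonalSubgroup_eq : D.diagonalSubgroup F = C.R.torus.range := by
  refine le_antisymm ((Subgroup.closure_le _).2 ?_) ?_
  · rintro g ⟨r, t, hr, ht, hg⟩
    rw [show g = C.hGL r t from Units.ext (by rw [hg, C.coe_hGL])]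
    exact C.hGL_mem_torus hr ht
  · rintro _ ⟨c, rfl⟩
    suffices c ∈ (D.diagonalSubgroup F).comap (C.R.torus (F := F)) from this
    rw [← Finset.univ_prod_mulSingle c]
    refine Subgroup.prod_mem _ fun i _ => ?_
    show C.R.torusSingle i (c i) ∈ D.diagonalSubgroup F
    rw [← C.hGL_simple]
    exact Subgroup.subset_closure ⟨D.simple i.val, c i, C.R.simple_lt i, (c i).ne_zero, C.coe_hGL _ _⟩

theorem nS_mem_monomial (i : Fin D.rank) : C.nS i ∈ D.monomialSubgroup F :=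
  le_sup_right (b := Subgroup.closure _) (Subgroup.subset_closure ⟨_, C.R.simple_lt i, C.coe_nS i⟩)

/-- The monomial subgroup is generated by the torus and the `n_p`. -/
theorem monomialSubgroup_eq :
    D.monomialSubgroup F = C.R.torus.range ⊔ Subgroup.closure (Set.range C.nS) := by
  rw [ChevalleyDatum.monomialSubgroup, C.diagonalSubgroup_eq]
  refine le_antisymm (sup_le le_sup_left ((Subgroup.closure_le _).2 ?_))
    (sup_le le_sup_left ((Subgroup.closure_le _).2 ?_))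
  · rintro g ⟨r, hr, hg⟩
    rw [show g = C.nGL r 1 from Units.ext (by rw [hg, C.coe_nGL])]
    obtain ⟨w, hw, k, hk⟩ := C.exists_simple_image ⟨r, hr⟩
    obtain ⟨n, hn, hact⟩ := C.exists_rep hw
    obtain ⟨e, he, hconj⟩ := C.nGL_conj hact ⟨D.simple k.val, C.R.simple_lt k⟩
    rw [hk] at hconj
    have he0 : (e : F) ≠ 0 := by rcases he with h | h <;> simp [h]
    have h1 := C.nGL_mul_inv_mem ⟨r, hr⟩ (t := 1) one_ne_zero he0
    have h2 : C.nGL r 1 = C.nGL r 1 * (C.nGL r e)⁻¹ * (n * C.nS k * n⁻¹) := by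
      have h3 := hconj 1
      rw [mul_one] at h3
      rw [show n * C.nS k * n⁻¹ = C.nGL r e from h3, inv_mul_cancel_right]
    rw [h2]
    exact mul_mem (le_sup_left (b := Subgroup.closure _) h1)
      (le_sup_right (a := C.R.torus.range)
        (mul_mem (mul_mem hn (Subgroup.subset_closure ⟨k, rfl⟩)) (inv_mem hn)))
  · rintro _ ⟨i, rfl⟩
    exact le_sup_right (b := Subgroup.closure _)
      (Subgroup.subset_closure ⟨_, C.R.simple_lt i, C.coe_nS i⟩)

theorem monomial_le_normalizer :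
    D.monomialSubgroup F ≤ Subgroup.normalizer ((C.R.torus (F := F)).range : Set (GL D.Idx F)) := by
  rw [C.monomialSubgroup_eq]
  exact sup_le Subgroup.le_normalizer C.closure_nS_le_normalizer

/-! ### Root elements are distinct -/

include C in
theorem exists_coroot_ne_zero {r : ℕ} (hr : r < D.nroots) :
    ∃ i : Fin D.rank, (((D.coroot.getD r #[]).getD i.val 0 : ℤ) : F) ≠ 0 := by
  obtain ⟨i, j, hij⟩ := C.R.coroot_coprime r hr
  by_contra hcon
  push Not at hcon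
  obtain ⟨a, b, hab⟩ := Int.isCoprime_iff_gcd_eq_one.2 hij
  have := congrArg (fun z : ℤ => (z : F)) hab
  rw [Int.cast_add, Int.cast_mul, Int.cast_mul, hcon i, hcon j] at this
  simp at this

theorem eq_smul_of_eq {r s : ℕ} {t u : F} (hr : r < D.nroots) (ht : t ≠ 0)
    (h : C.xGL r t = C.xGL s u) : s < D.nroots ∧ ∃ k : ℕ, 0 < k ∧ C.R.α r = (k : ℤ) • C.R.α s := by
  obtain ⟨i, hi⟩ := C.exists_coroot_ne_zero (F := F) hr
  have hne : D.x F r t (Sum.inl i) (Sum.inr ⟨D.neg r, C.R.neg_lt r hr⟩) ≠ 0 := by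
    rw [C.R.x_apply_coroot hr]; exact mul_ne_zero hi ht
  have h2 : D.x F r t = D.x F s u := congrArg Units.val h
  rw [h2] at hne
  obtain ⟨hs, k, hk, hw⟩ := C.R.x_apply_ne_zero (by simp) hne
  refine ⟨hs, k, hk, ?_⟩
  rw [C.R.wt_inl, C.R.wt_inr, zero_sub] at hw
  rw [← hw, C.R.α_neg r hr, neg_neg]

theorem xGL_eq_one_iff {r : ℕ} (hr : r < D.nroots) {t : F} : C.xGL r t = 1 ↔ t = 0 := by
  refine ⟨fun h => ?_, fun h => h ▸ C.xGL_zero r⟩
  by_contra ht
  obtain ⟨hs, -⟩ := C.eq_smul_of_eq hr ht (h.trans (C.xGL_of_le le_rfl 0).symm)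
  exact lt_irrefl _ hs

theorem root_eq_of_xGL_eq {r s : ℕ} {t u : F} (hr : r < D.nroots) (ht : t ≠ 0)
    (h : C.xGL r t = C.xGL s u) : r = s := by
  obtain ⟨hs, k, hk, hrs⟩ := C.eq_smul_of_eq hr ht h
  have hu : u ≠ 0 := by
    rintro rfl
    rw [C.xGL_zero] at h
    exact ht ((C.xGL_eq_one_iff hr).1 h)
  obtain ⟨-, j, hj, hsr⟩ := C.eq_smul_of_eq hs hu h.symm
  rw [hsr, smul_smul] at hrs
  have h1 : ((k : ℤ) * j - 1) • C.R.α r = 0 := by rw [sub_smul, ← hrs, one_smul, sub_self]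
  rcases smul_eq_zero.1 h1 with h2 | h2
  · have h3 : k * j = 1 := by exact_mod_cast sub_eq_zero.1 h2
    have hk1 : k = 1 := Nat.eq_one_of_mul_eq_one_right h3
    have hj1 : j = 1 := Nat.eq_one_of_mul_eq_one_left h3
    subst hk1 hj1
    exact C.R.α_inj hr hs (by simpa using hsr.symm)
  · exact absurd h2 (C.R.α_ne_zero hr)

theorem xGL_injective {r : ℕ} (hr : r < D.nroots) : Function.Injective (C.xGL r) := fun t u h => by
  have h1 : C.xGL r (t + -u) = 1 := by rw [C.xGL_add, h, ← C.xGL_add, add_neg_cancel, C.xGL_zero]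
  rw [← sub_eq_add_neg, C.xGL_eq_one_iff hr, sub_eq_zero] at h1
  exact h1

theorem Acts.unique {n : GL D.Idx F} {v w : Equiv.Perm (Fin D.nroots)} (hv : C.Acts n v)
    (hw : C.Acts n w) : v = w := by
  obtain ⟨-, a, ha⟩ := hv
  obtain ⟨-, b, hb⟩ := hw
  ext s
  have he : ((a s : ℤ) : F) * 1 ≠ 0 := by rcases (ha s).1 with h | h <;> simp [h]
  exact C.root_eq_of_xGL_eq (v s).isLt he (((ha s).2.2 1).symm.trans ((hb s).2.2 1))

end ChevCore

end CfsgLib.ChevStr
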