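import Cfsg.Agent.Lib.ChevStr.Weyl

/-!
Root elements scaled by diagonal matrices, and the diagonal torus of a Chevalley datum.
-/

set_option autoImplicit false

namespace CfsgLib.ChevStr

open Cfsg.Lie
open scoped MatrixGroups

section diag

variable {ι : Type*} [Fintype ι] [DecidableEq ι] {F : Type*} [Field F]

/-- Diagonal matrices with non-zero entries, as a homomorphism to the general linear group. -/
def diagHom : (ι → Fˣ) →* GL ι F where
  toFun d :=
    ⟨Matrix.diagonal fun a => (d a : F), Matrix.diagonal fun a => ((d a)⁻¹ : Fˣ),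
      by rw [Matrix.diagonal_mul_diagonal, ← Matrix.diagonal_one]; congr 1; funext a; simp,
      by rw [Matrix.diagonal_mul_diagonal, ← Matrix.diagonal_one]; congr 1; funext a; simp⟩
  map_one' := Units.ext (by simp)
  map_mul' d e := Units.ext (by simp [Matrix.diagonal_mul_diagonal])

theorem coe_diagHom (d : ι → Fˣ) :
    (diagHom d : Matrix ι ι F) = Matrix.diagonal fun a => (d a : F) := rfl

theorem diagHom_injective : Function.Injective (diagHom : (ι → Fˣ) → GL ι F) := fun d e h =>
  funext fun a => Units.ext (by
    have := congrArg (fun g : GL ι F => (g : Matrix ι ι F) a a) h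
    simpa [coe_diagHom] using this)

/-- A matrix which only mixes coordinates related by `σ` moves diagonal matrices along. -/
theorem mul_diagonal_eq (n : Matrix ι ι F) (d e : ι → F)
    (h : ∀ a b, n a b ≠ 0 → e a = d b) :
    n * Matrix.diagonal d = Matrix.diagonal e * n := by
  ext a b
  rw [Matrix.mul_diagonal, Matrix.diagonal_mul]
  by_cases hab : n a b = 0
  · simp [hab]
  · rw [h a b hab, mul_comm]

end diag

variable {D : ChevalleyDatum}

namespace RootData

variable (R : RootData D) {F : Type*} [Field F]

include R in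
theorem x_zero (r : ℕ) : D.x F r 0 = 1 := by
  ext a b
  by_cases hab : a = b
  · subst hab; rw [R.x_apply_self, Matrix.one_apply_eq]
  rw [Matrix.one_apply_ne hab]
  unfold ChevalleyDatum.x
  split_ifs with hr
  swap
  · exact Matrix.one_apply_ne hab
  have hsum : ∀ s u : ℕ,
      ((D.chainCoeff r s u).map fun km => ((km.2 : ℤ) : F) * (0 : F) ^ km.1).sum = 0 := fun s u =>
    List.sum_eq_zero fun x hx => by
      obtain ⟨km, hkm, rfl⟩ := List.mem_map.1 hx
      rw [zero_pow (R.wt_chainCoeff hkm).1.ne', mul_zero]
  rcases b with j | s <;> rcases a with i | u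
  · have hij : i ≠ j := fun e => hab (congrArg Sum.inl e)
    simp [ChevalleyDatum.xMat, hij]
  · simp [ChevalleyDatum.xMat]
  · simp [ChevalleyDatum.xMat]
  · have hus : u ≠ s := fun e => hab (congrArg Sum.inr e)
    simp only [ChevalleyDatum.xMat, Matrix.of_apply, hsum]
    split_ifs with h1 h2 h3 h4 <;> simp_all

variable {G : Type*}

/-- The character of a tuple `c` at a vector. -/
def torusChar (_R : RootData D) (c : Fin D.rank → Fˣ) (v : Fin D.rank → ℤ) : Fˣ :=
  ∏ k, c k ^ pairing (fun j => D.cartan k.val (D.simple j.val)) v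

theorem torusChar_zero (c : Fin D.rank → Fˣ) : R.torusChar c 0 = 1 := by simp [torusChar]

theorem torusChar_add (c : Fin D.rank → Fˣ) (v w : Fin D.rank → ℤ) :
    R.torusChar c (v + w) = R.torusChar c v * R.torusChar c w := by
  simp [torusChar, zpow_add, Finset.prod_mul_distrib]

theorem torusChar_zsmul (c : Fin D.rank → Fˣ) (m : ℤ) (v : Fin D.rank → ℤ) :
    R.torusChar c (m • v) = R.torusChar c v ^ m := by
  rw [torusChar, torusChar, ← Finset.prod_zpow]
  exact Finset.prod_congr rfl fun k _ => by rw [map_zsmul, smul_eq_mul, ← zpow_mul, mul_comm]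

theorem torusChar_mul (c c' : Fin D.rank → Fˣ) (v : Fin D.rank → ℤ) :
    R.torusChar (c * c') v = R.torusChar c v * R.torusChar c' v := by
  simp [torusChar, mul_zpow, Finset.prod_mul_distrib]

theorem torusChar_root (c : Fin D.rank → Fˣ) {s : ℕ} (hs : s < D.nroots) :
    R.torusChar c (R.α s) = ∏ k, c k ^ D.cartan k.val s :=
  Finset.prod_congr rfl fun k _ => by rw [R.cartan_sum k hs]

/-- The torus: diagonal matrices fixing the `h` part and scaling each root vector by a character. -/
def torus : (Fin D.rank → Fˣ) →* GL D.Idx F where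
  toFun c := diagHom fun a => R.torusChar c (R.wt a)
  map_one' := by
    rw [← map_one (diagHom (ι := D.Idx) (F := F))]
    congr 1
    funext a
    simp [torusChar]
  map_mul' c c' := by
    rw [← map_mul]
    congr 1
    funext a
    exact R.torusChar_mul c c' _

theorem coe_torus (c : Fin D.rank → Fˣ) :
    (R.torus c : Matrix D.Idx D.Idx F) = Matrix.diagonal fun a => (R.torusChar c (R.wt a) : F) :=
  rfl

/-- The torus element of a single parameter on one fundamental coroot. -/
def torusSingle (i : Fin D.rank) (c : Fˣ) : GL D.Idx F := R.torus (Pi.mulSingle i c)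

theorem torusChar_single (i : Fin D.rank) (c : Fˣ) {s : ℕ} (hs : s < D.nroots) :
    R.torusChar (Pi.mulSingle i c) (R.α s) = c ^ D.cartan i.val s := by
  rw [R.torusChar_root _ hs, Fintype.prod_eq_single i]
  · simp
  · intro k hk; simp [hk]

theorem coe_torusSingle (i : Fin D.rank) (c : Fˣ) :
    (R.torusSingle i c : Matrix D.Idx D.Idx F) =
      Matrix.diagonal (Sum.elim (fun _ => (1 : F)) fun s : Fin D.nroots =>
        (c : F) ^ D.cartan i.val s) := by
  rw [torusSingle, R.coe_torus]
  congr 1
  funext a
  rcases a with j | s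
  · simp [R.torusChar_zero]
  · rw [R.wt_inr, R.torusChar_single i c s.isLt, Units.val_zpow_eq_zpow_val, Sum.elim_inr]

/-- Root elements are scaled by multiplicative characters of weights. -/
theorem x_scale (f : (Fin D.rank → ℤ) → F) (h0 : f 0 = 1)
    (hadd : ∀ v w, f (v + w) = f v * f w) {r : ℕ} (hr : r < D.nroots) (t : F) :
    Matrix.diagonal (fun a => f (R.wt a)) * D.x F r t =
      D.x F r (f (R.α r) * t) * Matrix.diagonal (fun a => f (R.wt a)) := by
  have hpow : ∀ (k : ℕ) (v : Fin D.rank → ℤ), f ((k : ℤ) • v) = f v ^ k := by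
    intro k v
    induction k with
    | zero => simp [h0]
    | succ k ih => rw [Nat.cast_succ, add_smul, one_smul, hadd, ih, pow_succ]
  ext a b
  rw [Matrix.diagonal_mul, Matrix.mul_diagonal]
  by_cases hab : a = b
  · subst hab; rw [R.x_apply_self, R.x_apply_self]; ring
  simp only [ChevalleyDatum.x, dif_pos hr]
  rcases b with j | s <;> rcases a with i | u
  · have hij : i ≠ j := fun e => hab (congrArg Sum.inl e)
    simp [ChevalleyDatum.xMat, hij]
  · simp only [ChevalleyDatum.xMat, Matrix.of_apply, R.wt_inl, R.wt_inr, h0]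
    split_ifs with hu
    · subst hu; ring
    · ring
  · simp only [ChevalleyDatum.xMat, Matrix.of_apply, R.wt_inl, R.wt_inr, h0]
    split_ifs with h1 h2
    · ring
    · have hs : R.α s.val = -R.α r := by rw [h2]; exact R.α_neg r hr
      have : f (R.α r) * f (R.α s.val) = 1 := by rw [← hadd, hs, add_neg_cancel, h0]
      linear_combination -(((D.coroot.getD r #[]).getD i.val 0 : ℤ) : F) * t * this
    · ring
  · have hus : u ≠ s := fun e => hab (congrArg Sum.inr e)
    simp only [ChevalleyDatum.xMat, Matrix.of_apply, R.wt_inr, if_neg hus]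
    split_ifs with h1 hu h2 hu'
    · exact absurd (hu.trans h1.symm) hus
    · ring
    · have hs : R.α s.val = -R.α r := by rw [h2]; exact R.α_neg r hr
      have : f (R.α r) * f (R.α s.val) = 1 := by rw [← hadd, hs, add_neg_cancel, h0]
      subst hu'
      linear_combination f (R.α r) * t ^ 2 * this
    · ring
    · rw [zero_add, zero_add, ← List.sum_map_mul_left, ← List.sum_map_mul_right]
      congr 1
      refine List.map_congr_left fun km hkm => ?_
      obtain ⟨-, -, h3⟩ := R.wt_chainCoeff hkm
      rw [h3, hadd, hpow]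
      ring

/-- The torus moves root elements by characters. -/
theorem torus_mul_x (c : Fin D.rank → Fˣ) {r : ℕ} (hr : r < D.nroots) (t : F) :
    (R.torus c : Matrix D.Idx D.Idx F) * D.x F r t =
      D.x F r ((R.torusChar c (R.α r) : F) * t) * R.torus c := by
  rw [coe_torus]
  exact R.x_scale (fun v => (R.torusChar c v : F)) (by simp [R.torusChar_zero])
    (fun v w => by simp [R.torusChar_add]) hr t

end RootData

end CfsgLib.ChevStr
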