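import Cfsg.Agent.Lib.ChevStr.Core
import Cfsg.Agent.Lib.Chev.Comm

/-!
The bundle `ChevCore` from a certificate: the diagonal form of `h_p(c)` follows from the torus over
an algebraic closure, the Coxeter relations of the `n_p` from a check on signed monomial data.
-/

set_option autoImplicit false

namespace CfsgLib.ChevStr

open Cfsg.Lie CfsgLib.Chev Matrix

/-- Follow the monomial data along a list of fundamental indices (last letter first). -/
def applyPs (T : Data) : List ℕ → List Term → List Term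
  | [], V => V
  | i :: L, V => merge (Data.applyP T i (applyPs T L V))

/-- The sign of the torus element attached to two parities at a coordinate. -/
def relSign (T : Data) (i j e₁ e₂ c : ℕ) : ℤ :=
  if c < T.n then
    if ((e₁ : ℤ) * (T.row c).car.getD i 0 + (e₂ : ℤ) * (T.row c).car.getD j 0) % 2 = 0 then 1 else -1
  else 1

/-- `(n_i n_j) ^ m` is a torus element with parameters `±1`. -/
def relOK (T : Data) (i j m : ℕ) : Bool :=
  [(0, 0), (1, 0), (0, 1), (1, 1)].any fun e : ℕ × ℕ => (List.range (T.n + T.l)).all fun c =>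
    sameVec (applyPs T (List.replicate m [i, j]).flatten (unitVec c))
      [⟨c, 0, 0, relSign T i j e.1 e.2 c⟩]

/-- All Coxeter relations. -/
def relCheck (T : Data) (mf : ℕ → ℕ → ℕ) : Bool :=
  (List.range T.l).all fun i => (List.range T.l).all fun j => relOK T i j (mf i j)

variable {D : ChevalleyDatum} (C : Cert D) {F : Type*} [Field F]

include C

theorem lt_l {k : ℕ} (h : k < D.rank) : k < C.T.l := by rw [C.hv.hl]; exact h

theorem lt_n {r : ℕ} (h : r < D.nroots) : r < C.T.n := by rw [C.hv.hn]; exact h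

theorem cert_x_add (r : ℕ) (t u : F) : D.x F r t * D.x F r u = D.x F r (t + u) := by
  by_cases hr : r < D.nroots
  · exact C.x_add (lt_n C hr) t u
  · simp [ChevalleyDatum.x, hr]

theorem nMat_neg_mul (r : ℕ) (t : F) : D.nMat F r t * D.nMat F r (-t) = 1 := by
  have hx : ∀ (s : ℕ) (z : F), D.x F s z * D.x F s (-z) = 1 := fun s z => by
    rw [cert_x_add C, add_neg_cancel, C.x_zero]
  simp only [ChevalleyDatum.nMat, ChevalleyDatum.nWord, ChevalleyDatum.wordMat, List.map_cons,
    List.map_nil, List.prod_cons, List.prod_nil, mul_one, inv_neg, neg_neg]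
  calc D.x F r t * (D.x F (D.neg r) (-t⁻¹) * D.x F r t) *
      (D.x F r (-t) * (D.x F (D.neg r) t⁻¹ * D.x F r (-t)))
      = D.x F r t * D.x F (D.neg r) (-t⁻¹) * (D.x F r t * D.x F r (-t)) * D.x F (D.neg r) t⁻¹ *
          D.x F r (-t) := by simp only [mul_assoc]
    _ = D.x F r t * (D.x F (D.neg r) (-t⁻¹) * D.x F (D.neg r) t⁻¹) * D.x F r (-t) := by
        rw [hx, mul_one]; simp only [mul_assoc]
    _ = 1 := by rw [cert_x_add C, neg_add_cancel, C.x_zero, mul_one, hx]

theorem nMat_apply (i : Fin D.rank) (a b : D.Idx) :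
    D.nMat F (D.simple i.val) 1 a b = evalV D (1 : F) 1 (C.T.pVec i.val (idxCode D b)) a := by
  rw [← Data.nMat_mulVec_unitFun C.hv (lt_l C i.isLt) (C.checkN i.val (lt_l C i.isLt)) 1 1,
    unitFun_idxCode, Matrix.mulVec_single_one]
  rfl

theorem cert_n_shape {R : RootData D} (hR : ReflData R) (i : Fin D.rank) (a b : D.Idx)
    (h : D.nMat F (D.simple i.val) 1 a b ≠ 0) :
    (∃ j j', a = Sum.inl j' ∧ b = Sum.inl j) ∨
      ∃ s s', a = Sum.inr s' ∧ b = Sum.inr s ∧ s' = hR.sPerm i s := by
  rw [nMat_apply C] at h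
  have hi : i.val < C.T.l := lt_l C i.isLt
  rcases b with j | s
  · rcases a with j' | s'
    · exact Or.inl ⟨j, j', rfl, rfl⟩
    · exfalso
      apply h
      have hj : j.val < C.T.l := lt_l C j.isLt
      have e1 : idxCode D (Sum.inl j) = C.T.n + j.val := by rw [idxCode_inl, C.hv.hn]
      have := s'.isLt
      rw [e1]
      have hn := C.hv.hn
      simp only [Data.pVec, Data.pTerm_cor hj, List.map_cons, List.map_nil, evalV_cons, evalV_nil,
        add_zero, Pi.add_apply, Pi.smul_apply, unitFun]
      rw [if_neg (by rw [idxCode_inr]; omega), if_neg (by rw [idxCode_inr]; omega), smul_zero,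
        smul_zero, add_zero]
  · have hs : s.val < C.T.n := lt_n C s.isLt
    have hk : C.T.piRoot i.val s.val = (hR.sPerm i s).val := by
      rw [hR.sPerm_val, C.reflectRoot_eq hi hs]
    simp only [idxCode_inr, Data.pVec, Data.pTerm_root hs, List.map_cons, List.map_nil, evalV_cons,
      evalV_nil, add_zero, Pi.smul_apply, unitFun, hk] at h
    rcases a with j' | s'
    · exfalso
      apply h
      have := (hR.sPerm i s).isLt
      rw [if_neg (by rw [idxCode_inl]; omega), smul_zero]
    · refine Or.inr ⟨s, s', rfl, rfl, Fin.ext (by_contra fun hne => h ?_)⟩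
      rw [if_neg (by rwa [idxCode_inr]), smul_zero]

theorem nMat_torusSingle {R : RootData D} (hR : ReflData R) (i : Fin D.rank) (a : Fˣ) :
    D.nMat F (D.simple i.val) 1 * (R.torusSingle i a : Matrix D.Idx D.Idx F) =
      (R.torusSingle i a⁻¹ : Matrix D.Idx D.Idx F) * D.nMat F (D.simple i.val) 1 := by
  rw [RootData.torusSingle, RootData.torusSingle, R.coe_torus, R.coe_torus]
  refine mul_diagonal_eq _ _ _ fun x y hxy => congrArg Units.val ?_
  rcases cert_n_shape C hR i x y hxy with ⟨j, j', rfl, rfl⟩ | ⟨s, s', rfl, rfl, rfl⟩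
  · simp [R.torusChar_zero]
  · rw [R.wt_inr, R.wt_inr, R.torusChar_single _ _ (hR.sPerm i s).isLt,
      R.torusChar_single _ _ s.isLt, _root_.inv_zpow', R.cartan_sum i (hR.sPerm i s).isLt, hR.sPerm_val,
      hR.α_refl i s.val s.isLt, map_sub, map_zsmul, ← R.cartan_sum i s.isLt, pairing_single,
      hR.cartan_self i, smul_eq_mul]
    congr 1
    ring

theorem hMat_of_sq {R : RootData D} (hR : ReflData R) (i : Fin D.rank) (a : Fˣ) :
    D.hMat F (D.simple i.val) ((a : F) ^ 2) =
      (R.torusSingle i (a ^ 2) : Matrix D.Idx D.Idx F) := by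
  set p := D.simple i.val with hp
  have hpl : p < D.nroots := R.simple_lt i
  have hchar : R.torusChar (Pi.mulSingle i a) (R.α p) = a ^ 2 := by
    rw [R.torusChar_single i a hpl, hR.cartan_self i]; norm_cast
  have hcharn : R.torusChar (Pi.mulSingle i a) (R.α (D.neg p)) = (a ^ 2)⁻¹ := by
    rw [R.α_neg p hpl, ← neg_one_smul ℤ (R.α p), R.torusChar_zsmul, hchar, _root_.zpow_neg_one]
  set T : Matrix D.Idx D.Idx F := (R.torusSingle i a : Matrix D.Idx D.Idx F) with hT
  have h1 : T * D.x F p 1 = D.x F p ((a : F) ^ 2) * T := by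
    have := R.torus_mul_x (Pi.mulSingle i a) hpl (1 : F)
    rw [hchar, mul_one, Units.val_pow_eq_pow_val] at this
    exact this
  have h2 : T * D.x F (D.neg p) (-(1 : F)⁻¹) = D.x F (D.neg p) (-((a : F) ^ 2)⁻¹) * T := by
    have := R.torus_mul_x (Pi.mulSingle i a) (R.neg_lt p hpl) (-(1 : F)⁻¹)
    rw [hcharn, Units.val_inv_eq_inv_val, Units.val_pow_eq_pow_val, inv_one, mul_neg, mul_one] at this
    rw [inv_one]
    exact this
  have hn : T * D.nMat F p 1 = D.nMat F p ((a : F) ^ 2) * T := by
    simp only [ChevalleyDatum.nMat, ChevalleyDatum.nWord, ChevalleyDatum.wordMat, List.map_cons,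
      List.map_nil, List.prod_cons, List.prod_nil, mul_one]
    rw [← mul_assoc, h1, mul_assoc, ← mul_assoc T, h2, mul_assoc _ T, h1]
    simp only [mul_assoc]
  have hTT : T * (R.torusSingle i a⁻¹ : Matrix D.Idx D.Idx F) = 1 := by
    rw [hT, ← Units.val_mul, RootData.torusSingle, RootData.torusSingle, ← map_mul,
      ← Pi.mulSingle_mul, mul_inv_cancel, Pi.mulSingle_one, map_one, Units.val_one]
  have hnc : D.nMat F p ((a : F) ^ 2) =
      (R.torusSingle i (a ^ 2) : Matrix D.Idx D.Idx F) * D.nMat F p 1 := by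
    calc D.nMat F p ((a : F) ^ 2)
        = D.nMat F p ((a : F) ^ 2) * T * (R.torusSingle i a⁻¹ : Matrix D.Idx D.Idx F) := by
          rw [mul_assoc, hTT, mul_one]
      _ = T * (D.nMat F p 1 * (R.torusSingle i a⁻¹ : Matrix D.Idx D.Idx F)) := by
          rw [← hn, mul_assoc]
      _ = _ := by
          rw [hp, nMat_torusSingle C hR i a⁻¹, inv_inv, ← mul_assoc, hT, ← Units.val_mul,
            RootData.torusSingle, ← map_mul, ← Pi.mulSingle_mul, sq]
          rfl
  have happ : D.hMat F p ((a : F) ^ 2) = D.nMat F p ((a : F) ^ 2) * D.nMat F p (-1) := by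
    simp [ChevalleyDatum.hMat, ChevalleyDatum.hWord, ChevalleyDatum.nMat, ChevalleyDatum.wordMat]
  rw [happ, hnc, mul_assoc, nMat_neg_mul C, mul_one]

omit C in
theorem x_map {K : Type*} [Field K] (f : F →+* K) (r : ℕ) (t : F) :
    f.mapMatrix (D.x F r t) = D.x K r (f t) := by
  unfold ChevalleyDatum.x
  split_ifs with hr
  swap
  · exact map_one _
  ext a b
  rcases b with j | s <;> rcases a with j' | u <;>
    simp only [RingHom.mapMatrix_apply, Matrix.map_apply, ChevalleyDatum.xMat, Matrix.of_apply]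
  · split_ifs <;> simp
  · split_ifs <;> simp
  · split_ifs <;> simp
  · split_ifs <;>
      simp [map_list_sum, List.map_map, Function.comp_def, map_mul, map_pow, map_intCast]

theorem cert_h_diag {R : RootData D} (hR : ReflData R) (i : Fin D.rank) (c : F) (hc : c ≠ 0) :
    D.hMat F (D.simple i.val) c =
      Matrix.diagonal (Sum.elim (fun _ => (1 : F)) fun s : Fin D.nroots => c ^ D.cartan i.val s.val) := by
  let f : F →+* AlgebraicClosure F := algebraMap F (AlgebraicClosure F)
  obtain ⟨a, ha⟩ := IsAlgClosed.exists_pow_nat_eq (f c) (n := 2) two_pos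
  have ha0 : a ≠ 0 := by
    intro h
    rw [h, zero_pow two_ne_zero] at ha
    exact hc (f.injective (by rw [← ha, map_zero]))
  have h1 := hMat_of_sq C hR i (Units.mk0 a ha0)
  rw [R.coe_torusSingle, Units.val_pow_eq_pow_val, Units.val_mk0, ha] at h1
  have hw : ∀ w : List (ℕ × F), f.mapMatrix (D.wordMat F w) =
      D.wordMat (AlgebraicClosure F) (w.map fun p => (p.1, f p.2)) := by
    intro w
    simp only [ChevalleyDatum.wordMat, map_list_prod, List.map_map]
    exact congrArg List.prod (List.map_congr_left fun p _ => x_map f p.1 p.2)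
  have h2 : f.mapMatrix (D.hMat F (D.simple i.val) c) =
      D.hMat (AlgebraicClosure F) (D.simple i.val) (f c) := by
    rw [ChevalleyDatum.hMat, hw]
    simp [ChevalleyDatum.hMat, ChevalleyDatum.hWord, ChevalleyDatum.nWord]
  refine (Matrix.map_injective f.injective) ?_
  show f.mapMatrix _ = f.mapMatrix _
  rw [h2, h1, RingHom.mapMatrix_apply, Matrix.diagonal_map (map_zero f)]
  congr 1
  funext x
  rcases x with j | s <;> simp [map_zpow₀]

theorem evalV_applyPs : ∀ (L : List (Fin D.rank)) (V : List Term),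
    evalV D (1 : F) 1 (applyPs C.T (L.map fun i : Fin D.rank => i.val) V) =
      (L.map fun i : Fin D.rank => D.nMat F (D.simple i.val) 1).prod *ᵥ evalV D (1 : F) 1 V
  | [], V => by simp [applyPs]
  | i :: L, V => by
    rw [List.map_cons, applyPs, evalV_merge,
      Data.evalV_applyP C.hv (lt_l C i.isLt) (C.checkN i.val (lt_l C i.isLt)),
      evalV_applyPs L V, List.map_cons, List.prod_cons, Matrix.mulVec_mulVec]

theorem cert_n_rel {R : RootData D} (i j : Fin D.rank) (m : ℕ)
    (h : relOK C.T i.val j.val m = true) :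
    ∃ c : Fin D.rank → Fˣ, (D.nMat F (D.simple i.val) 1 * D.nMat F (D.simple j.val) 1) ^ m =
      (R.torus c : Matrix D.Idx D.Idx F) := by
  simp only [relOK, List.any_eq_true, List.all_eq_true, List.mem_range] at h
  obtain ⟨⟨e₁, e₂⟩, -, he⟩ := h
  set u : Fˣ := -1 with hu
  refine ⟨Pi.mulSingle i (u ^ e₁) * Pi.mulSingle j (u ^ e₂), ext_unitFun fun c hc => ?_⟩
  have hc' : c < C.T.n + C.T.l := by rw [C.hv.hn, C.hv.hl]; exact hc
  have h1 := evalV_eq_of_sameVec (D := D) (1 : F) 1 (he c hc')
  have hflat : (List.replicate m [i.val, j.val]).flatten =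
      (List.replicate m [i, j]).flatten.map fun k : Fin D.rank => k.val := by
    simp [List.map_flatten]
  have hprod : ((List.replicate m [i, j]).flatten.map
      fun k : Fin D.rank => D.nMat F (D.simple k.val) 1).prod =
      (D.nMat F (D.simple i.val) 1 * D.nMat F (D.simple j.val) 1) ^ m := by
    simp [List.map_flatten, List.prod_flatten]
  rw [hflat, evalV_applyPs C, evalV_unitVec, hprod, evalV_cons, evalV_nil, add_zero] at h1
  rw [h1, R.coe_torus]
  obtain ⟨x, rfl⟩ := exists_idxCode (D := D) hc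
  rw [unitFun_idxCode, Matrix.mulVec_single_one]
  funext y
  simp only [Pi.smul_apply, Pi.single_apply, Matrix.diagonal, one_pow, mul_one]
  by_cases hyx : y = x
  swap
  · simp [Matrix.diagonal, hyx, Ne.symm hyx, Matrix.col]
  subst hyx
  simp only [Matrix.col, Matrix.of_apply, if_true, smul_eq_mul, mul_one, Matrix.transpose_apply]
  rcases y with k | s
  · simp [relSign, C.hv.hn, R.torusChar_zero]
  · have hs : s.val < C.T.n := lt_n C s.isLt
    have hki : D.cartan i.val s.val = (C.T.row s.val).car.getD i.val 0 :=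
      C.hv.car_eq _ hs _ (lt_l C i.isLt)
    have hkj : D.cartan j.val s.val = (C.T.row s.val).car.getD j.val 0 :=
      C.hv.car_eq _ hs _ (lt_l C j.isLt)
    simp only [relSign, idxCode_inr, hs, if_true, RootData.wt_inr, ← hki, ← hkj]
    rw [R.torusChar_mul, R.torusChar_single _ _ s.isLt, R.torusChar_single _ _ s.isLt,
      Units.val_mul, Units.val_zpow_eq_zpow_val, Units.val_zpow_eq_zpow_val, Units.val_pow_eq_pow_val,
      Units.val_pow_eq_pow_val, hu, Units.val_neg, Units.val_one, ← zpow_natCast, ← zpow_natCast,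
      ← _root_.zpow_mul, ← _root_.zpow_mul, ← zpow_add₀ (by simp : (-1 : F) ≠ 0)]
    rcases Int.even_or_odd ((e₁ : ℤ) * D.cartan i.val s.val + (e₂ : ℤ) * D.cartan j.val s.val)
      with hev | hod
    · rw [if_pos (Int.even_iff.1 hev), hev.neg_one_zpow]; simp
    · rw [if_neg (by have := Int.odd_iff.1 hod; omega), hod.neg_one_zpow]; simp

omit C in
/-- The structure bundle from a certificate and the relation check. -/
noncomputable def coreOfCert {D : ChevalleyDatum} (C : Cert D) {R : RootData D} {hR : ReflData R}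
    (cox : CoxData hR) (mf : ℕ → ℕ → ℕ) (hmf : ∀ i j, cox.M i j = mf i.val j.val)
    (hrel : relCheck C.T mf = true) (F : Type*) [Field F] : ChevCore D F where
  R := R
  hR := hR
  cox := cox
  x_add r hr t u := C.x_add (lt_n C hr) t u
  comm r hr s hs h1 h2 := by
    have hr' : r < C.T.n := lt_n C hr
    exact C.comm hr' (lt_n C hs) h1 (by rw [C.hv.neg_eq r hr']; exact h2)
  η i s := C.T.eta i.val s
  η_unit i s _ := Data.eta_eq C.T i.val s
  η_neg i s hs := by
    have hs' : s < C.T.n := lt_n C hs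
    rw [← C.hv.neg_eq s hs']
    exact (Data.conjRow C.hv (C.checkConj i.val (lt_l C i.isLt)) hs').eta_neg
  n_conj i s hs t := by
    rw [C.reflectRoot_eq (lt_l C i.isLt) (lt_n C hs)]
    exact C.nMat_mul_x (lt_l C i.isLt) (lt_n C hs) t
  n_shape i a b h := cert_n_shape C hR i a b h
  h_diag i c hc := cert_h_diag C hR i c hc
  n_rel i j := by
    simp only [relCheck, List.all_eq_true, List.mem_range] at hrel
    exact hmf i j ▸ cert_n_rel C i j _ (hrel i.val (lt_l C i.isLt) j.val (lt_l C j.isLt))

end CfsgLib.ChevStr
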