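import Cfsg.Agent.Lib.ChevStr.Derived
import Cfsg.Agent.Lib.ChevStr.Poincare

/-! Standard parabolic subgroups: root description, Levi decomposition, normalizer of the radical. -/

set_option autoImplicit false

namespace CfsgLib.ChevStr

open Cfsg.Lie
open scoped Classical

variable {D : ChevalleyDatum}

/-- The index set of a set of numbers. -/
noncomputable def finSet (D : ChevalleyDatum) (J : Set ℕ) : Finset (Fin D.rank) :=
  Finset.univ.filter fun i => i.val ∈ J

theorem mem_finSet {J : Set ℕ} {i : Fin D.rank} : i ∈ finSet D J ↔ i.val ∈ J := by simp [finSet]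

/-- The sum of the coefficients outside `J`. -/
noncomputable def outHom (D : ChevalleyDatum) (J : Set ℕ) : (Fin D.rank → ℤ) →+ ℤ where
  toFun v := ∑ i ∈ (finSet D J)ᶜ, v i
  map_zero' := by simp
  map_add' v w := by simp [Finset.sum_add_distrib]

theorem outHom_apply (J : Set ℕ) (v : Fin D.rank → ℤ) :
    outHom D J v = ∑ i ∈ (finSet D J)ᶜ, v i := rfl

namespace ReflData

variable {R : RootData D} (hR : ReflData R)

include hR

theorem inRootSub_iff {J : Set ℕ} {r : ℕ} :
    D.InRootSub J r ↔ r < D.nroots ∧ ∀ i : Fin D.rank, i ∉ finSet D J → R.α r i = 0 := by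
  refine ⟨fun h => ⟨h.1, fun i hi => ?_⟩, fun h => ⟨h.1, fun i hi hiJ => ?_⟩⟩
  · exact (hR.coroot_zero_iff i r h.1).1 (h.2 i.val i.isLt fun e => hi (mem_finSet.2 e))
  · exact (hR.coroot_zero_iff ⟨i, hi⟩ r h.1).2 (h.2 ⟨i, hi⟩ fun e => hiJ (mem_finSet.1 e))

theorem outHom_of_inRootSub {J : Set ℕ} {r : ℕ} (h : D.InRootSub J r) :
    outHom D J (R.α r) = 0 :=
  Finset.sum_eq_zero fun i hi => (hR.inRootSub_iff.1 h).2 i (Finset.mem_compl.1 hi)

theorem outHom_pos {J : Set ℕ} {r : ℕ} (hr : D.IsPosRoot r) (h : ¬ D.InRootSub J r) :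
    1 ≤ outHom D J (R.α r) := by
  have h0 : ∀ i, 0 ≤ R.α r i := ((R.isPos_iff r).1 hr).2
  obtain ⟨i, hi, hne⟩ : ∃ i, i ∉ finSet D J ∧ R.α r i ≠ 0 := by
    by_contra hcon
    push Not at hcon
    exact h (hR.inRootSub_iff.2 ⟨hr.1, hcon⟩)
  have := Finset.single_le_sum (f := fun i => R.α r i) (fun i _ => h0 i) (Finset.mem_compl.2 hi)
  have := h0 i
  rw [outHom_apply]
  omega

theorem inRootSub_neg {J : Set ℕ} {r : ℕ} (h : D.InRootSub J r) : D.InRootSub J (D.neg r) := by
  obtain ⟨hr, h0⟩ := hR.inRootSub_iff.1 h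
  exact hR.inRootSub_iff.2 ⟨R.neg_lt r hr, fun i hi => by rw [R.α_neg r hr, Pi.neg_apply, h0 i hi, neg_zero]⟩

theorem inRootSub_simple {J : Set ℕ} {i : Fin D.rank} (h : i.val ∈ J) :
    D.InRootSub J (D.simple i.val) :=
  hR.inRootSub_iff.2 ⟨R.simple_lt i, fun j hj => by
    have : j ≠ i := fun e => hj (mem_finSet.2 (e ▸ h))
    rw [R.α_simple i, Pi.single_eq_of_ne this]⟩

/-- Every positive root of a root subsystem is an image of one of its fundamental roots. -/
theorem exists_simple_image_sub {J : Set ℕ} : ∀ s : Fin D.nroots, D.InRootSub J s.val →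
    ∃ w ∈ hR.weylSub (finSet D J), ∃ k ∈ finSet D J, w ⟨D.simple k.val, R.simple_lt k⟩ = s := by
  suffices hpos : ∀ (n : ℕ) (s : Fin D.nroots), (∑ i, R.α s i) < n → D.IsPosRoot s → D.InRootSub J s.val →
      ∃ w ∈ hR.weylSub (finSet D J), ∃ k ∈ finSet D J, w ⟨D.simple k.val, R.simple_lt k⟩ = s by
    intro s hs
    rcases R.pos_or_neg s.isLt with h | h
    · exact hpos ((∑ i, R.α s i).toNat + 1) s (by omega) h hs
    · obtain ⟨w, hw, k, hk, hwk⟩ := hpos ((∑ i, R.α (D.neg s) i).toNat + 1) ⟨D.neg s, R.neg_lt s s.isLt⟩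
        (by simp only; omega) ((R.isPos_neg_iff s.isLt).2 h) (hR.inRootSub_neg hs)
      refine ⟨w * hR.sPerm k, (hR.weylSub _).mul_mem hw (hR.sPerm_mem_sub hk), k, hk, Fin.ext ?_⟩
      rw [Equiv.Perm.mul_apply,
        show hR.sPerm k ⟨D.simple k.val, R.simple_lt k⟩ =
            ⟨D.neg (D.simple k.val), R.neg_lt _ (R.simple_lt k)⟩ from Fin.ext (hR.refl_simple_self k),
        hR.apply_neg (hR.weylSub_le _ hw) ⟨D.simple k.val, R.simple_lt k⟩, hwk]
      exact R.neg_neg s s.isLt
  intro n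
  induction n with
  | zero =>
    intro s hlt hs
    have := Finset.sum_nonneg fun i (_ : i ∈ Finset.univ) => ((R.isPos_iff s).1 hs).2 i
    omega
  | succ n ih =>
    intro s hlt hs hJ
    obtain ⟨hsn, h0⟩ := hR.inRootSub_iff.1 hJ
    by_cases hsimp : ∃ k : Fin D.rank, s.val = D.simple k.val
    · obtain ⟨k, hk⟩ := hsimp
      refine ⟨1, one_mem _, k, by_contra fun hkJ => ?_, Fin.ext hk.symm⟩
      have := h0 k hkJ
      rw [hk, R.α_simple k, Pi.single_eq_same] at this
      exact one_ne_zero this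
    · push Not at hsimp
      obtain ⟨i, hi⟩ : ∃ i, R.α s i ≠ 0 := by
        obtain ⟨i, hi⟩ := Function.ne_iff.1 (R.α_ne_zero s.isLt)
        exact ⟨i, hi⟩
      obtain ⟨j, hj, hjA⟩ := hR.descent i s hs (hsimp i) hi
      have hjJ : j ∈ finSet D J := by_contra fun h => by rw [h0 j h] at hj; exact lt_irrefl _ hj
      have hα : R.α (hR.sPerm j s) = R.α s - D.cartan j.val s • R.α (D.simple j.val) := by
        rw [hR.sPerm_val, hR.α_refl j s.val s.isLt, R.α_simple j]
      have hpos : D.IsPosRoot (hR.sPerm j s) := by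
        rw [hR.sPerm_val]; exact hR.refl_pos j hs (hsimp j)
      have hin : D.InRootSub J (hR.sPerm j s).val := by
        refine hR.inRootSub_iff.2 ⟨(hR.sPerm j s).isLt, fun m hm => ?_⟩
        have hne : m ≠ j := fun e => hm (e ▸ hjJ)
        rw [hα, Pi.sub_apply, h0 m hm, Pi.smul_apply, R.α_simple j, Pi.single_eq_of_ne hne, smul_zero,
          sub_zero]
      have hsum : (∑ m, R.α (hR.sPerm j s) m) < n := by
        rw [hα]
        simp only [Pi.sub_apply, Pi.smul_apply, smul_eq_mul, Finset.sum_sub_distrib, R.α_simple j,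
          ← Finset.mul_sum, Finset.sum_pi_single', Finset.mem_univ, if_true, mul_one]
        push_cast at hlt
        omega
      obtain ⟨w, hw, k, hk, hwk⟩ := ih (hR.sPerm j s) hsum hpos hin
      refine ⟨hR.sPerm j * w, (hR.weylSub _).mul_mem (hR.sPerm_mem_sub hjJ) hw, k, hk, ?_⟩
      rw [Equiv.Perm.mul_apply, hwk, hR.sPerm_sPerm]

end ReflData

namespace ChevCore

variable {F : Type*} [Field F] (C : ChevCore D F) {J : Set ℕ}

include C

theorem nS_mem_parabolic {i : Fin D.rank} (h : i ∈ finSet D J) :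
    C.nS i ∈ D.parabolicSubgroup F J :=
  le_sup_right (a := D.borelSubgroup F) (Subgroup.subset_closure
    ⟨i.val, mem_finSet.1 h, i.isLt, C.coe_nS i⟩)

theorem exists_rep_sub {w : Equiv.Perm (Fin D.nroots)} (hw : w ∈ C.hR.weylSub (finSet D J)) :
    ∃ n ∈ D.parabolicSubgroup F J, n ∈ D.monomialSubgroup F ∧ C.Acts n w := by
  refine C.hR.weylSub_induction (P := fun w => ∃ n ∈ D.parabolicSubgroup F J,
    n ∈ D.monomialSubgroup F ∧ C.Acts n w) ⟨1, one_mem _, one_mem _, C.acts_one⟩ ?_ w hw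
  rintro v - i hi - ⟨n, hn, hnN, hv⟩
  exact ⟨n * C.nS i, mul_mem hn (C.nS_mem_parabolic hi), mul_mem hnN (C.nS_mem_monomial i),
    Acts.mul C hv (C.acts_nS i)⟩

theorem xGL_mem_parabolic {r : ℕ} (h : D.InRootSub J r) (t : F) :
    C.xGL r t ∈ D.parabolicSubgroup F J := by
  obtain ⟨w, hw, k, hk, hwk⟩ := C.hR.exists_simple_image_sub ⟨r, h.1⟩ h
  obtain ⟨n, hn, -, -, e, he⟩ := C.exists_rep_sub (F := F) hw
  obtain ⟨h1, -, h2⟩ := he ⟨D.simple k.val, C.R.simple_lt k⟩
  have h3 := h2 (((e (D.simple k.val) : ℤ) : F) * t)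
  rw [hwk] at h3
  have hee : ((e (D.simple k.val) : ℤ) : F) * ((e (D.simple k.val) : ℤ) : F) = 1 := by
    rcases h1 with h | h <;> simp [show e (D.simple k.val) = _ from h]
  simp only [← mul_assoc, hee, one_mul] at h3
  rw [← h3]
  exact mul_mem (mul_mem hn (Subgroup.mem_sup_left (C.pos_mem_borel (C.R.simple_pos k) _))) (inv_mem hn)

theorem parabolic_eq :
    D.parabolicSubgroup F J = D.diagonalSubgroup F ⊔
      Subgroup.closure {g : GL D.Idx F | ∃ (r : ℕ) (t : F), (D.IsPosRoot r ∨ D.InRootSub J r) ∧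
        (g : Matrix D.Idx D.Idx F) = D.x F r t} := by
  refine le_antisymm ?_ ?_
  · refine sup_le (sup_le ?_ le_sup_left) ((Subgroup.closure_le _).2 ?_)
    · exact C.posUnipotent_le fun r t hr =>
        le_sup_right (a := D.diagonalSubgroup F) (Subgroup.subset_closure ⟨r, t, Or.inl hr, C.coe_xGL r t⟩)
    · rintro g ⟨j, hj, hjl, hg⟩
      set K := Subgroup.closure {g : GL D.Idx F | ∃ (r : ℕ) (t : F), (D.IsPosRoot r ∨ D.InRootSub J r) ∧
        (g : Matrix D.Idx D.Idx F) = D.x F r t}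
      refine le_sup_right (a := D.diagonalSubgroup F) (?_ : g ∈ K)
      rw [show g = C.nS ⟨j, hjl⟩ from Units.ext (by rw [hg, C.coe_nS])]
      refine Subgroup.list_prod_mem _ fun x hx => ?_
      simp only [List.mem_map] at hx
      obtain ⟨q, hq, rfl⟩ := hx
      have hp := C.hR.inRootSub_simple (i := ⟨j, hjl⟩) hj
      simp only [ChevalleyDatum.nWord, List.mem_cons, List.not_mem_nil, or_false] at hq
      rcases hq with rfl | rfl | rfl
      · exact Subgroup.subset_closure ⟨_, _, Or.inr hp, C.coe_xGL _ _⟩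
      · exact Subgroup.subset_closure ⟨_, _, Or.inr (C.hR.inRootSub_neg hp), C.coe_xGL _ _⟩
      · exact Subgroup.subset_closure ⟨_, _, Or.inr hp, C.coe_xGL _ _⟩
  · refine sup_le (le_trans le_sup_right le_sup_left) ((Subgroup.closure_le _).2 ?_)
    rintro g ⟨r, t, hr, hg⟩
    rw [show g = C.xGL r t from Units.ext (by rw [hg, C.coe_xGL])]
    rcases hr with hr | hr
    · exact Subgroup.mem_sup_left (C.pos_mem_borel hr t)
    · exact C.xGL_mem_parabolic hr t

/-- The roots of the radical. -/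
def radRoots (_C : ChevCore D F) (J : Set ℕ) : Set ℕ := {r | D.IsPosRoot r ∧ ¬ D.InRootSub J r}

theorem radical_eq : D.unipotentRadical F J = C.Ucl (C.radRoots J) := by
  refine le_antisymm ((Subgroup.closure_le _).2 ?_) (C.Ucl_le fun r hr t =>
    Subgroup.subset_closure ⟨r, t, hr.1, hr.2, C.coe_xGL r t⟩)
  rintro g ⟨r, t, h1, h2, hg⟩
  rw [show g = C.xGL r t from Units.ext (by rw [hg, C.coe_xGL])]
  exact C.xGL_mem_Ucl (S := C.radRoots J) ⟨h1, h2⟩ t

theorem radical_le_borel : D.unipotentRadical F J ≤ D.borelSubgroup F := by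
  rw [C.radical_eq]
  exact C.Ucl_le fun r hr t => C.pos_mem_borel hr.1 t

theorem parabolic_le_normalizer :
    D.parabolicSubgroup F J ≤ Subgroup.normalizer (D.unipotentRadical F J : Set (GL D.Idx F)) := by
  rw [C.radical_eq, C.parabolic_eq, C.diagonalSubgroup_eq]
  refine sup_le (C.torus_normalizes _) ((Subgroup.closure_le _).2 ?_)
  rintro g ⟨r, t, hr, hg⟩
  rw [show g = C.xGL r t from Units.ext (by rw [hg, C.coe_xGL])]
  have hrn : r < D.nroots := hr.elim (fun h => h.1) fun h => h.1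
  refine C.xGL_mem_normalizer hrn (fun s hs => ⟨hs.1.1, ?_, ?_⟩) t
  · rintro rfl
    rcases hr with hr | hr
    · exact C.R.not_pos_and_neg hs.1 ((C.R.isNeg_neg_iff hrn).2 hr)
    · exact hs.2 (C.hR.inRootSub_neg hr)
  · intro k hk
    obtain ⟨hkn, a, b, ha, hb, hab⟩ := hk
    have hα : outHom D J (C.R.α k) = (a : ℤ) * outHom D J (C.R.α r) + (b : ℤ) * outHom D J (C.R.α s) := by
      rw [hab, map_add, map_zsmul, map_zsmul, smul_eq_mul, smul_eq_mul]
    have hs1 := C.hR.outHom_pos hs.1 hs.2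
    have hr0 : 0 ≤ outHom D J (C.R.α r) := by
      rcases hr with hr | hr
      · rw [outHom_apply]; exact Finset.sum_nonneg fun i _ => ((C.R.isPos_iff r).1 hr).2 i
      · rw [C.hR.outHom_of_inRootSub hr]
    have hk1 : 1 ≤ outHom D J (C.R.α k) := by
      rw [hα]; nlinarith
    refine ⟨(C.R.pos_or_neg hkn).resolve_right fun hn => ?_, fun hin => ?_⟩
    · have : outHom D J (C.R.α k) ≤ 0 := by
        rw [outHom_apply]; exact Finset.sum_nonpos fun i _ => ((C.R.isNeg_iff k).1 hn).2 i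
      omega
    · rw [C.hR.outHom_of_inRootSub hin] at hk1; omega

theorem radical_sup_levi :
    D.unipotentRadical F J ⊔ D.leviSubgroup F J = D.parabolicSubgroup F J := by
  rw [C.parabolic_eq]
  refine le_antisymm (sup_le ((Subgroup.closure_le _).2 ?_) (sup_le le_sup_left
    ((Subgroup.closure_le _).2 ?_))) (sup_le (le_trans le_sup_left le_sup_right) ((Subgroup.closure_le _).2 ?_))
  · rintro g ⟨r, t, h1, -, hg⟩
    exact le_sup_right (a := D.diagonalSubgroup F) (Subgroup.subset_closure ⟨r, t, Or.inl h1, hg⟩)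
  · rintro g ⟨r, t, h1, hg⟩
    exact le_sup_right (a := D.diagonalSubgroup F) (Subgroup.subset_closure ⟨r, t, Or.inr h1, hg⟩)
  · rintro g ⟨r, t, hr, hg⟩
    by_cases hin : D.InRootSub J r
    · exact le_sup_right (a := D.unipotentRadical F J)
        (le_sup_right (a := D.diagonalSubgroup F) (Subgroup.subset_closure ⟨r, t, hin, hg⟩))
    · exact le_sup_left (b := D.leviSubgroup F J)
        (Subgroup.subset_closure ⟨r, t, hr.resolve_right hin, hin, hg⟩)

/-- Matrices supported, with their inverses, on weight differences of outside sum zero. -/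
def levelGroup (J : Set ℕ) : Subgroup (GL D.Idx F) where
  carrier := {g | Supp C.R.wt {v | outHom D J v = 0} (g : Matrix D.Idx D.Idx F) ∧
    Supp C.R.wt {v | outHom D J v = 0} (↑g⁻¹ : Matrix D.Idx D.Idx F)}
  one_mem' := by constructor <;> simpa using supp_one (by simp)
  mul_mem' {g h} hg hh := by
    have hadd : ∀ x ∈ {v | outHom D J v = 0}, ∀ y ∈ {v : Fin D.rank → ℤ | outHom D J v = 0},
        x + y ∈ {v : Fin D.rank → ℤ | outHom D J v = 0} := by
      intro x hx y hy
      simp only [Set.mem_ofPred_eq, map_add] at hx hy ⊢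
      omega
    refine ⟨by rw [Units.val_mul]; exact hg.1.mul hh.1 hadd, ?_⟩
    rw [_root_.mul_inv_rev, Units.val_mul]
    exact hh.2.mul hg.2 hadd
  inv_mem' {g} hg := ⟨hg.2, by simpa using hg.1⟩

theorem levi_le_levelGroup : D.leviSubgroup F J ≤ C.levelGroup J := by
  have htor : ∀ c : Fin D.rank → Fˣ, Supp C.R.wt {v | outHom D J v = 0}
      (C.R.torus c : Matrix D.Idx D.Idx F) := fun c a b h => by
    by_cases hab : a = b
    · subst hab; simp
    · exact absurd (C.apply_torus_of_ne c hab) h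
  refine sup_le ?_ ((Subgroup.closure_le _).2 ?_)
  · rw [C.diagonalSubgroup_eq]
    rintro _ ⟨c, rfl⟩
    exact ⟨htor c, by rw [← map_inv]; exact htor c⁻¹⟩
  · rintro g ⟨r, t, hr, hg⟩
    rw [show g = C.xGL r t from Units.ext (by rw [hg, C.coe_xGL])]
    have key : ∀ t, Supp C.R.wt {v | outHom D J v = 0} (C.xGL r t : Matrix D.Idx D.Idx F) := by
      intro t a b h
      by_cases hab : a = b
      · subst hab; simp
      · rw [C.coe_xGL] at h
        obtain ⟨-, k, -, hk⟩ := C.R.x_apply_ne_zero hab h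
        rw [Set.mem_ofPred_eq, hk, map_zsmul, C.hR.outHom_of_inRootSub hr, smul_zero]
    exact ⟨key t, by rw [C.xGL_inv]; exact key _⟩

theorem radical_inf_levi : D.unipotentRadical F J ⊓ D.leviSubgroup F J = ⊥ := by
  refine (Subgroup.eq_bot_iff_forall _).2 fun g hg => ?_
  obtain ⟨hU, hL⟩ := Subgroup.mem_inf.1 hg
  let S : Set (Fin D.rank → ℤ) := {v | 1 ≤ outHom D J v}
  have hS : ∀ x ∈ S, ∀ y ∈ S, x + y ∈ S := fun x hx y hy => by
    simp only [S, Set.mem_ofPred_eq, map_add] at hx hy ⊢; omega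
  have hU' : g ∈ uniGroup C.R.wt S hS := by
    rw [C.radical_eq] at hU
    refine C.Ucl_le (fun r hr t => mem_uniGroup_of_supp (outHom D J) (fun _ h => h) ?_) hU
    rw [C.coe_xGL]
    refine C.R.supp_x_sub_one r t fun _ k hk => ?_
    have := C.hR.outHom_pos hr.1 hr.2
    have hk' : (1 : ℤ) ≤ k := by omega
    show 1 ≤ outHom D J ((k : ℤ) • C.R.α r)
    rw [map_zsmul, smul_eq_mul]
    nlinarith
  have hL' := (C.levi_le_levelGroup hL).1
  refine Units.ext ?_
  ext a b
  rw [Units.val_one]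
  by_cases hab : a = b
  · subst hab
    rw [uniGroup_apply_self (by simp [S]) hU', Matrix.one_apply_eq]
  · rw [Matrix.one_apply_ne hab]
    by_cases hv : C.R.wt a - C.R.wt b ∈ S
    · refine hL'.apply_eq_zero fun h0 => ?_
      simp only [S, Set.mem_ofPred_eq] at hv h0
      omega
    · exact uniGroup_apply_eq_zero hU' hab hv

theorem mem_weylSub_of_stable : ∀ (w : Equiv.Perm (Fin D.nroots)), w ∈ C.hR.weyl →
    (∀ s : Fin D.nroots, (s : ℕ) ∈ C.radRoots J → ((w s : Fin D.nroots) : ℕ) ∈ C.radRoots J) →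
    w ∈ C.hR.weylSub (finSet D J) := by
  suffices ∀ (n : ℕ) (w : Equiv.Perm (Fin D.nroots)), w ∈ C.hR.weyl → (C.hR.invSet w).card = n →
      (∀ s : Fin D.nroots, (s : ℕ) ∈ C.radRoots J → ((w s : Fin D.nroots) : ℕ) ∈ C.radRoots J) →
      w ∈ C.hR.weylSub (finSet D J) from fun w hw h => this _ w hw rfl h
  intro n
  induction n using Nat.strong_induction_on with
  | _ n ih =>
    intro w hw hn hstab
    by_cases h0 : C.hR.invSet w = ∅
    · rw [C.hR.eq_one_of_invSet_eq_empty hw h0]; exact one_mem _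
    · obtain ⟨i, -, hi⟩ := C.hR.weylSub_exists_neg (J := Finset.univ)
        (by rw [C.hR.weylSub_univ]; exact hw) h0
      have hiJ : i ∈ finSet D J := by_contra fun hiJ => C.R.not_pos_and_neg
        (hstab ⟨D.simple i.val, C.R.simple_lt i⟩ ⟨C.R.simple_pos i, fun hin => by
          have := (C.hR.inRootSub_iff.1 hin).2 i hiJ
          rw [C.R.α_simple i, Pi.single_eq_same] at this
          exact one_ne_zero this⟩).1 hi
      have hs : C.hR.sPerm i ∈ C.hR.weylSub (finSet D J) := C.hR.sPerm_mem_sub hiJ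
      have hc := C.hR.invSet_mul_sPerm_of_neg hw i hi
      have h1 := ih (C.hR.invSet (w * C.hR.sPerm i)).card (by omega) (w * C.hR.sPerm i)
        (mul_mem hw (C.hR.sPerm_mem i)) rfl fun s hs' => ?_
      · have h2 := mul_mem h1 hs
        rwa [mul_assoc, show C.hR.sPerm i * C.hR.sPerm i = 1 from
          Equiv.Perm.ext fun s => C.hR.sPerm_sPerm i s, mul_one] at h2
      · rw [Equiv.Perm.mul_apply]
        refine hstab _ ⟨?_, fun hin => ?_⟩
        · have hne : s.val ≠ D.simple i.val := fun e => hs'.2 (e ▸ C.hR.inRootSub_simple (mem_finSet.1 hiJ))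
          rw [C.hR.sPerm_val]; exact C.hR.refl_pos i hs'.1 hne
        · refine hs'.2 (C.hR.inRootSub_iff.2 ⟨s.isLt, fun m hm => ?_⟩)
          rw [← C.hR.weylSub_fix hs s m hm]
          exact (C.hR.inRootSub_iff.1 hin).2 m hm

theorem normalizer_radical_inf_group :
    Subgroup.normalizer (D.unipotentRadical F J : Set (GL D.Idx F)) ⊓ D.group F =
      D.parabolicSubgroup F J := by
  refine le_antisymm ?_ (le_inf C.parabolic_le_normalizer ?_)
  · intro g hg
    obtain ⟨hgN, hgG⟩ := Subgroup.mem_inf.1 hg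
    obtain ⟨n, hn, hcell⟩ := C.exists_bigCell hgG
    obtain ⟨a, ha, b, hb, rfl⟩ := C.mem_bigCell.1 hcell
    have hBP : D.borelSubgroup F ≤ D.parabolicSubgroup F J := le_sup_left
    have hnN : n ∈ Subgroup.normalizer (D.unipotentRadical F J : Set (GL D.Idx F)) := by
      have := mul_mem (mul_mem (inv_mem (C.parabolic_le_normalizer (hBP ha))) hgN)
        (inv_mem (C.parabolic_le_normalizer (hBP hb)))
      simpa [mul_assoc] using this
    obtain ⟨w, hw, -⟩ := C.exists_moves hn
    have hstab : ∀ s : Fin D.nroots, (s : ℕ) ∈ C.radRoots J →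
        ((w s : Fin D.nroots) : ℕ) ∈ C.radRoots J := by
      intro s hs
      obtain ⟨u, hu⟩ := hw.2 s 1
      have hu0 : u ≠ 0 := by
        rintro rfl
        rw [C.xGL_zero, mul_inv_eq_one, mul_eq_left, C.xGL_eq_one_iff s.isLt] at hu
        exact one_ne_zero hu
      have hmem : C.xGL (w s) u ∈ D.unipotentRadical F J := by
        rw [← hu]
        exact (Subgroup.mem_normalizer_iff.1 hnN _).1 (by rw [C.radical_eq]; exact C.xGL_mem_Ucl hs 1)
      have hne : C.xGL (w s) u ≠ 1 := fun h => hu0 ((C.xGL_eq_one_iff (w s).isLt).1 h)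
      refine ⟨(C.R.pos_or_neg (w s).isLt).resolve_right fun hneg => hne ?_, fun hin => hne ?_⟩
      · exact (Subgroup.eq_bot_iff_forall _).1 C.borel_inf_negUnipotent _
          ⟨C.radical_le_borel hmem, C.xGL_mem_negUnipotent hneg u⟩
      · exact (Subgroup.eq_bot_iff_forall _).1 C.radical_inf_levi _ ⟨hmem,
          le_sup_right (a := D.diagonalSubgroup F) (Subgroup.subset_closure ⟨_, u, hin, C.coe_xGL _ _⟩)⟩
    obtain ⟨m, hmP, hmN, hm⟩ := C.exists_rep_sub (F := F) (C.mem_weylSub_of_stable w hw.1 hstab)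
    have hd : n * m⁻¹ ∈ D.diagonalSubgroup F := by
      refine C.mem_diagonal_of_moves_one (mul_mem hn (inv_mem hmN)) ?_
      simpa using Moves.mul C hw (Moves.inv C hmN (Acts.moves C hm))
    have hnP : n ∈ D.parabolicSubgroup F J := by
      have hd' : n * m⁻¹ ∈ D.parabolicSubgroup F J := hBP (le_sup_right (a := D.posUnipotent F) hd)
      simpa using mul_mem hd' hmP
    exact mul_mem (mul_mem (hBP ha) hnP) (hBP hb)
  · refine sup_le C.borel_le_group ((Subgroup.closure_le _).2 ?_)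
    rintro g ⟨j, -, hj, hg⟩
    rw [show g = C.nS ⟨j, hj⟩ from Units.ext (by rw [hg, C.coe_nS])]
    exact C.nGL_mem_group _ _

end ChevCore

end CfsgLib.ChevStr
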