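import Cfsg.Agent.Lib.ChevStr.GoodTables

/-! Perfectness and simplicity of the seven tabulated types. -/

set_option autoImplicit false

namespace CfsgLib.ChevStr

open Cfsg.Lie

theorem perfect_of_check {D : ChevalleyDatum} {F : Type*} [Field F] (C : ChevCore D F)
    (h : ∀ i : Fin D.rank, goodCheck D i.val 1 = true) : commutator ↥(D.group F) = ⊤ :=
  C.group_perfect fun i => goodRoot_of_check C i (z := 1) (by simp) (h i)

theorem perfectG2 {F : Type*} [Field F] (hF : ∃ a : F, a ≠ 0 ∧ a ≠ 1) :
    commutator ↥(chevG2.group F) = ⊤ := by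
  obtain ⟨a, ha0, ha1⟩ := hF
  refine (coreG2 F).group_perfect fun i => ?_
  have hi : i.val = 0 ∨ i.val = 1 := by
    have h2 : chevG2.rank = 2 := by decide +kernel
    have := i.isLt
    omega
  rcases hi with hi | hi
  · refine goodRoot_of_torus _ i ⟨1, by decide +kernel⟩ (Units.mk0 a ha0) ?_
    rw [hi, show chevG2.cartan 1 (chevG2.simple 0) = -1 by decide +kernel]
    intro h
    rw [_root_.zpow_neg_one, inv_eq_one, Units.ext_iff] at h
    exact ha1 h
  · exact goodRoot_of_check _ i (z := 1) (by simp) (by rw [hi]; decide +kernel)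

theorem perfectB2 {F : Type*} [Field F] (hF : ∃ a : F, a ≠ 0 ∧ a ≠ 1) :
    commutator ↥(chevB2.group F) = ⊤ := by
  obtain ⟨a, ha0, ha1⟩ := hF
  refine (coreB2 F).group_perfect fun i => ?_
  have hi : i.val = 0 ∨ i.val = 1 := by
    have h2 : chevB2.rank = 2 := by decide +kernel
    have := i.isLt
    omega
  rcases hi with hi | hi
  · refine goodRoot_of_torus _ i ⟨1, by decide +kernel⟩ (Units.mk0 a ha0) ?_
    rw [hi, show chevB2.cartan 1 (chevB2.simple 0) = -1 by decide +kernel]
    intro h
    rw [_root_.zpow_neg_one, inv_eq_one, Units.ext_iff] at h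
    exact ha1 h
  · by_cases h2 : (2 : F) = 0
    · refine goodRoot_of_torus _ i i (Units.mk0 a ha0) ?_
      rw [(coreB2 F).hR.cartan_self i]
      intro h
      rw [Units.ext_iff, zpow_ofNat, Units.val_pow_eq_pow_val, Units.val_mk0, Units.val_one] at h
      apply ha1
      have h3 : (a - 1) ^ 2 = 0 := by linear_combination h - (a - 1) * h2
      exact sub_eq_zero.1 (eq_zero_of_pow_eq_zero h3)
    · exact goodRoot_of_check _ i (z := 2) (by simpa using h2) (by rw [hi]; decide +kernel)

end CfsgLib.ChevStr
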