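import Cfsg.Prelude.Def_ChevStructure

/-!
Root data checked on the tables of a Chevalley datum: coefficient vectors of the roots on the
fundamental roots, compatible with negation, chains, the Cartan table and the index order.
-/

set_option autoImplicit false

namespace CfsgLib.ChevStr

open Cfsg.Lie

/-- Field number `r` (4 bits wide) of a packed natural number, biased by 8. -/
def unpack4 (P r : ℕ) : ℤ := (((P >>> (4 * r)) % 16 : ℕ) : ℤ) - 8

/-- Coefficient functions read from packed columns. -/
def packedCoef (l : ℕ) (P : List ℕ) (r : ℕ) (i : Fin l) : ℤ := unpack4 (P.getD i.val 0) r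

/-- A positional code of a coefficient vector, linear in the vector. -/
def vecKey {l : ℕ} (v : Fin l → ℤ) : ℤ := ∑ i : Fin l, v i * 64 ^ (l - 1 - i.val)

/-- Field number `r` (64 bits wide) of a packed natural number, biased by `2 ^ 63`. -/
def unpack64 (K r : ℕ) : ℤ := (((K >>> (64 * r)) % 2 ^ 64 : ℕ) : ℤ) - 2 ^ 63

theorem abs_vecKey_lt : ∀ {l : ℕ} (v : Fin l → ℤ), (∀ i, |v i| < 64) → |vecKey v| < 64 ^ l := by
  intro l
  induction l with
  | zero => intro v _; simp [vecKey]
  | succ l ih =>
    intro v h
    have h1 : vecKey v = v 0 * 64 ^ l + vecKey (fun i : Fin l => v i.succ) := by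
      rw [vecKey, Fin.sum_univ_succ, vecKey]
      congr 1
      exact Finset.sum_congr rfl fun i _ => by
        rw [Fin.val_succ]; congr 2; omega
    have h2 := ih _ fun i => h i.succ
    have h3 := h 0
    rw [h1, pow_succ]
    rw [abs_lt] at h2 h3 ⊢
    have hp : (0 : ℤ) < 64 ^ l := by positivity
    constructor <;> nlinarith

theorem eq_zero_of_vecKey_eq_zero : ∀ {l : ℕ} (v : Fin l → ℤ), (∀ i, |v i| < 64) →
    vecKey v = 0 → v = 0 := by
  intro l
  induction l with
  | zero => intro v _ _; exact funext fun i => i.elim0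
  | succ l ih =>
    intro v h h0
    have h1 : vecKey v = v 0 * 64 ^ l + vecKey (fun i : Fin l => v i.succ) := by
      rw [vecKey, Fin.sum_univ_succ, vecKey]
      congr 1
      exact Finset.sum_congr rfl fun i _ => by
        rw [Fin.val_succ]; congr 2; omega
    have h2 := abs_vecKey_lt _ fun i => h i.succ
    rw [abs_lt] at h2
    rw [h1] at h0
    have hp : (0 : ℤ) < 64 ^ l := by positivity
    have hv : v 0 = 0 := by
      rcases lt_trichotomy (v 0) 0 with hlt | heq | hgt
      · have : v 0 ≤ -1 := by omega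
        nlinarith
      · exact heq
      · have : 1 ≤ v 0 := by omega
        nlinarith
    have h3 := ih _ (fun i => h i.succ) (by simpa [hv] using h0)
    funext i
    refine Fin.cases ?_ ?_ i
    · exact hv
    · exact fun j => congrFun h3 j

/-- Computable form of the conditions of `RootData`. -/
def rootCheck (D : ChevalleyDatum) (α : ℕ → Fin D.rank → ℤ) (K : ℕ) : Bool :=
  let ix := List.finRange D.rank
  let N := D.nroots
  ((List.range N).all fun r =>
    decide (unpack64 K r = vecKey (α r)) && (ix.all fun i => decide ((α r i).natAbs ≤ 8)) &&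
    decide (D.neg r < N) && decide (D.neg r ≠ r) && decide (D.neg (D.neg r) = r) &&
    (ix.all fun i => decide (α (D.neg r) i = -α r i)) &&
    ((ix.all fun i => decide (0 ≤ α r i)) || (ix.all fun i => decide (α r i ≤ 0))) &&
    (decide (D.IsPosRoot r) == (ix.all fun i => decide (0 ≤ α r i))) &&
    (decide (D.IsNegRoot r) == (ix.all fun i => decide (α r i ≤ 0))) &&
    decide (r + 1 < N → unpack64 K r < unpack64 K (r + 1)) &&
    decide (2 * (∑ i : Fin D.rank, α r i).natAbs + 1 ≤ D.rank + N) &&
    (ix.any fun i => ix.any fun j =>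
      decide (Int.gcd ((D.coroot.getD r #[]).getD i.val 0) ((D.coroot.getD r #[]).getD j.val 0) = 1))) &&
  (ix.all fun i =>
    decide (D.simple i.val < N) &&
    (ix.all fun j => decide (α (D.simple i.val) j = if j = i then 1 else 0)) &&
    ((D.cartanSR.getD i.val #[]).toList.zipIdx.all fun c =>
      decide (c.2 < N → c.1 = ∑ j : Fin D.rank, α c.2 j * D.cartan i.val (D.simple j.val))) &&
    decide (N ≤ (D.cartanSR.getD i.val #[]).size)) &&
  decide (D.chain.size ≤ N) &&
  (D.chain.toList.zipIdx.all fun row => row.1.toList.all fun e =>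
    decide (e.1 < N) &&
    (e.2.toList.zipIdx.all fun q =>
      decide (q.1.1 < N) && decide (q.2 < 4) &&
      decide (unpack64 K q.1.1 = ((q.2 + 1 : ℕ) : ℤ) * unpack64 K row.2 + unpack64 K e.1)))

/-- Root data of a datum: coefficient vectors with the properties used by the structure theory. -/
structure RootData (D : ChevalleyDatum) where
  /-- `α r i` is the coefficient of the root `r` on the fundamental root number `i`. -/
  α : ℕ → Fin D.rank → ℤ
  neg_lt : ∀ r < D.nroots, D.neg r < D.nroots
  neg_ne : ∀ r < D.nroots, D.neg r ≠ r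
  neg_neg : ∀ r < D.nroots, D.neg (D.neg r) = r
  α_neg : ∀ r < D.nroots, α (D.neg r) = -α r
  sign : ∀ r < D.nroots, 0 ≤ α r ∨ α r ≤ 0
  isPos_iff : ∀ r, D.IsPosRoot r ↔ r < D.nroots ∧ 0 ≤ α r
  isNeg_iff : ∀ r, D.IsNegRoot r ↔ r < D.nroots ∧ α r ≤ 0
  key_succ : ∀ r, r + 1 < D.nroots → vecKey (α r) < vecKey (α (r + 1))
  height_le : ∀ r < D.nroots, 2 * (∑ i, α r i).natAbs + 1 ≤ D.rank + D.nroots
  coroot_coprime : ∀ r < D.nroots, ∃ i j : Fin D.rank,
    Int.gcd ((D.coroot.getD r #[]).getD i.val 0) ((D.coroot.getD r #[]).getD j.val 0) = 1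
  simple_lt : ∀ i : Fin D.rank, D.simple i.val < D.nroots
  α_simple : ∀ i : Fin D.rank, α (D.simple i.val) = Pi.single i 1
  cartan_eq : ∀ i : Fin D.rank, ∀ r < D.nroots,
    D.cartan i.val r = ∑ j : Fin D.rank, α r j * D.cartan i.val (D.simple j.val)
  chain_fst : ∀ r, ∀ e ∈ (D.chain.getD r #[]).toList, e.1 < D.nroots
  chain_snd : ∀ r, ∀ e ∈ (D.chain.getD r #[]).toList, ∀ q ∈ e.2.toList.zipIdx,
    q.1.1 < D.nroots ∧ α q.1.1 = ((q.2 + 1 : ℕ) : ℤ) • α r + α e.1

theorem mem_zipIdx_of_getD {A : Type*} (a : Array (Array A)) (r : ℕ) (e : A)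
    (he : e ∈ (a.getD r #[]).toList) : (a.getD r #[], r) ∈ a.toList.zipIdx := by
  rw [List.mem_zipIdx_iff_getElem?]
  by_cases h : r < a.size
  · simp [Array.getD, h]
  · simp [Array.getD, h] at he

/-- Build root data from the computable check. -/
def RootData.ofCheck {D : ChevalleyDatum} (α : ℕ → Fin D.rank → ℤ) (K : ℕ)
    (h : rootCheck D α K = true) : RootData D := by
  simp only [rootCheck, Bool.and_eq_true, List.all_eq_true, List.any_eq_true, Bool.or_eq_true,
    decide_eq_true_eq, List.mem_range, List.mem_finRange, true_implies, true_and, beq_iff_eq] at h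
  have hr := h.1.1.1
  have hi := h.1.1.2
  have hsize := h.1.2
  have hc := h.2
  have hK : ∀ r < D.nroots, unpack64 K r = vecKey (α r) := fun r h => (hr r h).1.1.1.1.1.1.1.1.1.1.1
  have hb : ∀ r < D.nroots, ∀ i, (α r i).natAbs ≤ 8 := fun r h => (hr r h).1.1.1.1.1.1.1.1.1.1.2
  refine
    { α := α
      neg_lt := fun r h => (hr r h).1.1.1.1.1.1.1.1.1.2
      neg_ne := fun r h => (hr r h).1.1.1.1.1.1.1.1.2
      neg_neg := fun r h => (hr r h).1.1.1.1.1.1.1.2
      α_neg := fun r h => funext fun i => (hr r h).1.1.1.1.1.1.2 i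
      sign := fun r h => (hr r h).1.1.1.1.1.2
      isPos_iff := ?_
      isNeg_iff := ?_
      key_succ := fun r h => by
        have h1 := (hr r (Nat.lt_of_succ_lt h)).1.1.2 h
        rwa [hK r (Nat.lt_of_succ_lt h), hK _ h] at h1
      height_le := fun r h => (hr r h).1.2
      coroot_coprime := fun r h => (hr r h).2
      simple_lt := fun i => (hi i).1.1.1
      α_simple := fun i => funext fun j => by
        rw [(hi i).1.1.2 j, Pi.single_apply]
      cartan_eq := ?_
      chain_fst := ?_
      chain_snd := ?_ }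
  · intro r
    constructor
    · intro hp
      refine ⟨hp.1, fun i => ?_⟩
      have h1 := (hr r hp.1).1.1.1.1.2
      simp only [hp, decide_true] at h1
      simpa using List.all_eq_true.1 h1.symm i (List.mem_finRange i)
    · rintro ⟨hrn, hp⟩
      have h1 := (hr r hrn).1.1.1.1.2
      have h2 : (List.finRange D.rank).all (fun i => decide (0 ≤ α r i)) = true :=
        List.all_eq_true.2 fun i _ => decide_eq_true (hp i)
      rw [h2] at h1
      simpa using h1
  · intro r
    constructor
    · intro hp
      refine ⟨hp.1, fun i => ?_⟩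
      have h1 := (hr r hp.1).1.1.1.2
      simp only [hp, decide_true] at h1
      simpa using List.all_eq_true.1 h1.symm i (List.mem_finRange i)
    · rintro ⟨hrn, hp⟩
      have h1 := (hr r hrn).1.1.1.2
      have h2 : (List.finRange D.rank).all (fun i => decide (α r i ≤ 0)) = true :=
        List.all_eq_true.2 fun i _ => decide_eq_true (hp i)
      rw [h2] at h1
      simpa using h1
  · intro i r hrn
    have hsz : r < (D.cartanSR.getD i.val #[]).size := lt_of_lt_of_le hrn (hi i).2
    have h1 := (hi i).1.2 ((D.cartanSR.getD i.val #[])[r], r)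
      (by rw [List.mem_zipIdx_iff_getElem?]; simp) hrn
    have h2 : D.cartan i.val r = (D.cartanSR.getD i.val #[])[r]'hsz := by
      show ((D.cartanSR.getD i.val #[]).getD r 0) = _
      rw [Array.getD, dif_pos hsz]
      rfl
    rw [h2]
    exact h1
  · intro r e he
    exact (hc _ (mem_zipIdx_of_getD D.chain r e he) e he).1
  · intro r e he q hq
    have h1 := (hc _ (mem_zipIdx_of_getD D.chain r e he) e he).2 q hq
    obtain ⟨⟨hq1, hq2⟩, hq3⟩ := h1
    refine ⟨hq1, ?_⟩
    have hrN : r < D.nroots := by
      by_contra hcon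
      simp [Array.getD, show ¬ r < D.chain.size by omega] at he
    have hs : e.1 < D.nroots := (hc _ (mem_zipIdx_of_getD D.chain r e he) e he).1
    rw [hK _ hq1, hK _ hrN, hK _ hs] at hq3
    set c : ℤ := ((q.2 + 1 : ℕ) : ℤ) with hcdef
    have hz : α q.1.1 - (c • α r + α e.1) = 0 := by
      refine eq_zero_of_vecKey_eq_zero _ (fun i => ?_) ?_
      · have b1 := hb _ hq1 i
        have b2 := hb _ hrN i
        have b3 := hb _ hs i
        have hc4 : c ≤ 4 := by omega
        have hc0 : 0 ≤ c := by omega
        have b1' : |α q.1.1 i| ≤ 8 := by rw [Int.abs_eq_natAbs]; exact_mod_cast b1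
        have b2' : |α r i| ≤ 8 := by rw [Int.abs_eq_natAbs]; exact_mod_cast b2
        have b3' : |α e.1 i| ≤ 8 := by rw [Int.abs_eq_natAbs]; exact_mod_cast b3
        simp only [Pi.sub_apply, Pi.add_apply, Pi.smul_apply, smul_eq_mul]
        rw [abs_lt]
        rw [abs_le] at b1' b2' b3'
        constructor <;> nlinarith
      · simp only [vecKey, Pi.sub_apply, Pi.add_apply, Pi.smul_apply, smul_eq_mul, sub_mul,
          add_mul, Finset.sum_sub_distrib, Finset.sum_add_distrib, mul_assoc, ← Finset.mul_sum]
        simp only [vecKey] at hq3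
        linarith
    exact sub_eq_zero.1 hz

end CfsgLib.ChevStr
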