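import Cfsg.Agent.Lib.ChevStr.Derived

/-!
Perfectness and simplicity of a Chevalley group (Tits's argument with the Bruhat cells).
-/

set_option autoImplicit false

namespace CfsgLib.ChevStr

open Cfsg.Lie
open scoped MatrixGroups

variable {D : ChevalleyDatum}

/-- The Dynkin diagram is connected. -/
def DiagramConnected (D : ChevalleyDatum) : Prop :=
  ∀ J : Finset (Fin D.rank), J.Nonempty → J ≠ Finset.univ →
    ∃ j ∈ J, ∃ k, k ∉ J ∧ D.cartan j.val (D.simple k.val) < 0

namespace ChevCore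

variable {F : Type*} [Field F] (C : ChevCore D F)

/-- The fundamental root subgroup number `i` consists of commutators: either some commutator
formula has this single term, or the torus moves it. -/
def GoodRoot (i : Fin D.rank) : Prop :=
  (∃ a b : ℕ, ∃ z : ℤ, a < D.nroots ∧ b < D.nroots ∧ b ≠ a ∧ b ≠ D.neg a ∧
      D.commTerms a b = [(D.simple i.val, z, 1, 1)] ∧ (z : F) ≠ 0) ∨
    ∃ c : Fin D.rank → Fˣ, C.R.torusChar c (C.R.α (D.simple i.val)) ≠ 1

theorem simple_mem_commutator {i : Fin D.rank} (h : C.GoodRoot i) (t : F) :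
    C.xGL (D.simple i.val) t ∈ ⁅D.group F, D.group F⁆ := by
  rcases h with ⟨a, b, z, ha, hb, hba, hneg, hterms, hz⟩ | ⟨c, hc⟩
  · have h1 := C.xGL_comm ha hb hba hneg (-1) (t / (z : F))
    have h2 : C.wordGL (D.commWord F a b (-1) (t / (z : F))) = C.xGL (D.simple i.val) t := by
      simp only [ChevalleyDatum.commWord, hterms, List.map_cons, List.map_nil, C.wordGL_cons,
        C.wordGL_nil, mul_one]
      congr 1
      field_simp
    rw [h2] at h1
    have h3 : C.xGL (D.simple i.val) t =
        (C.xGL b (t / (z : F)))⁻¹ * (C.xGL a (-1))⁻¹ * C.xGL b (t / (z : F)) * C.xGL a (-1) := by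
      rw [mul_assoc _ (C.xGL b _) (C.xGL a _), h1]
      group
    rw [h3]
    have := Subgroup.commutator_mem_commutator (inv_mem (C.xGL_mem_group b (t / (z : F))))
      (inv_mem (C.xGL_mem_group a (-1)))
    simpa [commutatorElement_def] using this
  · set χ : F := (C.R.torusChar c (C.R.α (D.simple i.val)) : F) with hχ
    have h0 : χ - 1 ≠ 0 := sub_ne_zero.2 fun e => hc (Units.ext e)
    have h1 := C.acts_torus c (C.pRoot i) (t / (χ - 1))
    have h2 : C.xGL (D.simple i.val) t = C.R.torus c * C.xGL (D.simple i.val) (t / (χ - 1)) *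
        (C.R.torus c)⁻¹ * (C.xGL (D.simple i.val) (t / (χ - 1)))⁻¹ := by
      rw [show C.R.torus c * C.xGL (D.simple i.val) (t / (χ - 1)) * (C.R.torus c)⁻¹ =
        C.xGL (D.simple i.val) (χ * (t / (χ - 1))) from h1, C.xGL_inv, ← C.xGL_add]
      congr 1
      field_simp
      ring
    rw [h2]
    exact Subgroup.commutator_mem_commutator (C.borel_le_group (C.torus_mem_borel c))
      (C.xGL_mem_group _ _)

theorem group_perfect (h : ∀ i, C.GoodRoot i) : commutator ↥(D.group F) = ⊤ := by
  have key : D.group F ≤ ⁅D.group F, D.group F⁆ := C.group_le fun r t hr => by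
    obtain ⟨w, hw, k, hk⟩ := C.exists_simple_image ⟨r, hr⟩
    obtain ⟨n, hn, -, e, he⟩ := C.exists_rep hw
    obtain ⟨h1, -, h2⟩ := he ⟨D.simple k.val, C.R.simple_lt k⟩
    have h3 := h2 ((e (D.simple k.val) : F) * t)
    rw [hk, ← mul_assoc, show ((e (D.simple k.val) : F) * (e (D.simple k.val) : F)) = 1 by
      rcases h1 with h | h <;> simp [h], one_mul] at h3
    rw [← h3]
    have hnG : n ∈ D.group F := C.monomial_le_group (C.rep_mem_monomial hn)
    have hmem := C.simple_mem_commutator (h k) ((e (D.simple k.val) : F) * t)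
    have hc := Subgroup.commutator_mem_commutator hnG
      (C.xGL_mem_group (D.simple k.val) ((e (D.simple k.val) : F) * t))
    simpa [commutatorElement_def] using mul_mem hc hmem
  apply Subgroup.map_injective (D.group F).subtype_injective
  rw [commutator_def, Subgroup.map_commutator, ← MonoidHom.range_eq_map, Subgroup.range_subtype]
  exact le_antisymm (Subgroup.commutator_le.2 fun a ha b hb => by
    rw [commutatorElement_def]
    exact mul_mem (mul_mem (mul_mem ha hb) (inv_mem ha)) (inv_mem hb)) key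

section tits

variable {M : Subgroup (GL D.Idx F)} (hBM : D.borelSubgroup F ≤ M)

include hBM

theorem nS_mem_of_neg {n : GL D.Idx F} {w : Equiv.Perm (Fin D.nroots)}
    (hn : n ∈ D.monomialSubgroup F) (hnM : n ∈ M) (hw : C.Moves n w) (i : Fin D.rank)
    (hneg : D.IsNegRoot (w (C.pRoot i))) : C.nS i ∈ M := by
  -- the opposite root subgroup lies in `M`
  have hXneg : ∀ v, C.xGL (D.neg (D.simple i.val)) v ∈ M := by
    intro v
    obtain ⟨u, hu⟩ := hw.2 (C.pNeg i) v
    have hpos : D.IsPosRoot (w (C.pNeg i)) := by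
      rw [show ((w (C.pNeg i) : Fin D.nroots) : ℕ) = D.neg (w (C.pRoot i)) from
        C.hR.apply_neg hw.1 (C.pRoot i), C.R.isPos_neg_iff (w _).isLt]
      exact hneg
    have e : C.xGL (D.neg (D.simple i.val)) v = n⁻¹ * C.xGL (w (C.pNeg i)) u * n := by
      rw [← hu]
      show _ = n⁻¹ * (n * C.xGL (D.neg (D.simple i.val)) v * n⁻¹) * n
      group
    rw [e]
    exact mul_mem (mul_mem (inv_mem hnM) (hBM (C.pos_mem_borel hpos u))) hnM
  have hX : ∀ v, C.xGL (D.simple i.val) v ∈ M := fun v =>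
    hBM (C.pos_mem_borel (C.R.simple_pos i) v)
  show C.wordGL (D.nWord (D.simple i.val) 1) ∈ M
  refine Subgroup.list_prod_mem _ fun x hx => ?_
  simp only [ChevalleyDatum.nWord, List.map_cons, List.map_nil, List.mem_cons, List.not_mem_nil,
    or_false] at hx
  rcases hx with rfl | rfl | rfl
  exacts [hX _, hXneg _, hX _]

end tits

include C in
theorem mem_M_cases {M : Subgroup (GL D.Idx F)} (hBM : D.borelSubgroup F ≤ M)
    (hMG : M ≤ D.group F) {m : GL D.Idx F} (hm : m ∈ M) :
    ∃ a ∈ D.borelSubgroup F, ∃ n ∈ D.monomialSubgroup F, n ∈ M ∧ ∃ b ∈ D.borelSubgroup F,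
      m = a * n * b := by
  obtain ⟨n, hn, hcell⟩ := C.exists_bigCell (hMG hm)
  obtain ⟨a, ha, b, hb, rfl⟩ := C.mem_bigCell.1 hcell
  refine ⟨a, ha, n, hn, ?_, b, hb, rfl⟩
  have := mul_mem (mul_mem (inv_mem (hBM ha)) hm) (inv_mem (hBM hb))
  simpa [mul_assoc] using this

include C in
/-- Tits's simplicity criterion for the group. -/
theorem group_isSimple (hl : 0 < D.rank) (hconn : DiagramConnected D)
    (hperf : commutator ↥(D.group F) = ⊤) :
    IsSimpleGroup ↥(D.group F) ∧ ¬ IsMulCommutative ↥(D.group F) := by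
  classical
  set G := D.group F
  set i0 : Fin D.rank := ⟨0, hl⟩
  have hntriv : Nontrivial ↥G := by
    refine ⟨⟨⟨C.xGL (D.simple i0.val) 1, C.xGL_mem_group _ _⟩, 1, fun h => ?_⟩⟩
    exact one_ne_zero ((C.xGL_eq_one_iff (C.R.simple_lt i0)).1 (congrArg Subtype.val h))
  refine ⟨{ exists_pair_ne := hntriv.exists_pair_ne, eq_bot_or_eq_top_of_normal := ?_ }, ?_⟩
  swap
  · intro hcomm
    have h1 : commutator ↥G = ⊥ := by
      rw [commutator_def, Subgroup.commutator_eq_bot_iff_le_centralizer]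
      intro x _
      rw [Subgroup.mem_centralizer_iff]
      intro y _
      exact hcomm.is_comm.comm y x
    rw [hperf] at h1
    exact top_ne_bot h1
  intro K hK
  set K' := K.map G.subtype with hK'
  have hnorm : G ≤ Subgroup.normalizer (K' : Set (GL D.Idx F)) := by
    intro g hg
    refine Subgroup.mem_normalizer_iff.2 fun k => ⟨?_, fun h => ?_⟩
    · rintro ⟨k, hk, rfl⟩
      exact ⟨⟨g, hg⟩ * k * ⟨g, hg⟩⁻¹, hK.conj_mem k hk _, rfl⟩
    · obtain ⟨x, hx, hxe⟩ := h
      refine ⟨⟨g, hg⟩⁻¹ * x * ⟨g, hg⟩, by simpa using hK.conj_mem x hx ⟨g, hg⟩⁻¹, ?_⟩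
      show g⁻¹ * (x : GL D.Idx F) * g = k
      rw [show (x : GL D.Idx F) = g * k * g⁻¹ from hxe]
      group
  set M := K' ⊔ D.borelSubgroup F with hM
  have hBM : D.borelSubgroup F ≤ M := le_sup_right
  have hKG : K' ≤ G := Subgroup.map_subtype_le K
  have hMG : M ≤ G := sup_le hKG C.borel_le_group
  have hMeq : ∀ {m}, m ∈ M → ∃ k ∈ K', ∃ b ∈ D.borelSubgroup F, m = k * b := by
    intro m hm
    rw [← SetLike.mem_coe, hM,
      Subgroup.coe_mul_of_right_le_normalizer_left _ _ (C.borel_le_group.trans hnorm)] at hm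
    obtain ⟨k, hk, b, hb, rfl⟩ := hm
    exact ⟨k, hk, b, hb, rfl⟩
  set J : Finset (Fin D.rank) := Finset.univ.filter fun i => C.nS i ∈ M with hJ
  by_cases hJe : J = ∅
  · -- then `M = B`, and `K` lies in the core of `B`
    refine Or.inl (le_bot_iff.1 (le_trans ?_ C.normalCore_borel_eq_bot.le))
    refine (Subgroup.normal_le_normalCore).2 fun k hk => ?_
    obtain ⟨a, ha, n, hn, hnM, b, hb, hab⟩ :=
      C.mem_M_cases hBM hMG (le_sup_left (b := D.borelSubgroup F) ⟨k, hk, rfl⟩ : (k : GL D.Idx F) ∈ M)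
    obtain ⟨w, hw, -⟩ := C.exists_moves hn
    have hw1 : C.hR.invSet w = ∅ := by
      by_contra hne
      obtain ⟨i, hi⟩ := C.hR.exists_simple_neg_of_ne_one hw.1 hne
      have : i ∈ J := Finset.mem_filter.2
        ⟨Finset.mem_univ _, C.nS_mem_of_neg hBM hn hnM hw i hi⟩
      rw [hJe] at this
      exact Finset.notMem_empty i this
    have hnB : n ∈ D.borelSubgroup F := le_sup_right (a := D.posUnipotent F)
      (C.mem_diagonal_of_moves_one hn (C.hR.eq_one_of_invSet_eq_empty hw.1 hw1 ▸ hw))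
    show (k : GL D.Idx F) ∈ D.borelSubgroup F
    rw [show (k : GL D.Idx F) = a * n * b from hab]
    exact mul_mem (mul_mem ha hnB) hb
  · refine Or.inr ?_
    have hall : ∀ i, C.nS i ∈ M := by
      by_contra hcon
      push Not at hcon
      obtain ⟨i, hi⟩ := hcon
      obtain ⟨j, hj, k, hk, hjk⟩ := hconn J (Finset.nonempty_iff_ne_empty.2 hJe)
        (fun h => hi ((Finset.mem_filter.1 (h ▸ Finset.mem_univ i : i ∈ J)).2))
      have hjM : C.nS j ∈ M := (Finset.mem_filter.1 hj).2
      have hne : j ≠ k := fun h => hk (h ▸ hj)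
      apply hk
      refine Finset.mem_filter.2 ⟨Finset.mem_univ _, ?_⟩
      -- the root `s_j p_k` is positive and different from `p_k`
      set q := C.hR.sPerm j (C.pRoot k) with hq
      have hqpos : D.IsPosRoot q := C.hR.refl_pos j (C.R.simple_pos k) fun e => hne.symm (by
        have h5 := congrArg (fun r => C.R.α r k) e
        simp only [pRoot, C.R.α_simple, Pi.single_eq_same] at h5
        by_contra hkj
        rw [Pi.single_eq_of_ne hkj] at h5
        exact one_ne_zero h5)
      have hqne : (q : ℕ) ≠ D.simple k.val := fun e => by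
        have h5 := congrArg (fun r => C.R.α r j) e
        simp only [hq, C.hR.sPerm_val, C.hR.α_refl j _ (C.pRoot k).isLt] at h5
        simp only [pRoot, C.R.α_simple, Pi.sub_apply, Pi.smul_apply, Pi.single_eq_same,
          Pi.single_eq_of_ne hne, smul_eq_mul, mul_one, zero_sub] at h5
        omega
      have hqk : D.IsPosRoot (C.hR.sPerm k q) := C.hR.refl_pos k hqpos hqne
      have hneg_apply : ∀ {v : Equiv.Perm (Fin D.nroots)}, v ∈ C.hR.weyl →
          D.IsPosRoot (v (C.pRoot k)) → D.IsNegRoot (v (C.pNeg k)) := by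
        intro v hv hp
        rw [show ((v (C.pNeg k) : Fin D.nroots) : ℕ) = D.neg (v (C.pRoot k)) from
          C.hR.apply_neg hv (C.pRoot k), C.R.isNeg_neg_iff (v _).isLt]
        exact hp
      have hsN := C.nS_mem_monomial
      have hmv := fun i => Acts.moves C (C.acts_nS i)
      obtain ⟨κ, hκ, b, hb, hκb⟩ := hMeq hjM
      have hsG : C.nS k ∈ G := C.monomial_le_group (hsN k)
      have hκ' : C.nS k * κ * (C.nS k)⁻¹ ∈ K' :=
        (Subgroup.mem_normalizer_iff.1 (hnorm hsG) κ).1 hκ
      set n' := C.nS k * C.nS j * (C.nS k)⁻¹ with hn'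
      have hn'N : n' ∈ D.monomialSubgroup F := mul_mem (mul_mem (hsN k) (hsN j)) (inv_mem (hsN k))
      have hn'w : C.Moves n' (C.hR.sPerm k * C.hR.sPerm j * C.hR.sPerm k) := by
        have h := Moves.mul C (Moves.mul C (hmv k) (hmv j)) (Moves.inv C (hsN k) (hmv k))
        rwa [inv_eq_of_mul_eq_one_right (C.hR.sPerm_mul_self k)] at h
      have hn'neg : D.IsNegRoot ((C.hR.sPerm k * C.hR.sPerm j * C.hR.sPerm k) (C.pRoot k)) := by
        rw [Equiv.Perm.mul_apply, C.sPerm_pRoot]
        exact hneg_apply (mul_mem (C.hR.sPerm_mem k) (C.hR.sPerm_mem j)) hqk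
      have hn'eq : n' = C.nS k * κ * (C.nS k)⁻¹ * (C.nS k * b * (C.nS k)⁻¹) := by
        rw [hn', hκb]; group
      obtain ⟨c, hc⟩ := C.nS_inv k
      have hbk : C.nS k * b * (C.nS k)⁻¹ ∈
          C.bigCell (C.nS k * C.nS k) ∪ C.bigCell (C.nS k) := by
        have h := C.nS_mul_mem k (hsN k) (mul_mem hb (C.torus_mem_borel c))
        rw [show C.nS k * b * (C.nS k)⁻¹ = C.nS k * (b * C.R.torus c) * C.nS k by rw [hc]; group]
        exact h
      rcases hbk with h | h
      · -- `n'` lies in `M`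
        have h1 : C.nS k * b * (C.nS k)⁻¹ ∈ M := by
          obtain ⟨x, hx, y, hy, hxy⟩ := C.mem_bigCell.1 h
          obtain ⟨z, hz⟩ := C.nS_mul_self_mem k
          rw [hxy, ← hz]
          exact hBM (mul_mem (mul_mem hx (C.torus_mem_borel z)) hy)
        have h2 : n' ∈ M := by
          rw [hn'eq]; exact mul_mem (le_sup_left (b := D.borelSubgroup F) hκ') h1
        exact C.nS_mem_of_neg hBM hn'N h2 hn'w k hn'neg
      · obtain ⟨x, hx, y, hy, hxy⟩ := C.mem_bigCell.1 h
        have hm : C.nS k * κ * (C.nS k)⁻¹ * x ∈ M :=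
          mul_mem (le_sup_left (b := D.borelSubgroup F) hκ') (hBM hx)
        obtain ⟨a, ha, n1, hn1, hn1M, a', ha', hm1⟩ := C.mem_M_cases hBM hMG hm
        obtain ⟨w1, hw1, -⟩ := C.exists_moves hn1
        have hcell : n' = a * (n1 * a' * C.nS k) * y := by
          rw [hn'eq, hxy, show C.nS k * κ * (C.nS k)⁻¹ * (x * C.nS k * y) =
            (C.nS k * κ * (C.nS k)⁻¹ * x) * C.nS k * y by group, hm1]
          group
        rcases C.mul_nS_mem k hn1 ha' with h' | h'
        · have h3 : n' ∈ C.bigCell (n1 * C.nS k) := hcell ▸ C.bigCell_mul h' ha hy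
          have h4 := C.moves_eq_of_mem hn'N (mul_mem hn1 (hsN k)) hn'w
            (Moves.mul C hw1 (hmv k)) h3
          have h5 : w1 = C.hR.sPerm k * C.hR.sPerm j := (mul_right_cancel h4).symm
          refine C.nS_mem_of_neg hBM (inv_mem hn1) (inv_mem hn1M) (Moves.inv C hn1 hw1) k ?_
          rw [h5, mul_inv_rev, inv_eq_of_mul_eq_one_right (C.hR.sPerm_mul_self j),
            inv_eq_of_mul_eq_one_right (C.hR.sPerm_mul_self k), Equiv.Perm.mul_apply, C.sPerm_pRoot]
          exact hneg_apply (C.hR.sPerm_mem j) hqpos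
        · have h3 : n' ∈ C.bigCell n1 := hcell ▸ C.bigCell_mul h' ha hy
          have h4 := C.moves_eq_of_mem hn'N hn1 hn'w hw1 h3
          exact C.nS_mem_of_neg hBM hn1 hn1M hw1 k (h4 ▸ hn'neg)
    have hGM : G ≤ M := by
      refine C.group_le_closure.trans ((Subgroup.closure_le _).2 (Set.union_subset hBM ?_))
      rintro _ ⟨i, rfl⟩
      exact hall i
    -- the quotient by `K` is a perfect image of the solvable group `B`
    have hsurj : Function.Surjective
        ((QuotientGroup.mk' K).comp (Subgroup.inclusion C.borel_le_group)) := by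
      intro x
      obtain ⟨g, rfl⟩ := QuotientGroup.mk'_surjective K x
      obtain ⟨k, hk, b, hb, hg⟩ := hMeq (hGM g.2)
      refine ⟨⟨b, hb⟩, QuotientGroup.eq.2 ?_⟩
      obtain ⟨k', hk', rfl⟩ := hk
      have h := hK.conj_mem k' hk' (⟨b, C.borel_le_group hb⟩ : ↥G)⁻¹
      convert h using 1
      refine Subtype.ext ?_
      show b⁻¹ * (g : GL D.Idx F) = b⁻¹ * (k' : GL D.Idx F) * b⁻¹⁻¹
      rw [hg]
      show b⁻¹ * ((k' : GL D.Idx F) * b) = _
      group
    have hsol : Group.IsSolvable (↥G ⧸ K) :=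
      have := C.borel_isSolvable
      Group.isSolvable_of_surjective hsurj
    by_contra hne
    have : Nontrivial (↥G ⧸ K) := QuotientGroup.nontrivial_iff.2 hne
    have hq : commutator (↥G ⧸ K) = ⊤ := by
      rw [commutator_def, ← Subgroup.map_top_of_surjective (QuotientGroup.mk' K)
        (QuotientGroup.mk'_surjective K), ← Subgroup.map_commutator, ← commutator_def, hperf]
    exact (Group.IsSolvable.commutator_lt_top_of_nontrivial (↥G ⧸ K)).ne hq

end ChevCore

end CfsgLib.ChevStr
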