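import Mathlib

/-!
Matrices supported on prescribed weight differences, and the groups of invertible matrices
congruent to `1` modulo such matrices.
-/

set_option autoImplicit false

namespace CfsgLib.ChevStr

open scoped MatrixGroups

variable {ι : Type*} {F : Type*} [Field F] {M : Type*} [AddCommGroup M]

/-- Every non-zero entry `(a, b)` has weight difference `w a - w b` in `S`. -/
def Supp (w : ι → M) (S : Set M) (A : Matrix ι ι F) : Prop := ∀ a b, A a b ≠ 0 → w a - w b ∈ S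

variable {w : ι → M} {S T U : Set M} {A B : Matrix ι ι F}

theorem Supp.mono (h : Supp w S A) (hST : S ⊆ T) : Supp w T A := fun a b hab => hST (h a b hab)

theorem supp_zero : Supp w S (0 : Matrix ι ι F) := fun a b h => absurd rfl h

theorem Supp.add (hA : Supp w S A) (hB : Supp w S B) : Supp w S (A + B) := by
  intro a b h
  by_cases ha : A a b = 0
  · exact hB a b (by simpa [ha] using h)
  · exact hA a b ha

theorem Supp.neg (hA : Supp w S A) : Supp w S (-A) := fun a b h => hA a b (by simpa using h)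

theorem Supp.sub (hA : Supp w S A) (hB : Supp w S B) : Supp w S (A - B) := by
  rw [sub_eq_add_neg]; exact hA.add hB.neg

theorem Supp.apply_eq_zero (hA : Supp w S A) {a b : ι} (h : w a - w b ∉ S) : A a b = 0 :=
  not_not.1 fun h' => h (hA a b h')

variable [Fintype ι]

theorem Supp.mul (hA : Supp w S A) (hB : Supp w T B) (h : ∀ x ∈ S, ∀ y ∈ T, x + y ∈ U) :
    Supp w U (A * B) := by
  intro a b hab
  rw [Matrix.mul_apply] at hab
  obtain ⟨c, -, hc⟩ := Finset.exists_ne_zero_of_sum_ne_zero hab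
  obtain ⟨h1, h2⟩ := mul_ne_zero_iff.1 hc
  simpa using h _ (hA a c h1) _ (hB c b h2)

variable [DecidableEq ι]

theorem supp_one (h : (0 : M) ∈ S) : Supp w S (1 : Matrix ι ι F) := by
  intro a b hab
  obtain rfl : a = b := not_not.1 fun hne => hab (Matrix.one_apply_ne hne)
  simpa using h

theorem Supp.pow_succ (hA : Supp w S A) (hS : ∀ x ∈ S, ∀ y ∈ S, x + y ∈ S) :
    ∀ k : ℕ, Supp w S (A ^ (k + 1)) := by
  intro k
  induction k with
  | zero => simpa using hA
  | succ k ih => rw [_root_.pow_succ]; exact ih.mul hA hS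

theorem Supp.pow_degree (φ : M →+ ℤ) (hA : Supp w S A) (hS : ∀ x ∈ S, 1 ≤ φ x) :
    ∀ k : ℕ, Supp w {x | (k : ℤ) ≤ φ x} (A ^ k) := by
  intro k
  induction k with
  | zero => simpa using supp_one (by simp)
  | succ k ih =>
    rw [_root_.pow_succ]
    refine ih.mul hA fun x hx y hy => ?_
    have := hS y hy
    simp only [Set.mem_ofPred_eq] at hx ⊢
    rw [map_add]
    push_cast
    linarith

/-- A matrix raising a bounded degree strictly is nilpotent of the expected order. -/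
theorem Supp.pow_eq_zero (φ : M →+ ℤ) (hA : Supp w S A) (hS : ∀ x ∈ S, 1 ≤ φ x) {n : ℕ}
    (hn : ∀ a b, φ (w a) - φ (w b) < (n : ℤ)) : A ^ n = 0 := by
  ext a b
  refine (hA.pow_degree φ hS n).apply_eq_zero ?_
  simp only [Set.mem_ofPred_eq, map_sub, not_le]
  exact hn a b

theorem supp_inv_sub_one (φ : M →+ ℤ) (hadd : ∀ x ∈ S, ∀ y ∈ S, x + y ∈ S)
    (hS : ∀ x ∈ S, 1 ≤ φ x) {g : GL ι F} (hg : Supp w S ((g : Matrix ι ι F) - 1)) :
    Supp w S ((↑g⁻¹ : Matrix ι ι F) - 1) := by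
  classical
  set n : ℕ := (2 * (∑ a : ι, |φ (w a)|) + 1).toNat with hn
  set N : Matrix ι ι F := 1 - (g : Matrix ι ι F) with hN
  have hNs : Supp w S N := by
    have : N = -((g : Matrix ι ι F) - 1) := by simp [hN]
    rw [this]; exact hg.neg
  have hzero : N ^ n = 0 := by
    refine hNs.pow_eq_zero φ hS fun a b => ?_
    have ha := Finset.single_le_sum (f := fun a => |φ (w a)|) (fun i _ => abs_nonneg _)
      (Finset.mem_univ a)
    have hb := Finset.single_le_sum (f := fun a => |φ (w a)|) (fun i _ => abs_nonneg _)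
      (Finset.mem_univ b)
    have h0 : 0 ≤ ∑ a : ι, |φ (w a)| := Finset.sum_nonneg fun i _ => abs_nonneg _
    rw [hn, Int.toNat_of_nonneg (by linarith)]
    have := abs_le.1 ha
    have := abs_le.1 hb
    linarith
  have hgeom : (g : Matrix ι ι F) * (∑ k ∈ Finset.range n, N ^ k) = 1 := by
    have h1 := mul_neg_geom_sum N n
    rw [hzero, sub_zero] at h1
    simpa [hN] using h1
  have hinv : (↑g⁻¹ : Matrix ι ι F) = ∑ k ∈ Finset.range n, N ^ k := by
    calc (↑g⁻¹ : Matrix ι ι F) = ↑g⁻¹ * ((g : Matrix ι ι F) * ∑ k ∈ Finset.range n, N ^ k) := by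
          rw [hgeom, mul_one]
      _ = _ := by rw [← mul_assoc, ← Units.val_mul, inv_mul_cancel, Units.val_one, one_mul]
  obtain ⟨m, hm⟩ : ∃ m, n = m + 1 := ⟨n - 1, by
    have h0 : 0 ≤ ∑ a : ι, |φ (w a)| := Finset.sum_nonneg fun i _ => abs_nonneg _
    omega⟩
  rw [hinv, hm, Finset.sum_range_succ', pow_zero, add_sub_cancel_right]
  refine Finset.sum_induction _ (Supp w S) (fun _ _ => Supp.add) supp_zero fun k _ => ?_
  exact hNs.pow_succ hadd k

/-- Invertible matrices which, with their inverses, are congruent to `1` modulo the matrices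
supported on `S`. -/
def uniGroup (w : ι → M) (S : Set M) (hadd : ∀ x ∈ S, ∀ y ∈ S, x + y ∈ S) : Subgroup (GL ι F) where
  carrier := {g | Supp w S ((g : Matrix ι ι F) - 1) ∧ Supp w S ((↑g⁻¹ : Matrix ι ι F) - 1)}
  one_mem' := by constructor <;> simpa using supp_zero
  mul_mem' {g h} hg hh := by
    have key : ∀ a b : Matrix ι ι F, Supp w S (a - 1) → Supp w S (b - 1) →
        Supp w S (a * b - 1) := by
      intro a b ha hb
      have e : a * b - 1 = (a - 1) + (b - 1) + (a - 1) * (b - 1) := by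
        simp [sub_mul, mul_sub]; abel
      rw [e]
      exact (ha.add hb).add (ha.mul hb hadd)
    refine ⟨?_, ?_⟩
    · rw [Units.val_mul]; exact key _ _ hg.1 hh.1
    · rw [mul_inv_rev, Units.val_mul]; exact key _ _ hh.2 hg.2
  inv_mem' {g} hg := ⟨hg.2, by simpa using hg.1⟩

variable {hadd : ∀ x ∈ S, ∀ y ∈ S, x + y ∈ S}

theorem mem_uniGroup_of_supp (φ : M →+ ℤ) (hS : ∀ x ∈ S, 1 ≤ φ x) {g : GL ι F}
    (hg : Supp w S ((g : Matrix ι ι F) - 1)) : g ∈ uniGroup w S hadd :=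
  ⟨hg, supp_inv_sub_one φ hadd hS hg⟩

theorem mem_uniGroup_iff (φ : M →+ ℤ) (hS : ∀ x ∈ S, 1 ≤ φ x) {g : GL ι F} :
    g ∈ uniGroup w S hadd ↔ Supp w S ((g : Matrix ι ι F) - 1) :=
  ⟨fun h => h.1, mem_uniGroup_of_supp φ hS⟩

theorem uniGroup_mono {hadd' : ∀ x ∈ T, ∀ y ∈ T, x + y ∈ T} (h : S ⊆ T) :
    uniGroup w S hadd ≤ (uniGroup w T hadd' : Subgroup (GL ι F)) :=
  fun _ hg => ⟨hg.1.mono h, hg.2.mono h⟩

theorem uniGroup_apply_self (h0 : (0 : M) ∉ S) {g : GL ι F} (hg : g ∈ uniGroup w S hadd) (a : ι) :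
    (g : Matrix ι ι F) a a = 1 := by
  have h := hg.1.apply_eq_zero (a := a) (b := a) (by simpa using h0)
  rwa [Matrix.sub_apply, Matrix.one_apply_eq, sub_eq_zero] at h

theorem uniGroup_apply_eq_zero {g : GL ι F} (hg : g ∈ uniGroup w S hadd) {a b : ι} (hab : a ≠ b)
    (h : w a - w b ∉ S) : (g : Matrix ι ι F) a b = 0 := by
  simpa [Matrix.one_apply_ne hab] using hg.1.apply_eq_zero h

/-- Groups with disjoint supports intersect trivially. -/
theorem uniGroup_inf_eq_bot {hadd' : ∀ x ∈ T, ∀ y ∈ T, x + y ∈ T} (h : Disjoint S T) :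
    uniGroup w S hadd ⊓ uniGroup w T hadd' = (⊥ : Subgroup (GL ι F)) := by
  refine (Subgroup.eq_bot_iff_forall _).2 fun g ⟨h1, h2⟩ => Units.ext (sub_eq_zero.1 ?_)
  ext a b
  rw [Units.val_one, Matrix.zero_apply]
  by_contra hne
  exact Set.disjoint_left.1 h (h1.1 a b hne) (h2.1 a b hne)

/-- The part of degree at least `k` of a group of positive degree. -/
theorem commutator_mem_of_degree (φ : M →+ ℤ) {k : ℕ} (hk : 1 ≤ k) {g h : GL ι F}
    (hg : Supp w {x | (k : ℤ) ≤ φ x} ((g : Matrix ι ι F) - 1))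
    (hh : Supp w {x | (1 : ℤ) ≤ φ x} ((h : Matrix ι ι F) - 1)) :
    Supp w {x | ((k + 1 : ℕ) : ℤ) ≤ φ x}
      ((↑(g * h * g⁻¹ * h⁻¹) : Matrix ι ι F) - 1) := by
  have hadd1 : ∀ x ∈ {x | (1 : ℤ) ≤ φ x}, ∀ y ∈ {x : M | (1 : ℤ) ≤ φ x},
      x + y ∈ {x : M | (1 : ℤ) ≤ φ x} := by
    intro x hx y hy
    simp only [Set.mem_ofPred_eq, map_add] at hx hy ⊢
    linarith
  have e : (↑(g * h * g⁻¹ * h⁻¹) : Matrix ι ι F) - 1 =
      (((g : Matrix ι ι F) - 1) * ((h : Matrix ι ι F) - 1) -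
        ((h : Matrix ι ι F) - 1) * ((g : Matrix ι ι F) - 1)) * (↑(g⁻¹ * h⁻¹) : Matrix ι ι F) := by
    have h1 : (g : Matrix ι ι F) * h - h * g =
        ((g : Matrix ι ι F) - 1) * ((h : Matrix ι ι F) - 1) -
          ((h : Matrix ι ι F) - 1) * ((g : Matrix ι ι F) - 1) := by
      simp [sub_mul, mul_sub]
      abel
    have h3 : h * g * (g⁻¹ * h⁻¹) = 1 := by group
    rw [← h1, sub_mul, ← Units.val_mul, ← Units.val_mul, ← Units.val_mul, ← Units.val_mul, h3,
      Units.val_one]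
    congr 2
    group
  have hu : Supp w {x | (0 : ℤ) ≤ φ x} (↑(g⁻¹ * h⁻¹) : Matrix ι ι F) := by
    have hS1 : ∀ x ∈ {x : M | (1 : ℤ) ≤ φ x}, 1 ≤ φ x := fun x hx => hx
    have hg1 : Supp w {x | (1 : ℤ) ≤ φ x} ((g : Matrix ι ι F) - 1) := by
      refine hg.mono fun x hx => ?_
      simp only [Set.mem_ofPred_eq] at hx ⊢
      omega
    have hm := (uniGroup w _ hadd1).mul_mem ((uniGroup w _ hadd1).inv_mem
        (mem_uniGroup_of_supp φ hS1 hg1)) ((uniGroup w _ hadd1).inv_mem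
        (mem_uniGroup_of_supp φ hS1 hh))
    have h4 : (↑(g⁻¹ * h⁻¹) : Matrix ι ι F) = (↑(g⁻¹ * h⁻¹) - 1) + 1 := by simp
    rw [h4]
    refine Supp.add ?_ (supp_one (by simp))
    refine hm.1.mono fun x hx => ?_
    simp only [Set.mem_ofPred_eq] at hx ⊢
    omega
  rw [e]
  refine Supp.mul (S := {x | ((k + 1 : ℕ) : ℤ) ≤ φ x}) ?_ hu fun x hx y hy => ?_
  · refine (hg.mul hh fun x hx y hy => ?_).sub (hh.mul hg fun x hx y hy => ?_) <;>
      · simp only [Set.mem_ofPred_eq, map_add] at hx hy ⊢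
        omega
  · simp only [Set.mem_ofPred_eq, map_add] at hx hy ⊢
    omega

end CfsgLib.ChevStr
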