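import Cfsg.Agent.Lib.ChevStr.Core

/-!
Subgroups generated by closed sets of root subgroups: ordered products, uniqueness and orders;
the subgroup `B = UH`.
-/

set_option autoImplicit false

namespace CfsgLib.ChevStr

open Cfsg.Lie
open scoped MatrixGroups

variable {D : ChevalleyDatum}

namespace RootData

variable (R : RootData D)

theorem chainRoot_spec {r s i k : ℕ} (hi : 1 ≤ i) (h : D.chainRoot r s i = some k) :
    k < D.nroots ∧ R.α k = (i : ℤ) • R.α r + R.α s := by
  unfold ChevalleyDatum.chainRoot at h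
  rw [Option.map_eq_some_iff] at h
  obtain ⟨q, hq, rfl⟩ := h
  unfold ChevalleyDatum.chainEntry at hq
  split at hq
  · simp at hq
  · next e he =>
    have hes : e.1 = s := by simpa using List.find?_some he
    have hmem := List.mem_of_find?_eq_some he
    have h1 := R.chain_snd r e hmem (q, i - 1) (by rw [List.mem_zipIdx_iff_getElem?]; exact hq)
    obtain ⟨h2, h3⟩ := h1
    refine ⟨h2, ?_⟩
    simp only at h3
    rw [h3, hes, Nat.sub_add_cancel hi]

/-- The terms of the commutator formula are positive combinations of the two roots. -/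
theorem commTerms_spec {r s : ℕ} {c : ℕ × ℤ × ℕ × ℕ} (h : c ∈ D.commTerms r s) :
    c.1 < D.nroots ∧ 0 < c.2.2.1 ∧ 0 < c.2.2.2 ∧
      R.α c.1 = (c.2.2.1 : ℤ) • R.α r + (c.2.2.2 : ℤ) • R.α s := by
  simp only [ChevalleyDatum.commTerms, List.mem_filterMap, List.mem_cons, List.not_mem_nil,
    or_false] at h
  obtain ⟨d, hd, hc⟩ := h
  rw [Option.map_eq_some_iff] at hc
  obtain ⟨k, hk, rfl⟩ := hc
  rcases hd with rfl | rfl | rfl | rfl | rfl | rfl | rfl
  · obtain ⟨h1, h2⟩ := R.chainRoot_spec le_rfl hk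
    exact ⟨h1, one_pos, one_pos, by rw [h2]; push_cast; module⟩
  · obtain ⟨h1, h2⟩ := R.chainRoot_spec (by norm_num) hk
    exact ⟨h1, two_pos, one_pos, by rw [h2]; push_cast; module⟩
  · obtain ⟨h1, h2⟩ := R.chainRoot_spec (by norm_num) hk
    exact ⟨h1, one_pos, two_pos, by rw [h2]; push_cast; module⟩
  · obtain ⟨h1, h2⟩ := R.chainRoot_spec (by norm_num) hk
    exact ⟨h1, three_pos, one_pos, by rw [h2]; push_cast; module⟩
  · obtain ⟨h1, h2⟩ := R.chainRoot_spec (by norm_num) hk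
    exact ⟨h1, one_pos, three_pos, by rw [h2]; push_cast; module⟩
  · simp only [Option.bind_eq_some_iff] at hk
    obtain ⟨m, hm, hk⟩ := hk
    obtain ⟨-, h1⟩ := R.chainRoot_spec (by norm_num) hm
    obtain ⟨h2, h3⟩ := R.chainRoot_spec le_rfl hk
    exact ⟨h2, three_pos, two_pos, by rw [h3, h1]; push_cast; module⟩
  · simp only [Option.bind_eq_some_iff] at hk
    obtain ⟨m, hm, hk⟩ := hk
    obtain ⟨-, h1⟩ := R.chainRoot_spec (by norm_num) hm
    obtain ⟨h2, h3⟩ := R.chainRoot_spec le_rfl hk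
    exact ⟨h2, two_pos, three_pos, by rw [h3, h1]; push_cast; module⟩

/-- `k` is a combination `a r + b s` of roots with positive integers `a`, `b`. -/
def IsCombo (r s k : ℕ) : Prop :=
  k < D.nroots ∧ ∃ a b : ℕ, 0 < a ∧ 0 < b ∧ R.α k = (a : ℤ) • R.α r + (b : ℤ) • R.α s

/-- A set of positive roots closed under combinations. -/
def IsClosed (S : Set ℕ) : Prop :=
  (∀ r ∈ S, D.IsPosRoot r) ∧ ∀ r ∈ S, ∀ s ∈ S, ∀ k, R.IsCombo r s k → k ∈ S

theorem combo_pos {r s k : ℕ} (hr : D.IsPosRoot r) (hs : D.IsPosRoot s) (h : R.IsCombo r s k) :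
    D.IsPosRoot k := by
  obtain ⟨hk, a, b, -, -, hab⟩ := h
  refine (R.isPos_iff k).2 ⟨hk, ?_⟩
  rw [hab]
  exact add_nonneg (smul_nonneg (by positivity) ((R.isPos_iff r).1 hr).2)
    (smul_nonneg (by positivity) ((R.isPos_iff s).1 hs).2)

/-- A combination of positive roots is above both. -/
theorem combo_lt {r s k : ℕ} (hr : D.IsPosRoot r) (hs : D.IsPosRoot s) (h : R.IsCombo r s k) :
    r < k ∧ s < k := by
  obtain ⟨hk, a, b, ha, hb, hab⟩ := h
  have h1 := R.one_le_key_of_pos hr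
  have h2 := R.one_le_key_of_pos hs
  have h3 := congrArg (keyHom D.rank) hab
  rw [map_add, map_zsmul, map_zsmul, smul_eq_mul, smul_eq_mul] at h3
  simp only [keyHom_apply] at h1 h2 h3
  have ha' : (1 : ℤ) ≤ a := by omega
  have hb' : (1 : ℤ) ≤ b := by omega
  have h4 := mul_le_mul_of_nonneg_right ha' (by omega : (0 : ℤ) ≤ vecKey (R.α r))
  have h5 := mul_le_mul_of_nonneg_right hb' (by omega : (0 : ℤ) ≤ vecKey (R.α s))
  exact ⟨(R.key_lt_iff hr.1 hk).1 (by omega), (R.key_lt_iff hs.1 hk).1 (by omega)⟩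

theorem isClosed_pos : R.IsClosed {r | D.IsPosRoot r} :=
  ⟨fun _ h => h, fun _ hr _ hs _ hk => R.combo_pos hr hs hk⟩

theorem isClosed_ne_simple (i : Fin D.rank) :
    R.IsClosed {r | D.IsPosRoot r ∧ r ≠ D.simple i.val} := by
  refine ⟨fun _ h => h.1, fun r hr s hs k hk => ⟨R.combo_pos hr.1 hs.1 hk, fun he => ?_⟩⟩
  obtain ⟨-, a, b, ha, hb, hab⟩ := hk
  have h1 := R.one_le_height_of_pos hr.1
  have h2 := R.one_le_height_of_pos hs.1
  have h3 := congrArg (heightHom D.rank) hab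
  rw [he, R.α_simple, map_add, map_zsmul, map_zsmul, smul_eq_mul, smul_eq_mul] at h3
  have h4 : heightHom D.rank (Pi.single i 1) = 1 := by simp [heightHom_apply]
  have ha' : (1 : ℤ) ≤ a := by omega
  have hb' : (1 : ℤ) ≤ b := by omega
  nlinarith

end RootData

namespace ChevCore

variable {F : Type*} [Field F] (C : ChevCore D F)

/-- The subgroup generated by the root subgroups of a set of roots. -/
def Ucl (S : Set ℕ) : Subgroup (GL D.Idx F) :=
  Subgroup.closure {g | ∃ r ∈ S, ∃ t, g = C.xGL r t}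

theorem xGL_mem_Ucl {S : Set ℕ} {r : ℕ} (hr : r ∈ S) (t : F) : C.xGL r t ∈ C.Ucl S :=
  Subgroup.subset_closure ⟨r, hr, t, rfl⟩

theorem Ucl_le {S : Set ℕ} {H : Subgroup (GL D.Idx F)} (h : ∀ r ∈ S, ∀ t, C.xGL r t ∈ H) :
    C.Ucl S ≤ H := by
  refine (Subgroup.closure_le _).2 ?_
  rintro g ⟨r, hr, t, rfl⟩
  exact h r hr t

theorem Ucl_mono {S T : Set ℕ} (h : S ⊆ T) : C.Ucl S ≤ C.Ucl T :=
  C.Ucl_le fun _ hr => C.xGL_mem_Ucl (h hr)

theorem posUnipotent_eq : D.posUnipotent F = C.Ucl {r | D.IsPosRoot r} :=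
  le_antisymm (C.posUnipotent_le fun _ t hr => C.xGL_mem_Ucl hr t)
    (C.Ucl_le fun _ hr t => C.xGL_mem_posUnipotent hr t)

theorem negUnipotent_eq : D.negUnipotent F = C.Ucl {r | D.IsNegRoot r} :=
  le_antisymm (C.negUnipotent_le fun _ t hr => C.xGL_mem_Ucl hr t)
    (C.Ucl_le fun _ hr t => C.xGL_mem_negUnipotent hr t)

/-- The commutator formula in the group. -/
theorem xGL_comm {r s : ℕ} (hr : r < D.nroots) (hs : s < D.nroots) (h1 : s ≠ r)
    (h2 : s ≠ D.neg r) (t u : F) :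
    C.xGL s u * C.xGL r t = C.xGL r t * C.xGL s u * C.wordGL (D.commWord F r s t u) :=
  Units.ext (by simpa using C.comm r hr s hs h1 h2 t u)

theorem commWord_mem {S : Set ℕ} {r s : ℕ} (h : ∀ k, C.R.IsCombo r s k → k ∈ S) (t u : F) :
    C.wordGL (D.commWord F r s t u) ∈ C.Ucl S := by
  refine Subgroup.list_prod_mem _ fun x hx => ?_
  simp only [List.mem_map, ChevalleyDatum.commWord] at hx
  obtain ⟨p, ⟨c, hc, rfl⟩, rfl⟩ := hx
  obtain ⟨hk, ha, hb, hab⟩ := C.R.commTerms_spec hc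
  exact C.xGL_mem_Ucl (h _ ⟨hk, _, _, ha, hb, hab⟩) _

theorem xGL_conj_mem {S : Set ℕ} {r : ℕ} (hr : r < D.nroots)
    (h : ∀ s ∈ S, s < D.nroots ∧ s ≠ D.neg r ∧ ∀ k, C.R.IsCombo r s k → k ∈ S) (t : F) :
    ∀ g ∈ C.Ucl S, (C.xGL r t)⁻¹ * g * C.xGL r t ∈ C.Ucl S := by
  intro g hg
  refine Subgroup.closure_induction
    (p := fun g _ => (C.xGL r t)⁻¹ * g * C.xGL r t ∈ C.Ucl S) ?_ ?_ ?_ ?_ hg
  · rintro _ ⟨s, hs, u, rfl⟩
    obtain ⟨hsn, hneg, hk⟩ := h s hs
    by_cases hsr : s = r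
    · subst hsr
      rw [mul_assoc, ← C.xGL_add, add_comm u t, C.xGL_add, inv_mul_cancel_left]
      exact C.xGL_mem_Ucl hs u
    · rw [mul_assoc, C.xGL_comm hr hsn hsr hneg, ← mul_assoc, ← mul_assoc, inv_mul_cancel,
        one_mul]
      exact mul_mem (C.xGL_mem_Ucl hs u) (C.commWord_mem hk t u)
  · simp
  · intro x y _ _ hx hy
    rw [show (C.xGL r t)⁻¹ * (x * y) * C.xGL r t =
      ((C.xGL r t)⁻¹ * x * C.xGL r t) * ((C.xGL r t)⁻¹ * y * C.xGL r t) by group]
    exact mul_mem hx hy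
  · intro x _ hx
    rw [show (C.xGL r t)⁻¹ * x⁻¹ * C.xGL r t = ((C.xGL r t)⁻¹ * x * C.xGL r t)⁻¹ by group]
    exact inv_mem hx

/-- A root subgroup normalises the subgroup of a set absorbing the combinations with it. -/
theorem xGL_mem_normalizer {S : Set ℕ} {r : ℕ} (hr : r < D.nroots)
    (h : ∀ s ∈ S, s < D.nroots ∧ s ≠ D.neg r ∧ ∀ k, C.R.IsCombo r s k → k ∈ S) (t : F) :
    C.xGL r t ∈ Subgroup.normalizer (C.Ucl S : Set (GL D.Idx F)) := by
  refine Subgroup.mem_normalizer_iff.2 fun g => ⟨fun hg => ?_, fun hg => ?_⟩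
  · simpa [C.xGL_inv] using C.xGL_conj_mem hr h (-t) g hg
  · simpa [mul_assoc] using C.xGL_conj_mem hr h t _ hg

theorem pos_normalizes {S : Set ℕ} {r : ℕ} (hr : D.IsPosRoot r) (hS : ∀ s ∈ S, D.IsPosRoot s)
    (h : ∀ s ∈ S, ∀ k, C.R.IsCombo r s k → k ∈ S) (t : F) :
    C.xGL r t ∈ Subgroup.normalizer (C.Ucl S : Set (GL D.Idx F)) :=
  C.xGL_mem_normalizer hr.1 (fun s hs => ⟨(hS s hs).1, fun e => C.R.not_pos_and_neg (hS s hs)
    (by rw [e, C.R.isNeg_neg_iff hr.1]; exact hr), h s hs⟩) t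

/-- Weights of key above a bound. -/
def keyAbove (_C : ChevCore D F) (m : ℤ) : Set (Fin D.rank → ℤ) :=
  {v | 1 ≤ keyHom _ v ∧ m < keyHom _ v}

theorem mem_keyAbove {m : ℤ} {v : Fin D.rank → ℤ} :
    v ∈ C.keyAbove m ↔ 1 ≤ keyHom _ v ∧ m < keyHom _ v := Iff.rfl

theorem keyAbove_add (m : ℤ) : ∀ x ∈ C.keyAbove m, ∀ y ∈ C.keyAbove m, x + y ∈ C.keyAbove m :=
  fun x hx y hy => by
    rw [mem_keyAbove, map_add] at *
    constructor <;> linarith [hx.1, hx.2, hy.1, hy.2]

theorem Ucl_le_keyAbove {S : Set ℕ} (hS : ∀ s ∈ S, D.IsPosRoot s) {m : ℤ}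
    (hm : ∀ s ∈ S, m < vecKey (C.R.α s)) :
    C.Ucl S ≤ uniGroup C.R.wt (C.keyAbove m) (C.keyAbove_add m) := by
  refine C.Ucl_le fun s hs t => mem_uniGroup_of_supp (keyHom _) (fun _ h => h.1) ?_
  rw [C.coe_xGL]
  refine C.R.supp_x_sub_one s t fun _ k hk => (C.mem_keyAbove).2 ?_
  have h1 := C.R.one_le_key_of_pos (hS s hs)
  have h2 := hm s hs
  have hk' : (1 : ℤ) ≤ k := by omega
  rw [map_zsmul, smul_eq_mul]
  simp only [keyHom_apply] at h1 ⊢
  constructor <;> nlinarith

/-- Reading off the coefficient of the lowest root. -/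
theorem entry_mul {r : ℕ} (hr : D.IsPosRoot r) (t : F) {g : GL D.Idx F}
    (hg : g ∈ uniGroup C.R.wt (C.keyAbove (vecKey (C.R.α r))) (C.keyAbove_add _)) (i : Fin D.rank) :
    (↑(C.xGL r t * g) : Matrix D.Idx D.Idx F) (Sum.inl i) (Sum.inr ⟨D.neg r, C.R.neg_lt r hr.1⟩) =
      (((D.coroot.getD r #[]).getD i.val 0 : ℤ) : F) * t := by
  set b : D.Idx := Sum.inr ⟨D.neg r, C.R.neg_lt r hr.1⟩ with hb
  have hwb : C.R.wt (Sum.inl i) - C.R.wt b = C.R.α r := by
    rw [C.R.wt_inl, hb, C.R.wt_inr, zero_sub, C.R.α_neg r hr.1, neg_neg]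
  have hout : ∀ v, v ∈ C.keyAbove (vecKey (C.R.α r)) → v ≠ C.R.α r := fun v hv e => by
    rw [mem_keyAbove, e, keyHom_apply] at hv; exact lt_irrefl _ hv.2
  rw [Units.val_mul, Matrix.mul_apply, Fintype.sum_eq_single b, C.coe_xGL, hb,
    C.R.x_apply_coroot hr.1, uniGroup_apply_self ?_ hg, mul_one]
  · intro h0; rw [mem_keyAbove, map_zero] at h0; omega
  · intro c hc
    by_contra hne
    obtain ⟨h1, h2⟩ := mul_ne_zero_iff.1 hne
    have hcb : C.R.wt c - C.R.wt b ∈ C.keyAbove (vecKey (C.R.α r)) := by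
      by_contra hn; exact h2 (uniGroup_apply_eq_zero hg hc hn)
    by_cases hca : Sum.inl i = c
    · subst hca; exact hout _ hcb hwb
    · obtain ⟨-, k, hk, hw⟩ := C.R.x_apply_ne_zero hca (by simpa using h1)
      have h3 := congrArg (keyHom D.rank) hwb
      have h4 := congrArg (keyHom D.rank) hw
      have h5 := C.R.one_le_key_of_pos hr
      rw [mem_keyAbove, map_sub] at hcb
      rw [map_sub] at h3 h4
      rw [map_zsmul, smul_eq_mul] at h4
      have hk' : (1 : ℤ) ≤ k := by omega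
      simp only [keyHom_apply] at h3 h4 h5 hcb
      nlinarith

/-- Coordinates of the ordered products over a list of roots. -/
def word (L : List ℕ) (t : ℕ → F) : GL D.Idx F := C.wordGL (L.map fun r => (r, t r))

theorem word_nil (t : ℕ → F) : C.word [] t = 1 := rfl

theorem word_cons (k : ℕ) (L : List ℕ) (t : ℕ → F) :
    C.word (k :: L) t = C.xGL k (t k) * C.word L t := C.wordGL_cons _ _

theorem coe_word (L : List ℕ) (t : ℕ → F) :
    (C.word L t : Matrix D.Idx D.Idx F) = D.wordMat F (L.map fun r => (r, t r)) := C.coe_wordGL _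

theorem word_congr {L : List ℕ} {t u : ℕ → F} (h : ∀ r ∈ L, t r = u r) : C.word L t = C.word L u := by
  unfold word
  rw [List.map_congr_left (fun r hr => by rw [h r hr])]

theorem word_mem (L : List ℕ) (t : ℕ → F) : C.word L t ∈ C.Ucl {r | r ∈ L} := by
  refine Subgroup.list_prod_mem _ fun x hx => ?_
  simp only [List.map_map, List.mem_map, Function.comp] at hx
  obtain ⟨r, hr, rfl⟩ := hx
  exact C.xGL_mem_Ucl hr _

theorem closed_tail {k : ℕ} {L : List ℕ} (hL : (k :: L).Pairwise (· < ·))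
    (h : C.R.IsClosed {r | r ∈ k :: L}) :
    C.R.IsClosed {r | r ∈ L} ∧ ∀ s ∈ L, ∀ m, C.R.IsCombo k s m → m ∈ L := by
  obtain ⟨hk, -⟩ := List.pairwise_cons.1 hL
  have key : ∀ r ∈ k :: L, ∀ s ∈ L, ∀ m, C.R.IsCombo r s m → m ∈ L := by
    intro r hr s hs m hm
    have h1 := (C.R.combo_lt (h.1 r hr) (h.1 s (List.mem_cons_of_mem _ hs)) hm).2
    rcases List.mem_cons.1 (h.2 r hr s (List.mem_cons_of_mem _ hs) m hm) with rfl | h2
    · have := hk s hs; omega
    · exact h2
  exact ⟨⟨fun r hr => h.1 r (List.mem_cons_of_mem _ hr),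
    fun r hr s hs m hm => key r (List.mem_cons_of_mem _ hr) s hs m hm⟩, key k (List.mem_cons_self ..)⟩

/-- Ordered products exhaust the subgroup of a closed set. -/
theorem exists_word : ∀ {L : List ℕ}, L.Pairwise (· < ·) → C.R.IsClosed {r | r ∈ L} →
    ∀ g ∈ C.Ucl {r | r ∈ L}, ∃ t : ℕ → F, g = C.word L t := by
  intro L
  induction L with
  | nil =>
    intro _ _ g hg
    refine ⟨fun _ => 0, ?_⟩
    have : C.Ucl {r | r ∈ ([] : List ℕ)} ≤ ⊥ := C.Ucl_le fun r hr => absurd hr List.not_mem_nil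
    simpa [C.word_nil] using this hg
  | cons k L ih =>
    intro hp hc g hg
    obtain ⟨hk, hpL⟩ := List.pairwise_cons.1 hp
    obtain ⟨hcL, hkL⟩ := C.closed_tail hp hc
    have hkp := hc.1 k (List.mem_cons_self ..)
    have hn : D.rootSubgroup F k ≤ Subgroup.normalizer (C.Ucl {r | r ∈ L} : Set (GL D.Idx F)) := by
      intro x hx
      obtain ⟨t, rfl⟩ := C.mem_rootSubgroup.1 hx
      exact C.pos_normalizes hkp hcL.1 hkL t
    have hle : C.Ucl {r | r ∈ k :: L} ≤ D.rootSubgroup F k ⊔ C.Ucl {r | r ∈ L} := by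
      refine C.Ucl_le fun r hr t => ?_
      rcases List.mem_cons.1 hr with rfl | hr
      · exact le_sup_left (b := C.Ucl _) (C.mem_rootSubgroup.2 ⟨t, rfl⟩)
      · exact le_sup_right (a := D.rootSubgroup F k) (C.xGL_mem_Ucl hr t)
    obtain ⟨x, hx, y, hy, rfl⟩ := (Set.ext_iff.1
      (Subgroup.coe_mul_of_left_le_normalizer_right _ _ hn) g).1 (hle hg)
    obtain ⟨t0, rfl⟩ := C.mem_rootSubgroup.1 hx
    obtain ⟨t, rfl⟩ := ih hpL hcL y hy
    refine ⟨Function.update t k t0, ?_⟩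
    rw [C.word_cons, Function.update_self]
    show C.xGL k t0 * _ = _
    congr 1
    exact C.word_congr fun r hr => (Function.update_of_ne (fun e : r = k => by
      have := hk r hr; omega) _ _).symm

/-- The ordered product determines its coordinates. -/
theorem word_injective : ∀ {L : List ℕ}, L.Pairwise (· < ·) → (∀ r ∈ L, D.IsPosRoot r) →
    ∀ t u : ℕ → F, C.word L t = C.word L u → ∀ r ∈ L, t r = u r := by
  intro L
  induction L with
  | nil => simp
  | cons k L ih =>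
    intro hp hc t u h r hr
    obtain ⟨hk, hpL⟩ := List.pairwise_cons.1 hp
    have hkp := hc k (List.mem_cons_self ..)
    rw [C.word_cons, C.word_cons] at h
    have hmem : ∀ v : ℕ → F,
        C.word L v ∈ uniGroup C.R.wt (C.keyAbove (vecKey (C.R.α k))) (C.keyAbove_add _) := fun v =>
      C.Ucl_le_keyAbove (fun s hs => hc s (List.mem_cons_of_mem _ hs))
        (fun s hs => C.R.key_lt (hk s hs) (hc s (List.mem_cons_of_mem _ hs)).1) (C.word_mem L v)
    have hkk : t k = u k := by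
      obtain ⟨i, hi⟩ := C.exists_coroot_ne_zero hkp.1
      have h1 := C.entry_mul hkp (t k) (hmem t) i
      rw [h, C.entry_mul hkp (u k) (hmem u) i] at h1
      exact (mul_left_cancel₀ hi h1).symm
    rw [hkk, mul_right_inj] at h
    rcases List.mem_cons.1 hr with rfl | hr
    · exact hkk
    · exact ih hpL (fun s hs => hc s (List.mem_cons_of_mem _ hs)) t u h r hr

theorem card_Ucl_list [Fintype F] : ∀ {L : List ℕ}, L.Pairwise (· < ·) →
    C.R.IsClosed {r | r ∈ L} → Nat.card (C.Ucl {r | r ∈ L}) = Fintype.card F ^ L.length := by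
  intro L hp hc
  classical
  let ext : (Fin L.length → F) → ℕ → F := fun v r =>
    if h : r ∈ L then v ⟨L.idxOf r, List.idxOf_lt_length_of_mem h⟩ else 0
  let f : (Fin L.length → F) → C.Ucl {r | r ∈ L} := fun v => ⟨C.word L (ext v), C.word_mem L _⟩
  have hnd : L.Nodup := hp.imp ne_of_lt
  have hext : ∀ v (j : Fin L.length), ext v L[j.val] = v j := fun v j => by
    simp only [ext, List.getElem_mem, dif_pos]
    congr 1
    exact Fin.ext (hnd.idxOf_getElem j.val j.isLt)
  have hf : Function.Bijective f := by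
    refine ⟨fun v v' h => funext fun j => ?_, fun g => ?_⟩
    · rw [← hext v j, ← hext v' j]
      exact C.word_injective hp hc.1 _ _ (congrArg Subtype.val h) _ (List.getElem_mem _)
    · obtain ⟨t, ht⟩ := C.exists_word hp hc g g.2
      refine ⟨fun j => t L[j.val], Subtype.ext ?_⟩
      rw [ht]
      refine C.word_congr fun r hr => ?_
      simp [ext, hr]
  rw [← Nat.card_eq_of_bijective f hf]
  simp

theorem sorted_filter (p : ℕ → Bool) : ((List.range D.nroots).filter p).Pairwise (· < ·) :=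
  List.pairwise_lt_range.filter _

/-- The increasing list of a set of roots. -/
def rootList (_C : ChevCore D F) (S : Set ℕ) [DecidablePred (· ∈ S)] : List ℕ :=
  (List.range D.nroots).filter fun r => decide (r ∈ S)

theorem setOf_mem_rootList {S : Set ℕ} [DecidablePred (· ∈ S)] (h : ∀ r ∈ S, r < D.nroots) :
    {r | r ∈ C.rootList S} = S := by
  ext r
  simp only [rootList, Set.mem_ofPred_eq, List.mem_filter, List.mem_range, decide_eq_true_eq]
  exact ⟨fun hr => hr.2, fun hr => ⟨h r hr, hr⟩⟩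

theorem card_Ucl [Fintype F] {S : Set ℕ} (hS : C.R.IsClosed S) :
    Nat.card (C.Ucl S) = Fintype.card F ^ S.ncard := by
  classical
  have hset := C.setOf_mem_rootList (S := S) fun r hr => (hS.1 r hr).1
  have h1 := C.card_Ucl_list (L := C.rootList S) (sorted_filter _) (by rwa [hset])
  rw [hset] at h1
  rw [h1]
  congr 1
  have hc : S.ncard = (C.rootList S).toFinset.card := by
    rw [← Set.ncard_coe_finset]
    congr 1
    rw [List.coe_toFinset]
    exact hset.symm
  have hnd : (C.rootList S).Nodup := (sorted_filter _).imp ne_of_lt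
  rw [hc, List.toFinset_card_of_nodup hnd]

/-- Subgroups of closed sets meet in the subgroup of the intersection. -/
theorem Ucl_inf {S T : Set ℕ} (hS : C.R.IsClosed S) (hT : C.R.IsClosed T) {g : GL D.Idx F}
    (hgS : g ∈ C.Ucl S) (hgT : g ∈ C.Ucl T) : g ∈ C.Ucl (S ∩ T) := by
  classical
  set P : Set ℕ := {r | D.IsPosRoot r} with hP
  have key : ∀ {A : Set ℕ}, C.R.IsClosed A → g ∈ C.Ucl A →
      ∃ t : ℕ → F, (∀ r, r ∉ A → t r = 0) ∧ g = C.word (C.rootList P) t := by
    intro A hA hg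
    have hset := C.setOf_mem_rootList (S := A) fun r hr => (hA.1 r hr).1
    obtain ⟨t, ht⟩ := C.exists_word (L := C.rootList A) (sorted_filter _) (by rwa [hset])
      g (by rwa [hset])
    refine ⟨fun r => if r ∈ A then t r else 0, fun r hr => if_neg hr, ?_⟩
    rw [ht]
    have : ∀ l : List ℕ, (∀ r ∈ l, r ∈ A → r ∈ P) →
        C.word (l.filter fun r => decide (r ∈ A)) t =
          C.word (l.filter fun r => decide (r ∈ P)) fun r => if r ∈ A then t r else 0 := by
      intro l hl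
      induction l with
      | nil => rfl
      | cons a l ih =>
        have ih' := ih fun r hr => hl r (List.mem_cons_of_mem _ hr)
        by_cases haA : a ∈ A
        · have haP := hl a (List.mem_cons_self ..) haA
          simp [haA, haP, C.word_cons, ih']
        · by_cases haP : a ∈ P
          · simp [haA, haP, C.word_cons, ih', C.xGL_zero]
          · simp [haA, haP, ih']
    exact this _ fun r _ hr => hA.1 r hr
  obtain ⟨t, ht0, ht⟩ := key hS hgS
  obtain ⟨u, hu0, hu⟩ := key hT hgT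
  rw [ht]
  refine Subgroup.list_prod_mem _ fun x hx => ?_
  simp only [List.map_map, List.mem_map, Function.comp] at hx
  obtain ⟨r, hr, rfl⟩ := hx
  have htu := C.word_injective (L := C.rootList P) (sorted_filter _)
    (fun r hr => by simpa [rootList, hP] using (List.mem_filter.1 hr).2) t u (ht.symm.trans hu) r hr
  by_cases hr2 : r ∈ S ∩ T
  · exact C.xGL_mem_Ucl hr2 _
  · have : t r = 0 := by
      rcases not_and_or.1 hr2 with h | h
      · exact ht0 r h
      · rw [htu]; exact hu0 r h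
    rw [this, C.xGL_zero]
    exact one_mem _

/-! ### The subgroup `B` -/

theorem torus_normalizes (S : Set ℕ) :
    (C.R.torus (F := F)).range ≤ Subgroup.normalizer (C.Ucl S : Set (GL D.Idx F)) := by
  have key : ∀ c : Fin D.rank → Fˣ, ∀ g ∈ C.Ucl S,
      C.R.torus c * g * (C.R.torus c)⁻¹ ∈ C.Ucl S := by
    intro c g hg
    have hmap : C.Ucl S ≤ (C.Ucl S).comap (MulAut.conj (C.R.torus c)).toMonoidHom := by
      refine C.Ucl_le fun r hr t => ?_
      show C.R.torus c * C.xGL r t * (C.R.torus c)⁻¹ ∈ C.Ucl S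
      by_cases hrn : r < D.nroots
      · rw [C.acts_torus c ⟨r, hrn⟩ t]; exact C.xGL_mem_Ucl hr _
      · rw [C.xGL_of_le (not_lt.1 hrn), mul_one, mul_inv_cancel]; exact one_mem _
    exact hmap hg
  rintro _ ⟨c, rfl⟩
  refine Subgroup.mem_normalizer_iff.2 fun g => ⟨key c g, fun hg => ?_⟩
  simpa [map_inv, mul_assoc] using key c⁻¹ _ hg

include C in
theorem diagonal_normalizes_pos :
    D.diagonalSubgroup F ≤ Subgroup.normalizer (D.posUnipotent F : Set (GL D.Idx F)) := by
  rw [C.diagonalSubgroup_eq, C.posUnipotent_eq]; exact C.torus_normalizes _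

include C in
theorem diagonal_normalizes_neg :
    D.diagonalSubgroup F ≤ Subgroup.normalizer (D.negUnipotent F : Set (GL D.Idx F)) := by
  rw [C.diagonalSubgroup_eq, C.negUnipotent_eq]; exact C.torus_normalizes _

theorem mem_borel {g : GL D.Idx F} :
    g ∈ D.borelSubgroup F ↔ ∃ u ∈ D.posUnipotent F, ∃ c, g = u * C.R.torus c := by
  have h := Subgroup.coe_mul_of_right_le_normalizer_left _ _ C.diagonal_normalizes_pos
  rw [ChevalleyDatum.borelSubgroup, ← SetLike.mem_coe, h]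
  constructor
  · rintro ⟨u, hu, d, hd, rfl⟩
    rw [SetLike.mem_coe, C.diagonalSubgroup_eq] at hd
    obtain ⟨c, rfl⟩ := hd
    exact ⟨u, hu, c, rfl⟩
  · rintro ⟨u, hu, c, rfl⟩
    exact ⟨u, hu, _, by rw [SetLike.mem_coe, C.diagonalSubgroup_eq]; exact ⟨c, rfl⟩, rfl⟩

theorem apply_torus_of_ne (c : Fin D.rank → Fˣ) {a b : D.Idx} (h : a ≠ b) :
    (C.R.torus c : Matrix D.Idx D.Idx F) a b = 0 := by
  rw [C.R.coe_torus]; exact Matrix.diagonal_apply_ne _ h

theorem torus_mem_uniGroup_eq_one {S : Set (Fin D.rank → ℤ)}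
    {hadd : ∀ x ∈ S, ∀ y ∈ S, x + y ∈ S} (h0 : (0 : Fin D.rank → ℤ) ∉ S) {c : Fin D.rank → Fˣ}
    (h : C.R.torus c ∈ uniGroup C.R.wt S hadd) : C.R.torus c = 1 := by
  refine Units.ext ?_
  ext a b
  by_cases hab : a = b
  · subst hab; rw [uniGroup_apply_self h0 h, Units.val_one, Matrix.one_apply_eq]
  · rw [C.apply_torus_of_ne c hab, Units.val_one, Matrix.one_apply_ne hab]

include C in
theorem posUnipotent_inf_diagonal : D.posUnipotent F ⊓ D.diagonalSubgroup F = ⊥ := by
  refine (Subgroup.eq_bot_iff_forall _).2 fun g ⟨hu, hd⟩ => ?_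
  rw [SetLike.mem_coe, C.diagonalSubgroup_eq] at hd
  obtain ⟨c, rfl⟩ := hd
  exact C.torus_mem_uniGroup_eq_one (by simp [C.R.mem_posSet]) (C.R.posUnipotent_le_upperUni F hu)

/-- Entries of elements of `B` outside the upper triangle vanish. -/
theorem borel_apply_eq_zero {g : GL D.Idx F} (hg : g ∈ D.borelSubgroup F) {a b : D.Idx}
    (hab : a ≠ b) (h : C.R.wt a - C.R.wt b ∉ C.R.posSet) :
    (g : Matrix D.Idx D.Idx F) a b = 0 := by
  obtain ⟨u, hu, c, rfl⟩ := C.mem_borel.1 hg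
  rw [Units.val_mul, C.R.coe_torus, Matrix.mul_diagonal,
    uniGroup_apply_eq_zero (C.R.posUnipotent_le_upperUni F hu) hab h, zero_mul]

include C in
theorem borel_inf_negUnipotent : D.borelSubgroup F ⊓ D.negUnipotent F = ⊥ := by
  refine (Subgroup.eq_bot_iff_forall _).2 fun g ⟨hb, hv⟩ => ?_
  have hv' := C.R.negUnipotent_le_lowerUni F hv
  refine Units.ext ?_
  ext a b
  rw [Units.val_one]
  by_cases hab : a = b
  · subst hab; rw [uniGroup_apply_self (by simp [C.R.mem_negSet]) hv', Matrix.one_apply_eq]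
  · rw [Matrix.one_apply_ne hab]
    by_cases h : C.R.wt a - C.R.wt b ∈ C.R.negSet
    · exact C.borel_apply_eq_zero hb hab fun hp => Set.disjoint_left.1 C.R.disjoint_pos_neg hp h
    · exact uniGroup_apply_eq_zero hv' hab h

include C in
theorem borel_inf_negUnipotent_sup :
    D.borelSubgroup F ⊓ (D.negUnipotent F ⊔ D.diagonalSubgroup F) = D.diagonalSubgroup F := by
  refine le_antisymm (fun g hg => ?_) (le_inf le_sup_right le_sup_right)
  obtain ⟨hb, hv⟩ := Subgroup.mem_inf.1 hg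
  rw [← SetLike.mem_coe,
    Subgroup.coe_mul_of_right_le_normalizer_left _ _ C.diagonal_normalizes_neg] at hv
  obtain ⟨v, hv, d, hd, rfl⟩ := hv
  have hd' : d ∈ D.borelSubgroup F := le_sup_right (a := D.posUnipotent F) hd
  have hvb : v ∈ D.borelSubgroup F := by
    simpa using mul_mem hb (inv_mem hd')
  rw [show v = 1 from (Subgroup.eq_bot_iff_forall _).1 C.borel_inf_negUnipotent v
    (Subgroup.mem_inf.2 ⟨hvb, hv⟩)]
  simpa using hd

end ChevCore

end CfsgLib.ChevStr
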