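import Cfsg.Agent.Lib.ChevStr.RootData
import Cfsg.Agent.Lib.ChevStr.Support

/-!
Weights of the coordinates of a Chevalley datum, the support of root elements, and triangularity
of the subgroups `U` and `V`.
-/

set_option autoImplicit false

namespace CfsgLib.ChevStr

open Cfsg.Lie
open scoped MatrixGroups

/-- Sum of the coordinates, as a homomorphism. -/
def heightHom (l : ℕ) : (Fin l → ℤ) →+ ℤ where
  toFun v := ∑ i, v i
  map_zero' := by simp
  map_add' v w := by simp [Finset.sum_add_distrib]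

/-- `vecKey` as a homomorphism. -/
def keyHom (l : ℕ) : (Fin l → ℤ) →+ ℤ where
  toFun v := vecKey v
  map_zero' := by simp [vecKey]
  map_add' v w := by simp [vecKey, Finset.sum_add_distrib, add_mul]

theorem heightHom_apply {l : ℕ} (v : Fin l → ℤ) : heightHom l v = ∑ i, v i := rfl
theorem keyHom_apply {l : ℕ} (v : Fin l → ℤ) : keyHom l v = vecKey v := rfl

theorem one_le_height {l : ℕ} {v : Fin l → ℤ} (h : 0 ≤ v) (h0 : v ≠ 0) : 1 ≤ heightHom l v := by
  obtain ⟨i, hi⟩ := Function.ne_iff.1 h0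
  rw [heightHom_apply]
  have h1 := Finset.single_le_sum (f := v) (fun j _ => h j) (Finset.mem_univ i)
  have h2 : 0 ≤ v i := h i
  have hi' : v i ≠ 0 := hi
  omega

theorem one_le_key {l : ℕ} {v : Fin l → ℤ} (h : 0 ≤ v) (h0 : v ≠ 0) : 1 ≤ keyHom l v := by
  obtain ⟨i, hi⟩ := Function.ne_iff.1 h0
  rw [keyHom_apply, vecKey]
  have h1 := Finset.single_le_sum (f := fun j => v j * 64 ^ (l - 1 - j.val))
    (fun j _ => mul_nonneg (h j) (by positivity)) (Finset.mem_univ i)
  have h2 : 0 ≤ v i := h i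
  have hi' : v i ≠ 0 := hi
  have h3 : (1 : ℤ) ≤ v i := by omega
  have h4 : (1 : ℤ) ≤ 64 ^ (l - 1 - i.val) := one_le_pow₀ (by norm_num)
  have h5 := mul_le_mul h3 h4 zero_le_one h2
  linarith

variable {D : ChevalleyDatum}

theorem mem_chainCoeff {r s u : ℕ} {km : ℕ × ℤ} (h : km ∈ D.chainCoeff r s u) :
    ∃ e ∈ (D.chain.getD r #[]).toList, e.1 = s ∧
      ∃ q ∈ e.2.toList.zipIdx, q.1.1 = u ∧ km = (q.2 + 1, q.1.2) := by
  simp only [ChevalleyDatum.chainCoeff, List.mem_flatMap, List.mem_filter, List.mem_map,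
    decide_eq_true_eq] at h
  obtain ⟨e, ⟨he, hes⟩, q, ⟨hq, hqu⟩, rfl⟩ := h
  exact ⟨e, he, hes, q, hq, hqu, rfl⟩

namespace RootData

variable (R : RootData D)

/-- The weight of a coordinate: `0` on the `h` part and the root itself on the root part. -/
def wt : D.Idx → Fin D.rank → ℤ := Sum.elim (fun _ => 0) (fun s => R.α s)

@[simp] theorem wt_inl (i : Fin D.rank) : R.wt (Sum.inl i) = 0 := rfl
@[simp] theorem wt_inr (s : Fin D.nroots) : R.wt (Sum.inr s) = R.α s := rfl

theorem key_lt {r s : ℕ} (h : r < s) (hs : s < D.nroots) : vecKey (R.α r) < vecKey (R.α s) := by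
  induction s with
  | zero => omega
  | succ s ih =>
    rcases Nat.lt_succ_iff_lt_or_eq.1 h with h' | h'
    · exact (ih h' (by omega)).trans (R.key_succ s hs)
    · subst h'; exact R.key_succ r hs

theorem key_le_iff {r s : ℕ} (hr : r < D.nroots) (hs : s < D.nroots) :
    vecKey (R.α r) ≤ vecKey (R.α s) ↔ r ≤ s := by
  constructor
  · intro h
    by_contra hc
    exact absurd (R.key_lt (Nat.lt_of_not_le hc) hr) (not_lt.2 h)
  · intro h
    rcases h.lt_or_eq with h | h
    · exact (R.key_lt h hs).le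
    · rw [h]

theorem key_lt_iff {r s : ℕ} (hr : r < D.nroots) (hs : s < D.nroots) :
    vecKey (R.α r) < vecKey (R.α s) ↔ r < s := by
  rw [lt_iff_not_ge, R.key_le_iff hs hr, not_le]

theorem α_inj {r s : ℕ} (hr : r < D.nroots) (hs : s < D.nroots) (h : R.α r = R.α s) : r = s :=
  le_antisymm ((R.key_le_iff hr hs).1 (le_of_eq (by rw [h])))
    ((R.key_le_iff hs hr).1 (le_of_eq (by rw [h])))

theorem α_ne_zero {r : ℕ} (hr : r < D.nroots) : R.α r ≠ 0 := fun h0 =>
  R.neg_ne r hr (R.α_inj (R.neg_lt r hr) hr (by rw [R.α_neg r hr, h0, neg_zero]))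

include R in
theorem pos_or_neg {r : ℕ} (hr : r < D.nroots) : D.IsPosRoot r ∨ D.IsNegRoot r :=
  (R.sign r hr).imp (fun h => (R.isPos_iff r).2 ⟨hr, h⟩) (fun h => (R.isNeg_iff r).2 ⟨hr, h⟩)

include R in
theorem not_pos_and_neg {r : ℕ} (h1 : D.IsPosRoot r) (h2 : D.IsNegRoot r) : False :=
  R.α_ne_zero h1.1 (le_antisymm ((R.isNeg_iff r).1 h2).2 ((R.isPos_iff r).1 h1).2)

include R in
theorem isNeg_neg_iff {r : ℕ} (hr : r < D.nroots) : D.IsNegRoot (D.neg r) ↔ D.IsPosRoot r := by
  rw [R.isNeg_iff, R.isPos_iff, R.α_neg r hr, neg_nonpos]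
  simp [hr, R.neg_lt r hr]

include R in
theorem isPos_neg_iff {r : ℕ} (hr : r < D.nroots) : D.IsPosRoot (D.neg r) ↔ D.IsNegRoot r := by
  rw [R.isNeg_iff, R.isPos_iff, R.α_neg r hr, neg_nonneg]
  simp [hr, R.neg_lt r hr]

include R in
theorem simple_pos (i : Fin D.rank) : D.IsPosRoot (D.simple i.val) :=
  (R.isPos_iff _).2 ⟨R.simple_lt i, by rw [R.α_simple i]; intro j; rw [Pi.single_apply]; split <;> simp⟩

theorem one_le_height_of_pos {r : ℕ} (h : D.IsPosRoot r) : 1 ≤ heightHom _ (R.α r) :=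
  one_le_height ((R.isPos_iff r).1 h).2 (R.α_ne_zero h.1)

theorem one_le_key_of_pos {r : ℕ} (h : D.IsPosRoot r) : 1 ≤ keyHom _ (R.α r) :=
  one_le_key ((R.isPos_iff r).1 h).2 (R.α_ne_zero h.1)

theorem height_le_neg_one_of_neg {r : ℕ} (h : D.IsNegRoot r) :
    heightHom _ (R.α r) ≤ -1 := by
  have h1 := R.one_le_height_of_pos ((R.isPos_neg_iff h.1).2 h)
  rw [R.α_neg r h.1, map_neg] at h1
  linarith

section entries

variable {F : Type*} [Field F]

theorem wt_chainCoeff {r s u : ℕ} {km : ℕ × ℤ} (h : km ∈ D.chainCoeff r s u) :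
    0 < km.1 ∧ u < D.nroots ∧ R.α u = (km.1 : ℤ) • R.α r + R.α s := by
  obtain ⟨e, he, hes, q, hq, hqu, rfl⟩ := mem_chainCoeff h
  obtain ⟨h1, h2⟩ := R.chain_snd r e he q hq
  subst hes; subst hqu
  exact ⟨Nat.succ_pos _, h1, h2⟩

include R in
theorem chainCoeff_self {r : ℕ} (hr : r < D.nroots) (s : ℕ) : D.chainCoeff r s s = [] := by
  refine List.eq_nil_iff_forall_not_mem.2 fun km hkm => ?_
  obtain ⟨h1, -, h2⟩ := R.wt_chainCoeff hkm
  have h3 : (km.1 : ℤ) • R.α r = 0 := by
    have := congrArg (fun v => v - R.α s) h2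
    simpa using this.symm
  rcases smul_eq_zero.1 h3 with h | h
  · omega
  · exact R.α_ne_zero hr h

/-- Off the diagonal, `x_r(t)` only has entries of weight a positive multiple of `r`. -/
theorem x_apply_ne_zero {r : ℕ} {t : F} {a b : D.Idx} (hab : a ≠ b) (h : D.x F r t a b ≠ 0) :
    r < D.nroots ∧ ∃ k : ℕ, 0 < k ∧ R.wt a - R.wt b = (k : ℤ) • R.α r := by
  unfold ChevalleyDatum.x at h
  split_ifs at h with hr
  swap
  · exact absurd (Matrix.one_apply_ne hab) h
  refine ⟨hr, ?_⟩
  rcases b with j | s <;> rcases a with i | u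
  · have : i ≠ j := fun e => hab (by rw [e])
    simp [ChevalleyDatum.xMat, this] at h
  · simp only [ChevalleyDatum.xMat, Matrix.of_apply] at h
    split_ifs at h with hu
    · subst hu
      exact ⟨1, one_pos, by simp⟩
    · exact absurd rfl h
  · simp only [ChevalleyDatum.xMat, Matrix.of_apply] at h
    split_ifs at h with h1 h2
    · exact absurd rfl h
    · refine ⟨1, one_pos, ?_⟩
      have hs : R.α s.val = -R.α r := by rw [h2]; exact R.α_neg r hr
      simp [hs]
    · exact absurd rfl h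
  · have hus : u ≠ s := fun e => hab (by rw [e])
    simp only [ChevalleyDatum.xMat, Matrix.of_apply] at h
    split_ifs at h with h1 hu h2 hu'
    · exact absurd (hu.trans h1.symm) hus
    · exact absurd rfl h
    · refine ⟨2, two_pos, ?_⟩
      have hs : R.α s.val = -R.α r := by rw [h2]; exact R.α_neg r hr
      subst hu'
      rw [R.wt_inr, R.wt_inr, hs]
      push_cast
      rw [two_smul, sub_neg_eq_add]
    · exact absurd rfl h
    · have hne : D.chainCoeff r s.val u.val ≠ [] := by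
        intro e; simp [e] at h
      obtain ⟨km, hkm⟩ := List.exists_mem_of_ne_nil _ hne
      obtain ⟨h1, -, h3⟩ := R.wt_chainCoeff hkm
      exact ⟨km.1, h1, by rw [R.wt_inr, R.wt_inr, h3, add_sub_cancel_right]⟩

include R in
theorem x_apply_self (r : ℕ) (t : F) (a : D.Idx) : D.x F r t a a = 1 := by
  unfold ChevalleyDatum.x
  split_ifs with hr
  swap
  · exact Matrix.one_apply_eq a
  rcases a with i | s
  · simp [ChevalleyDatum.xMat]
  · simp only [ChevalleyDatum.xMat, Matrix.of_apply, if_true]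
    split_ifs <;> simp_all [R.chainCoeff_self hr]

/-- The support of `x_r(t) - 1` is in any set containing the positive multiples of `r`. -/
theorem supp_x_sub_one {S : Set (Fin D.rank → ℤ)} (r : ℕ) (t : F)
    (hS : r < D.nroots → ∀ k : ℕ, 0 < k → (k : ℤ) • R.α r ∈ S) :
    Supp R.wt S (D.x F r t - 1) := by
  intro a b h
  by_cases hab : a = b
  · subst hab; simp [R.x_apply_self] at h
  · rw [Matrix.sub_apply, Matrix.one_apply_ne hab, sub_zero] at h
    obtain ⟨hr, k, hk, hw⟩ := R.x_apply_ne_zero hab h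
    rw [hw]; exact hS hr k hk

/-- The entry of `x_r(t)` in row `h_i` and column `e_{-r}` is `c_i(r) t`. -/
theorem x_apply_coroot {r : ℕ} (hr : r < D.nroots) (t : F) (i : Fin D.rank) :
    D.x F r t (Sum.inl i) (Sum.inr ⟨D.neg r, R.neg_lt r hr⟩) =
      (((D.coroot.getD r #[]).getD i.val 0 : ℤ) : F) * t := by
  have h1 : (⟨D.neg r, R.neg_lt r hr⟩ : Fin D.nroots) ≠ ⟨r, hr⟩ :=
    fun e => R.neg_ne r hr (congrArg Fin.val e)
  have h2 : D.neg r = D.negIdx.getD r 0 := rfl
  simp [ChevalleyDatum.x, hr, ChevalleyDatum.xMat, h1, ← h2]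

end entries

/-- Weights of positive height. -/
def posSet (_R : RootData D) : Set (Fin D.rank → ℤ) := {v | 1 ≤ heightHom _ v}

/-- Weights of negative height. -/
def negSet (_R : RootData D) : Set (Fin D.rank → ℤ) := {v | 1 ≤ (-heightHom _) v}

theorem mem_posSet {v : Fin D.rank → ℤ} : v ∈ R.posSet ↔ 1 ≤ heightHom _ v := Iff.rfl

theorem mem_negSet {v : Fin D.rank → ℤ} : v ∈ R.negSet ↔ heightHom _ v ≤ -1 := by
  show 1 ≤ -(heightHom D.rank v) ↔ _
  omega

theorem posSet_add : ∀ x ∈ R.posSet, ∀ y ∈ R.posSet, x + y ∈ R.posSet := fun x hx y hy => by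
  simp only [mem_posSet, map_add] at hx hy ⊢; linarith

theorem negSet_add : ∀ x ∈ R.negSet, ∀ y ∈ R.negSet, x + y ∈ R.negSet := fun x hx y hy => by
  simp only [mem_negSet, map_add] at hx hy ⊢; linarith

theorem disjoint_pos_neg : Disjoint R.posSet R.negSet := Set.disjoint_left.2 fun v h1 h2 => by
  simp only [mem_posSet, mem_negSet] at h1 h2; linarith

variable (F : Type*) [Field F]

/-- The unitriangular group for positive height. -/
def upperUni : Subgroup (GL D.Idx F) := uniGroup R.wt R.posSet R.posSet_add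

/-- The unitriangular group for negative height. -/
def lowerUni : Subgroup (GL D.Idx F) := uniGroup R.wt R.negSet R.negSet_add

theorem posUnipotent_le_upperUni : D.posUnipotent F ≤ R.upperUni F := by
  refine (Subgroup.closure_le _).2 ?_
  rintro g ⟨r, t, hr, hg⟩
  refine mem_uniGroup_of_supp (heightHom _) (fun _ h => h) ?_
  rw [hg]
  refine R.supp_x_sub_one r t fun _ k hk => ?_
  have := R.one_le_height_of_pos hr
  have hk' : (1 : ℤ) ≤ k := by omega
  refine R.mem_posSet.2 ?_
  rw [map_zsmul, smul_eq_mul]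
  nlinarith

theorem negUnipotent_le_lowerUni : D.negUnipotent F ≤ R.lowerUni F := by
  refine (Subgroup.closure_le _).2 ?_
  rintro g ⟨r, t, hr, hg⟩
  refine mem_uniGroup_of_supp (-heightHom _) (fun _ h => h) ?_
  rw [hg]
  refine R.supp_x_sub_one r t fun _ k hk => ?_
  have := R.height_le_neg_one_of_neg hr
  have hk' : (1 : ℤ) ≤ k := by omega
  refine R.mem_negSet.2 ?_
  rw [map_zsmul, smul_eq_mul]
  nlinarith

theorem height_sub_lt (a b : D.Idx) (hN : 0 < D.nroots) :
    heightHom _ (R.wt a) - heightHom _ (R.wt b) < ((D.rank + D.nroots : ℕ) : ℤ) := by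
  have h1 : ∀ a : D.Idx, 2 * |heightHom _ (R.wt a)| + 1 ≤ ((D.rank + D.nroots : ℕ) : ℤ) := by
    rintro (i | s)
    · simp; omega
    · rw [R.wt_inr, heightHom_apply, Int.abs_eq_natAbs]
      exact_mod_cast R.height_le s.val s.isLt
  have := h1 a; have := h1 b
  have := abs_le.1 (le_refl |heightHom _ (R.wt a)|)
  have := abs_le.1 (le_refl |heightHom _ (R.wt b)|)
  omega

theorem upperUni_pow_eq_zero (hN : 0 < D.nroots) {g : GL D.Idx F} (hg : g ∈ R.upperUni F) :
    ((g : Matrix D.Idx D.Idx F) - 1) ^ (D.rank + D.nroots) = 0 :=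
  hg.1.pow_eq_zero (heightHom _) (fun _ h => h) fun a b => R.height_sub_lt a b hN

theorem upperUni_nilpotent (hN : 0 < D.nroots) : Group.IsNilpotent ↥(R.upperUni F) := by
  set n := D.rank + D.nroots with hn
  let H : ℕ → Subgroup ↥(R.upperUni F) := fun m =>
    (uniGroup R.wt {v | ((m + 1 : ℕ) : ℤ) ≤ heightHom _ v} (fun x hx y hy => by
      simp only [Set.mem_ofPred_eq, map_add] at hx hy ⊢; omega)).subgroupOf (R.upperUni F)
  refine Subgroup.nilpotent_iff_lowerCentralSeries.2 ⟨n, ?_⟩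
  have hle : ∀ m, Subgroup.lowerCentralSeries (⊤ : Subgroup ↥(R.upperUni F)) m ≤ H m := by
    intro m
    induction m with
    | zero =>
      rintro ⟨g, hg⟩ -
      exact Subgroup.mem_subgroupOf.2 (mem_uniGroup_of_supp (heightHom _)
        (fun x hx => by simpa using hx) (hg.1.mono fun v hv => by simpa using R.mem_posSet.1 hv))
    | succ m ih =>
      rw [Subgroup.lowerCentralSeries_succ, Subgroup.commutator_le]
      rintro ⟨a, ha⟩ ha' ⟨b, hb⟩ -
      refine Subgroup.mem_subgroupOf.2 (mem_uniGroup_of_supp (heightHom _)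
        (fun x hx => by simp only [Set.mem_ofPred_eq] at hx; omega) ?_)
      exact commutator_mem_of_degree (heightHom _) (Nat.le_add_left 1 m)
        (Subgroup.mem_subgroupOf.1 (ih ha')).1 hb.1
  refine (Subgroup.eq_bot_iff_forall _).2 fun g hg => Subtype.ext (Units.ext ?_)
  have h1 := (Subgroup.mem_subgroupOf.1 (hle n hg)).1
  refine sub_eq_zero.1 ?_
  ext a b
  refine h1.apply_eq_zero ?_
  simp only [Set.mem_ofPred_eq, map_sub, not_le]
  have := R.height_sub_lt a b hN
  omega

end RootData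

end CfsgLib.ChevStr
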