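import Cfsg.Agent.Lib.ChevStr.Weights

/-!
Simple reflections of the roots of a datum, the Weyl group acting on the roots, inversion sets and
the longest element.
-/

set_option autoImplicit false

namespace CfsgLib.ChevStr

open Cfsg.Lie

/-- Pairing of a functional given by its values on the fundamental roots with a root vector. -/
def pairing {l : ℕ} (f : Fin l → ℤ) : (Fin l → ℤ) →+ ℤ where
  toFun v := ∑ j, f j * v j
  map_zero' := by simp
  map_add' v w := by simp [mul_add, Finset.sum_add_distrib]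

theorem pairing_apply {l : ℕ} (f v : Fin l → ℤ) : pairing f v = ∑ j, f j * v j := rfl

theorem pairing_single {l : ℕ} (f : Fin l → ℤ) (j : Fin l) : pairing f (Pi.single j 1) = f j := by
  rw [pairing_apply, Fintype.sum_eq_single j]
  · simp
  · intro k hk; simp [hk]

variable {D : ChevalleyDatum}

/-- Computable check for the fundamental reflections on the root table. -/
def reflCheck (R : RootData D) : Bool :=
  (List.finRange D.rank).all fun i =>
    decide (D.cartan i.val (D.simple i.val) = 2) &&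
    (List.range D.nroots).all fun s =>
      decide (D.reflectRoot i.val s < D.nroots) &&
      ((List.finRange D.rank).all fun j => decide (R.α (D.reflectRoot i.val s) j =
        R.α s j - if j = i then D.cartan i.val s else 0)) &&
      decide (((List.finRange D.rank).all fun j => decide (j = i) || decide (R.α s j = 0)) = true →
        s = D.simple i.val ∨ s = D.neg (D.simple i.val)) &&
      (decide ((D.coroot.getD s #[]).getD i.val 0 = 0) == decide (R.α s i = 0)) &&
      decide (D.IsPosRoot s → s ≠ D.simple i.val → R.α s i ≠ 0 →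
        ((List.finRange D.rank).any fun j => decide (0 < R.α s j) && decide (0 < D.cartan j.val s)) = true)

/-- The fundamental reflections permute the roots as reflections of the coefficient vectors. -/
structure ReflData (R : RootData D) : Prop where
  cartan_self : ∀ i : Fin D.rank, D.cartan i.val (D.simple i.val) = 2
  refl_lt : ∀ i : Fin D.rank, ∀ s < D.nroots, D.reflectRoot i.val s < D.nroots
  α_refl : ∀ i : Fin D.rank, ∀ s < D.nroots,
    R.α (D.reflectRoot i.val s) = R.α s - D.cartan i.val s • (Pi.single i 1 : Fin D.rank → ℤ)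
  only : ∀ i : Fin D.rank, ∀ s < D.nroots, (∀ j, j ≠ i → R.α s j = 0) →
    s = D.simple i.val ∨ s = D.neg (D.simple i.val)
  coroot_zero_iff : ∀ i : Fin D.rank, ∀ s < D.nroots,
    ((D.coroot.getD s #[]).getD i.val 0 = 0 ↔ R.α s i = 0)
  descent : ∀ i : Fin D.rank, ∀ s, D.IsPosRoot s → s ≠ D.simple i.val → R.α s i ≠ 0 →
    ∃ j : Fin D.rank, 0 < R.α s j ∧ 0 < D.cartan j.val s

theorem ReflData.ofCheck {R : RootData D} (h : reflCheck R = true) : ReflData R := by
  simp only [reflCheck, Bool.and_eq_true, List.all_eq_true, List.mem_range, List.mem_finRange,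
    true_implies, decide_eq_true_eq, List.any_eq_true, true_and, beq_iff_eq, decide_eq_decide] at h
  refine ⟨fun i => (h i).1, fun i s hs => ((h i).2 s hs).1.1.1.1, fun i s hs => funext fun j => ?_,
    fun i s hs hj => ((h i).2 s hs).1.1.2 fun j => ?_, fun i s hs => ((h i).2 s hs).1.2,
    fun i s hs h1 h2 => ((h i).2 s hs.1).2 hs h1 h2⟩
  · rw [((h i).2 s hs).1.1.1.2 j]
    by_cases hji : j = i <;> simp [hji]
  · by_cases hji : j = i
    · simp [hji]
    · simp [hj j hji]

namespace RootData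

variable (R : RootData D)

include R in
theorem cartan_sum (i : Fin D.rank) {s : ℕ} (hs : s < D.nroots) :
    D.cartan i.val s = pairing (fun j => D.cartan i.val (D.simple j.val)) (R.α s) := by
  rw [R.cartan_eq i s hs, pairing_apply]
  exact Finset.sum_congr rfl fun j _ => mul_comm _ _

/-- A root as a linear combination of fundamental roots. -/
theorem α_eq_sum_simple (s : ℕ) :
    R.α s = ∑ j : Fin D.rank, R.α s j • R.α (D.simple j.val) := by
  simp only [R.α_simple]
  exact pi_eq_sum_univ' (R.α s)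

end RootData

namespace ReflData

variable {R : RootData D} (hR : ReflData R)

include hR

theorem refl_refl (i : Fin D.rank) {s : ℕ} (hs : s < D.nroots) :
    D.reflectRoot i.val (D.reflectRoot i.val s) = s := by
  have h1 := hR.refl_lt i s hs
  refine R.α_inj (hR.refl_lt i _ h1) hs ?_
  rw [hR.α_refl i _ h1, R.cartan_sum i h1, hR.α_refl i s hs, map_sub, map_zsmul, ← R.cartan_sum i hs,
    pairing_single, hR.cartan_self i, smul_eq_mul, ← sub_eq_zero]
  module

theorem refl_simple_self (i : Fin D.rank) :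
    D.reflectRoot i.val (D.simple i.val) = D.neg (D.simple i.val) := by
  refine R.α_inj (hR.refl_lt i _ (R.simple_lt i)) (R.neg_lt _ (R.simple_lt i)) ?_
  rw [hR.α_refl i _ (R.simple_lt i), R.α_neg _ (R.simple_lt i), R.α_simple, hR.cartan_self]
  module

/-- A fundamental reflection keeps every positive root other than its own positive. -/
theorem refl_pos (i : Fin D.rank) {s : ℕ} (hs : D.IsPosRoot s) (hne : s ≠ D.simple i.val) :
    D.IsPosRoot (D.reflectRoot i.val s) := by
  have hpos := ((R.isPos_iff s).1 hs).2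
  obtain ⟨j, hji, hj⟩ : ∃ j, j ≠ i ∧ R.α s j ≠ 0 := by
    by_contra hcon
    push Not at hcon
    rcases hR.only i s hs.1 hcon with h | h
    · exact hne h
    · exact R.not_pos_and_neg hs
        (by rw [h, R.isNeg_neg_iff (R.simple_lt i)]; exact R.simple_pos i)
  have h1 := hR.refl_lt i s hs.1
  refine (R.pos_or_neg h1).resolve_right fun hn => hj ?_
  have h2 := ((R.isNeg_iff _).1 hn).2 j
  rw [hR.α_refl i s hs.1] at h2
  simp [hji] at h2
  exact le_antisymm h2 (hpos j)

/-- The fundamental reflection as a permutation of the roots. -/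
def sPerm (i : Fin D.rank) : Equiv.Perm (Fin D.nroots) where
  toFun s := ⟨D.reflectRoot i.val s.val, hR.refl_lt i s.val s.isLt⟩
  invFun s := ⟨D.reflectRoot i.val s.val, hR.refl_lt i s.val s.isLt⟩
  left_inv s := Fin.ext (hR.refl_refl i s.isLt)
  right_inv s := Fin.ext (hR.refl_refl i s.isLt)

omit hR in
@[simp] theorem sPerm_val (hR : ReflData R) (i : Fin D.rank) (s : Fin D.nroots) :
    (hR.sPerm i s).val = D.reflectRoot i.val s.val := rfl

theorem sPerm_sPerm (i : Fin D.rank) (s : Fin D.nroots) : hR.sPerm i (hR.sPerm i s) = s :=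
  (hR.sPerm i).left_inv s

theorem sPerm_mul_self (i : Fin D.rank) : hR.sPerm i * hR.sPerm i = 1 :=
  Equiv.ext (hR.sPerm_sPerm i)

/-- The group generated by the fundamental reflections. -/
def weyl : Subgroup (Equiv.Perm (Fin D.nroots)) := Subgroup.closure (Set.range hR.sPerm)

theorem sPerm_mem (i : Fin D.rank) : hR.sPerm i ∈ hR.weyl := Subgroup.subset_closure ⟨i, rfl⟩

/-- Induction along products with fundamental reflections on the right. -/
theorem weyl_induction {P : Equiv.Perm (Fin D.nroots) → Prop} (one : P 1)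
    (mul : ∀ w ∈ hR.weyl, ∀ i, P w → P (w * hR.sPerm i)) : ∀ w ∈ hR.weyl, P w := by
  intro w hw
  refine Subgroup.closure_induction_right (p := fun x _ => P x) one ?_ ?_ hw
  · rintro x hx _ ⟨i, rfl⟩ ih
    exact mul x hx i ih
  · rintro x hx _ ⟨i, rfl⟩ ih
    rw [inv_eq_of_mul_eq_one_right (hR.sPerm_mul_self i)]
    exact mul x hx i ih

theorem α_weyl : ∀ w ∈ hR.weyl, ∀ s : Fin D.nroots,
    R.α (w s) = ∑ j : Fin D.rank, R.α s j • R.α (w ⟨D.simple j.val, R.simple_lt j⟩) := by
  refine hR.weyl_induction (fun s => R.α_eq_sum_simple s) fun w _ i ih => ?_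
  let L : (Fin D.rank → ℤ) →+ (Fin D.rank → ℤ) :=
    { toFun := fun v => ∑ j : Fin D.rank, v j • R.α (w ⟨D.simple j.val, R.simple_lt j⟩)
      map_zero' := by simp
      map_add' := fun v v' => by simp [add_smul, Finset.sum_add_distrib] }
  let M : (Fin D.rank → ℤ) →+ (Fin D.rank → ℤ) :=
    { toFun := fun v => v - pairing (fun j => D.cartan i.val (D.simple j.val)) v •
        (Pi.single i 1 : Fin D.rank → ℤ)
      map_zero' := by simp
      map_add' := fun v v' => by rw [map_add, add_smul]; abel }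
  have key : ∀ s : Fin D.nroots, R.α ((w * hR.sPerm i) s) = L (M (R.α s)) := fun s => by
    rw [Equiv.Perm.mul_apply, ih]
    show L (R.α (hR.sPerm i s)) = _
    rw [hR.sPerm_val, hR.α_refl i s.val s.isLt, R.cartan_sum i s.isLt]
    rfl
  intro s
  rw [key]
  simp only [key]
  conv_lhs => rw [R.α_eq_sum_simple s]
  simp only [map_sum, map_zsmul]

theorem apply_neg {w : Equiv.Perm (Fin D.nroots)} (hw : w ∈ hR.weyl) (s : Fin D.nroots) :
    (w ⟨D.neg s, R.neg_lt s s.isLt⟩ : ℕ) = D.neg (w s) := by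
  refine R.α_inj (w _).isLt (R.neg_lt _ (w s).isLt) ?_
  rw [R.α_neg _ (w s).isLt, hR.α_weyl w hw, hR.α_weyl w hw s, ← Finset.sum_neg_distrib]
  exact Finset.sum_congr rfl fun j _ => by
    simp [R.α_neg s.val s.isLt]

theorem apply_pos_of_simple {w : Equiv.Perm (Fin D.nroots)} (hw : w ∈ hR.weyl) {s : Fin D.nroots}
    (hs : D.IsPosRoot s) (h : ∀ j : Fin D.rank, R.α s j ≠ 0 →
      D.IsPosRoot (w ⟨D.simple j.val, R.simple_lt j⟩)) : D.IsPosRoot (w s) := by
  refine (R.isPos_iff _).2 ⟨(w s).isLt, ?_⟩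
  rw [hR.α_weyl w hw s]
  refine Finset.sum_nonneg fun j _ => ?_
  by_cases hj : R.α s j = 0
  · simp [hj]
  · exact smul_nonneg (((R.isPos_iff _).1 hs).2 j) ((R.isPos_iff _).1 (h j hj)).2

omit hR in
/-- The positive roots sent to negative roots. -/
@[nolint unusedArguments]
def invSet (_hR : ReflData R) (w : Equiv.Perm (Fin D.nroots)) : Finset (Fin D.nroots) :=
  Finset.univ.filter fun s => D.IsPosRoot s ∧ D.IsNegRoot (w s)

omit hR in
theorem mem_invSet (hR : ReflData R) {w : Equiv.Perm (Fin D.nroots)} {s : Fin D.nroots} :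
    s ∈ hR.invSet w ↔ D.IsPosRoot s ∧ D.IsNegRoot (w s) := by simp [invSet]

theorem invSet_mul_sPerm {w : Equiv.Perm (Fin D.nroots)} (hw : w ∈ hR.weyl) (i : Fin D.rank)
    (h : D.IsPosRoot (w ⟨D.simple i.val, R.simple_lt i⟩)) :
    (hR.invSet (w * hR.sPerm i)).card = (hR.invSet w).card + 1 := by
  classical
  set p : Fin D.nroots := ⟨D.simple i.val, R.simple_lt i⟩ with hp
  have hsp : hR.sPerm i p = ⟨D.neg p, R.neg_lt p p.isLt⟩ := Fin.ext (hR.refl_simple_self i)
  have h1 : hR.invSet (w * hR.sPerm i) = insert p ((hR.invSet w).image (hR.sPerm i)) := by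
    ext s
    simp only [hR.mem_invSet, Finset.mem_insert, Finset.mem_image, Equiv.Perm.mul_apply]
    constructor
    · rintro ⟨hs, hn⟩
      by_cases hsp' : s = p
      · exact Or.inl hsp'
      · exact Or.inr ⟨hR.sPerm i s, ⟨hR.refl_pos i hs fun e => hsp' (Fin.ext e), hn⟩,
          hR.sPerm_sPerm i s⟩
    · rintro (rfl | ⟨u, ⟨hu, hn⟩, rfl⟩)
      · refine ⟨R.simple_pos i, ?_⟩
        rw [hsp, hR.apply_neg hw, R.isNeg_neg_iff (w p).isLt]
        exact h
      · refine ⟨hR.refl_pos i hu fun e => ?_, by rwa [hR.sPerm_sPerm]⟩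
        have : u = p := Fin.ext e
        subst this
        exact R.not_pos_and_neg h hn
  rw [h1, Finset.card_insert_of_notMem, Finset.card_image_of_injective _ (hR.sPerm i).injective]
  simp only [Finset.mem_image, not_exists, not_and, hR.mem_invSet]
  intro u hu e
  have h2 : u = hR.sPerm i p := by rw [← e, hR.sPerm_sPerm]
  rw [hsp] at h2
  subst h2
  exact R.not_pos_and_neg hu.1 ((R.isNeg_neg_iff p.isLt).2 (R.simple_pos i))

theorem invSet_mul_sPerm_of_neg {w : Equiv.Perm (Fin D.nroots)} (hw : w ∈ hR.weyl) (i : Fin D.rank)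
    (h : D.IsNegRoot (w ⟨D.simple i.val, R.simple_lt i⟩)) :
    (hR.invSet (w * hR.sPerm i)).card + 1 = (hR.invSet w).card := by
  have h1 := hR.invSet_mul_sPerm (hR.weyl.mul_mem hw (hR.sPerm_mem i)) i
  rw [mul_assoc, hR.sPerm_mul_self i, mul_one] at h1
  refine (h1 ?_).symm
  rw [Equiv.Perm.mul_apply,
    show hR.sPerm i ⟨D.simple i.val, R.simple_lt i⟩ =
        ⟨D.neg (D.simple i.val), R.neg_lt _ (R.simple_lt i)⟩ from Fin.ext (hR.refl_simple_self i),
    hR.apply_neg hw ⟨D.simple i.val, R.simple_lt i⟩, R.isPos_neg_iff (w _).isLt]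
  exact h

theorem exists_simple_neg_of_ne_one {w : Equiv.Perm (Fin D.nroots)} (hw : w ∈ hR.weyl)
    (h : hR.invSet w ≠ ∅) : ∃ i : Fin D.rank, D.IsNegRoot (w ⟨D.simple i.val, R.simple_lt i⟩) := by
  by_contra hcon
  push Not at hcon
  refine h (Finset.eq_empty_iff_forall_notMem.2 fun s hs => ?_)
  rw [hR.mem_invSet] at hs
  exact R.not_pos_and_neg (hR.apply_pos_of_simple hw hs.1 fun j _ =>
    (R.pos_or_neg (w _).isLt).resolve_right (hcon j)) hs.2

/-- A conjugate of a fundamental reflection taking one fundamental root to another is the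
fundamental reflection of the latter. -/
theorem mul_sPerm_eq {w : Equiv.Perm (Fin D.nroots)} (hw : w ∈ hR.weyl) {i k : Fin D.rank}
    (h : (w ⟨D.simple i.val, R.simple_lt i⟩ : ℕ) = D.simple k.val) :
    w * hR.sPerm i = hR.sPerm k * w := by
  classical
  let c : ∀ j : Fin D.rank, (Fin D.rank → ℤ) →+ ℤ :=
    fun j => pairing fun m => D.cartan j.val (D.simple m.val)
  let L : (Fin D.rank → ℤ) →+ (Fin D.rank → ℤ) :=
    { toFun := fun v => ∑ j : Fin D.rank, v j • R.α (w ⟨D.simple j.val, R.simple_lt j⟩)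
      map_zero' := by simp
      map_add' := fun v v' => by simp [add_smul, Finset.sum_add_distrib] }
  have hL : ∀ s : Fin D.nroots, R.α (w s) = L (R.α s) := hR.α_weyl w hw
  have hs : ∀ (j : Fin D.rank) (s : Fin D.nroots),
      R.α (hR.sPerm j s) = R.α s - c j (R.α s) • (Pi.single j 1 : Fin D.rank → ℤ) := fun j s => by
    rw [hR.sPerm_val, hR.α_refl j s.val s.isLt, R.cartan_sum j s.isLt]
  set ek : Fin D.rank → ℤ := Pi.single k 1 with hek
  have hei : L (Pi.single i 1) = ek := by
    have h1 := hL ⟨D.simple i.val, R.simple_lt i⟩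
    rw [h, R.α_simple, R.α_simple] at h1
    exact h1.symm
  set T := w * hR.sPerm i * w⁻¹ * hR.sPerm k with hT
  let d : Fin D.nroots → ℤ := fun s => c k (R.α s) - c i (R.α (w⁻¹ (hR.sPerm k s)))
  have hTs : ∀ s, R.α (T s) = R.α s - (c k (R.α s) + c i (R.α (w⁻¹ (hR.sPerm k s)))) • ek := by
    intro s
    rw [hT, Equiv.Perm.mul_apply, Equiv.Perm.mul_apply, Equiv.Perm.mul_apply, hL, hs i, map_sub,
      map_zsmul, hei, ← hL, Equiv.Perm.inv_def, Equiv.apply_symm_apply, hs k, add_smul, sub_sub]
  -- the linear map behind `T`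
  have hTmem : T ∈ hR.weyl := hR.weyl.mul_mem (hR.weyl.mul_mem (hR.weyl.mul_mem hw (hR.sPerm_mem i))
    (hR.weyl.inv_mem hw)) (hR.sPerm_mem k)
  set pk : Fin D.nroots := ⟨D.simple k.val, R.simple_lt k⟩ with hpk
  have hTk : T pk = pk := by
    have h1 : hR.sPerm k pk = ⟨D.neg pk, R.neg_lt pk pk.isLt⟩ := Fin.ext (hR.refl_simple_self k)
    have h2 : w ⟨D.simple i.val, R.simple_lt i⟩ = pk := Fin.ext h
    have h3 : w⁻¹ ⟨D.neg pk, R.neg_lt pk pk.isLt⟩ =
        ⟨D.neg (D.simple i.val), R.neg_lt _ (R.simple_lt i)⟩ := by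
      rw [Equiv.Perm.inv_eq_iff_eq]
      exact Fin.ext (by rw [hR.apply_neg hw ⟨D.simple i.val, R.simple_lt i⟩, h])
    have h4 : hR.sPerm i ⟨D.neg (D.simple i.val), R.neg_lt _ (R.simple_lt i)⟩ =
        ⟨D.simple i.val, R.simple_lt i⟩ := by
      rw [show (⟨D.neg (D.simple i.val), R.neg_lt _ (R.simple_lt i)⟩ : Fin D.nroots) =
        hR.sPerm i ⟨D.simple i.val, R.simple_lt i⟩ from Fin.ext (hR.refl_simple_self i).symm,
        hR.sPerm_sPerm]
    rw [hT, Equiv.Perm.mul_apply, Equiv.Perm.mul_apply, Equiv.Perm.mul_apply, h1, h3, h4, h2]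
  -- iterates of `T` translate along `ek`
  have hiter : ∀ (m : ℕ) (s : Fin D.nroots),
      R.α ((T ^ m) s) = R.α s + (m : ℤ) • (R.α (T s) - R.α s) := by
    intro m
    induction m with
    | zero => simp
    | succ m ih =>
      intro s
      let LT : (Fin D.rank → ℤ) →+ (Fin D.rank → ℤ) :=
        { toFun := fun v => ∑ j : Fin D.rank, v j • R.α (T ⟨D.simple j.val, R.simple_lt j⟩)
          map_zero' := by simp
          map_add' := fun v v' => by simp [add_smul, Finset.sum_add_distrib] }
      have hLT : ∀ s : Fin D.nroots, R.α (T s) = LT (R.α s) := hR.α_weyl T hTmem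
      have hLTk : LT ek = ek := by
        have h1 := hLT pk
        rw [hTk, hpk] at h1
        rw [hek]
        simp only [R.α_simple] at h1
        exact h1.symm
      have h5 : LT (R.α (T s) - R.α s) = R.α (T s) - R.α s := by
        rw [hTs s, sub_sub_cancel_left, map_neg, map_zsmul, hLTk]
      rw [_root_.pow_succ', Equiv.Perm.mul_apply, hLT, ih, map_add, map_zsmul, h5, ← hLT]
      push_cast
      module
  have hT1 : T = 1 := by
    ext s
    refine congrArg Fin.val (Fin.ext (R.α_inj (T s).isLt s.isLt ?_) : T s = s)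
    have h1 := hiter (orderOf T) s
    rw [pow_orderOf_eq_one, Equiv.Perm.one_apply, left_eq_add, smul_eq_zero] at h1
    rcases h1 with h1 | h1
    · exact absurd (by exact_mod_cast h1) (orderOf_pos T).ne'
    · exact sub_eq_zero.1 h1
  have h6 := congrArg (· * hR.sPerm k * w) hT1
  simp only [hT, one_mul] at h6
  rw [← h6, mul_assoc (w * hR.sPerm i * w⁻¹), hR.sPerm_mul_self k, mul_one, inv_mul_cancel_right]

/-- The permutation of a word in the fundamental reflections. -/
def wordPerm (L : List (Fin D.rank)) : Equiv.Perm (Fin D.nroots) := (L.map hR.sPerm).prod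

theorem wordPerm_mem (L : List (Fin D.rank)) : hR.wordPerm L ∈ hR.weyl :=
  hR.weyl.list_prod_mem fun x hx => by
    obtain ⟨i, -, rfl⟩ := List.mem_map.1 hx
    exact hR.sPerm_mem i

theorem exists_wordPerm {w : Equiv.Perm (Fin D.nroots)} (hw : w ∈ hR.weyl) :
    ∃ L, hR.wordPerm L = w := by
  refine hR.weyl_induction (P := fun w => ∃ L, hR.wordPerm L = w) ⟨[], rfl⟩ ?_ w hw
  rintro w - i ⟨L, rfl⟩
  exact ⟨L ++ [i], by simp [wordPerm]⟩

/-- The exchange condition. -/
theorem exchange : ∀ (L : List (Fin D.rank)) (i : Fin D.rank),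
    D.IsNegRoot (hR.wordPerm L ⟨D.simple i.val, R.simple_lt i⟩) →
      ∃ L', L'.length + 1 = L.length ∧ hR.wordPerm L' = hR.wordPerm L * hR.sPerm i := by
  intro L i
  induction L with
  | nil =>
    intro h
    exact absurd h (fun h => R.not_pos_and_neg (R.simple_pos i) (by simpa [wordPerm] using h))
  | cons k L ih =>
    intro h
    have hk : hR.wordPerm (k :: L) = hR.sPerm k * hR.wordPerm L := by simp [wordPerm]
    rw [hk, Equiv.Perm.mul_apply, hR.sPerm_val] at h
    rcases R.pos_or_neg (hR.wordPerm L ⟨D.simple i.val, R.simple_lt i⟩).isLt with hv | hv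
    · have he : (hR.wordPerm L ⟨D.simple i.val, R.simple_lt i⟩ : ℕ) = D.simple k.val := by
        by_contra hne
        exact R.not_pos_and_neg (hR.refl_pos k hv hne) h
      refine ⟨L, rfl, ?_⟩
      rw [hk, mul_assoc, hR.mul_sPerm_eq (hR.wordPerm_mem L) he, ← mul_assoc, hR.sPerm_mul_self k,
        one_mul]
    · obtain ⟨L', hlen, hL'⟩ := ih hv
      refine ⟨k :: L', by simp [hlen], ?_⟩
      rw [hk, mul_assoc, ← hL']
      simp [wordPerm]

theorem eq_one_of_invSet_eq_empty {w : Equiv.Perm (Fin D.nroots)} (hw : w ∈ hR.weyl)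
    (h : hR.invSet w = ∅) : w = 1 := by
  obtain ⟨L, rfl⟩ := hR.exists_wordPerm hw
  clear hw
  obtain ⟨n, hn⟩ : ∃ n, L.length = n := ⟨_, rfl⟩
  induction n using Nat.strong_induction_on generalizing L with
  | _ n ih =>
    rcases List.eq_nil_or_concat L with rfl | ⟨L₀, i, rfl⟩
    · rfl
    · have hcat : hR.wordPerm (L₀.concat i) = hR.wordPerm L₀ * hR.sPerm i := by
        simp [wordPerm, List.concat_eq_append]
      have hneg : D.IsNegRoot (hR.wordPerm L₀ ⟨D.simple i.val, R.simple_lt i⟩) := by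
        refine (R.pos_or_neg (hR.wordPerm L₀ _).isLt).resolve_left fun hp => ?_
        have h1 := hR.invSet_mul_sPerm (hR.wordPerm_mem L₀) i hp
        rw [← hcat, h] at h1
        simp at h1
      obtain ⟨L', hlen, hL'⟩ := hR.exchange L₀ i hneg
      rw [hcat, ← hL']
      refine ih L'.length ?_ L' ?_ rfl
      · rw [List.length_concat] at hn; omega
      · rw [hL', ← hcat]; exact h

/-- Induction adding one inversion at a time. -/
theorem weyl_inv_induction {P : Equiv.Perm (Fin D.nroots) → Prop} (one : P 1)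
    (step : ∀ w ∈ hR.weyl, ∀ i : Fin D.rank, D.IsPosRoot (w ⟨D.simple i.val, R.simple_lt i⟩) →
      P w → P (w * hR.sPerm i)) : ∀ w ∈ hR.weyl, P w := by
  suffices ∀ (n : ℕ), ∀ w ∈ hR.weyl, (hR.invSet w).card = n → P w from
    fun w hw => this _ w hw rfl
  intro n
  induction n using Nat.strong_induction_on with
  | _ n ih =>
    intro w hw hn
    by_cases h0 : hR.invSet w = ∅
    · rw [hR.eq_one_of_invSet_eq_empty hw h0]; exact one
    · obtain ⟨i, hi⟩ := hR.exists_simple_neg_of_ne_one hw h0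
      have hw' := hR.weyl.mul_mem hw (hR.sPerm_mem i)
      have hc := hR.invSet_mul_sPerm_of_neg hw i hi
      have hp : D.IsPosRoot ((w * hR.sPerm i) ⟨D.simple i.val, R.simple_lt i⟩) := by
        rw [Equiv.Perm.mul_apply,
          show hR.sPerm i ⟨D.simple i.val, R.simple_lt i⟩ =
              ⟨D.neg (D.simple i.val), R.neg_lt _ (R.simple_lt i)⟩ from
            Fin.ext (hR.refl_simple_self i),
          hR.apply_neg hw ⟨D.simple i.val, R.simple_lt i⟩, R.isPos_neg_iff (w _).isLt]
        exact hi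
      have h1 := step _ hw' i hp (ih _ (by omega) _ hw' rfl)
      rwa [mul_assoc, hR.sPerm_mul_self i, mul_one] at h1

/-- There is a longest element, sending every positive root to a negative one. -/
theorem exists_longest : ∃ w ∈ hR.weyl, ∀ s : Fin D.nroots, D.IsPosRoot s → D.IsNegRoot (w s) := by
  classical
  obtain ⟨w, hw, hmax⟩ := (Finset.univ.filter fun w => w ∈ hR.weyl).exists_max_image
    (fun w => (hR.invSet w).card) ⟨1, by simp [hR.weyl.one_mem]⟩
  rw [Finset.mem_filter] at hw
  refine ⟨w, hw.2, fun s hs => (R.isNeg_iff _).2 ⟨(w s).isLt, ?_⟩⟩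
  have hsimp : ∀ j : Fin D.rank, D.IsNegRoot (w ⟨D.simple j.val, R.simple_lt j⟩) := fun j =>
    (R.pos_or_neg (w _).isLt).resolve_left fun hp => by
      have h1 := hR.invSet_mul_sPerm hw.2 j hp
      have h2 := hmax (w * hR.sPerm j)
        (Finset.mem_filter.2 ⟨Finset.mem_univ _, hR.weyl.mul_mem hw.2 (hR.sPerm_mem j)⟩)
      omega
  rw [hR.α_weyl w hw.2 s]
  exact Finset.sum_nonpos fun j _ =>
    smul_nonpos_of_nonneg_of_nonpos (((R.isPos_iff _).1 hs).2 j) ((R.isNeg_iff _).1 (hsimp j)).2

end ReflData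

end CfsgLib.ChevStr
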